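/- An element of order 3 whose centraliser is `3.M22` or `6.M22`: first facts. -/
import Cfsg.Agent.SPOR.J4.OddB
import Cfsg.Agent.SPOR.J4.ThreeA

set_option autoImplicit false
set_option maxRecDepth 100000
set_option linter.unusedSectionVars false
set_option linter.unusedVariables false

namespace CL.J4T

open Finset CL.K CL.CG CL.F2M CL.LX CL.MSS Cfsg CL.Golay CL.MAut MulAction CL.FiRec CL.Fus CL.Orb CL.J4
open CL.F24 (mem_zpowers_three)

open scoped Pointwise

variable {G : Type*} [Group G]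

/-- the centraliser of `x` is a perfect central extension of `M22` by `⟨x z⟩`, where `z` may be trivial -/
structure Tri (x z : G) (φ : Subgroup.centralizer ({x} : Set G) →* Spor.M22) : Prop where
  ox : orderOf x = 3
  zz : z * z = 1
  zc : ∀ k, k * x = x * k → k * z = z * k
  surj : Function.Surjective φ
  ker : ∀ k, φ k = 1 ↔ (k : G) ∈ Subgroup.zpowers (x * z)
  perf : commutator (Subgroup.centralizer ({x} : Set G)) = ⊤

theorem exists_tri [Finite G] {x : G} (hx : orderOf x = 3)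
    (hperf : ⁅(⊤ : Subgroup (Subgroup.centralizer ({x} : Set G))),
      (⊤ : Subgroup (Subgroup.centralizer ({x} : Set G)))⁆ = ⊤)
    (hZc : Nat.card (Subgroup.center (Subgroup.centralizer ({x} : Set G))) = 3)
    (e : (Subgroup.centralizer ({x} : Set G)) ⧸ Subgroup.center (Subgroup.centralizer ({x} : Set G)) ≃*
      Spor.M22) : ∃ φ, Tri x 1 φ := by
  have mz : ∀ {c : G}, c ∈ Subgroup.centralizer ({x} : Set G) ↔ c * x = x * c :=
    Subgroup.mem_centralizer_singleton_iff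
  have h1 : Subgroup.zpowers (⟨x, mz.2 rfl⟩ : Subgroup.centralizer ({x} : Set G)) = Subgroup.center _ :=
    Subgroup.eq_of_le_of_card_ge (Subgroup.zpowers_le.2
      (Subgroup.mem_center_iff.2 fun k => Subtype.ext (mz.1 k.2))) (by
        rw [hZc, Nat.card_zpowers, ← Subgroup.orderOf_coe, hx])
  refine ⟨e.toMonoidHom.comp (QuotientGroup.mk' _), hx, mul_one _, fun k _ => by simp,
    e.surjective.comp (QuotientGroup.mk'_surjective _), fun k => ?_, hperf⟩
  change e (k : _ ⧸ _) = 1 ↔ _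
  rw [MulEquiv.map_eq_one_iff, QuotientGroup.eq_one_iff, ← h1,
    ← Subgroup.mem_map_iff_mem (Subgroup.subtype_injective _), MonoidHom.map_zpowers, mul_one]
  rfl

theorem tri_of_six {x z : G} {φ : Subgroup.centralizer ({x} : Set G) →* Spor.M22} (h : Six x z φ) :
    Tri x z φ := ⟨h.ox, h.zz, h.zc, h.surj, h.ker, h.perf⟩

namespace Tri

variable {x z : G} {φ : Subgroup.centralizer ({x} : Set G) →* Spor.M22} (h : Tri x z φ)
include h

theorem x3 : x ^ 3 = 1 := h.ox ▸ pow_orderOf_eq_one x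

theorem x_ne : x ≠ 1 := fun e => by have := h.ox; rw [e, orderOf_one] at this; omega

theorem xx : x * x = x⁻¹ := eq_inv_of_mul_eq_one_left (by rw [← pow_two, ← pow_succ, h.x3])

theorem dec {k : G} (hk : k ∈ Subgroup.zpowers (x * z)) :
    ∃ a ∈ Subgroup.zpowers x, ∃ b, (b = 1 ∨ b = z) ∧ a ^ 3 = 1 ∧ Commute a b ∧ k = a * b := by
  obtain ⟨i, rfl⟩ := hk
  have c : Commute x z := h.zc x rfl
  refine ⟨x ^ i, ⟨i, rfl⟩, z ^ i, (mem_zpowers_of_sq h.zz).1 ⟨i, rfl⟩, ?_, c.zpow_zpow i i, c.mul_zpow i⟩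
  rw [← zpow_natCast, ← zpow_mul, mul_comm, zpow_mul, zpow_natCast, h.x3, one_zpow]

theorem two {k : G} (hk : k ∈ Subgroup.zpowers (x * z)) {n : ℕ} (hn : k ^ 2 ^ n = 1) :
    k = 1 ∨ k = z := by
  obtain ⟨a, -, b, hb, h3, c, rfl⟩ := h.dec hk
  have b2 : b ^ 2 = 1 := by rcases hb with rfl | rfl; exacts [one_pow _, by rw [pow_two, h.zz]]
  have h1 : a ^ 2 ^ (n + 1) = 1 := by
    have := congrArg (· ^ 2) hn
    simp only [c.mul_pow, (c.pow_pow _ _).mul_pow, one_pow] at this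
    rwa [← pow_mul b, mul_comm, pow_mul b, b2, one_pow, mul_one, ← pow_mul, ← pow_succ] at this
  have h2 := (pow_gcd_eq_one (a := a) (m := 2 ^ (n + 1)) (n := 3)).2 ⟨h1, h3⟩
  rw [Nat.Coprime.gcd_eq_one (Nat.Coprime.pow_left _ (by norm_num)), pow_one] at h2
  rwa [h2, one_mul]

theorem three {k : G} (hk : k ∈ Subgroup.zpowers (x * z)) (hn : k ^ 3 = 1) :
    k ∈ Subgroup.zpowers x := by
  obtain ⟨a, ha, b, hb, h3, c, rfl⟩ := h.dec hk
  rcases hb with rfl | rfl
  · rwa [mul_one]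
  · rw [c.mul_pow, h3, one_mul, pow_succ, pow_two, h.zz, one_mul] at hn
    rwa [hn, mul_one]

theorem card_K [Finite G] : ∃ m, Nat.card (Subgroup.centralizer ({x} : Set G)) = 3 ^ 3 * m ∧ ¬ 3 ∣ m := by
  have h1 : φ.ker.map (Subgroup.subtype _) = Subgroup.zpowers (x * z) := by
    refine le_antisymm (by rintro _ ⟨k, hk, rfl⟩; exact (h.ker k).1 hk) (Subgroup.zpowers_le.2 ?_)
    have : x * z ∈ Subgroup.centralizer ({x} : Set G) :=
      Subgroup.mem_centralizer_singleton_iff.2 (by rw [mul_assoc, ← h.zc x rfl])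
    exact ⟨⟨_, this⟩, (h.ker _).2 (Subgroup.mem_zpowers _), rfl⟩
  have : Fact (Nat.Prime 2) := ⟨Nat.prime_two⟩
  have h2 : orderOf z = 1 ∨ orderOf z = 2 :=
    (Nat.dvd_prime Nat.prime_two).1 (orderOf_dvd_of_pow_eq_one (by rw [pow_two, h.zz]))
  rw [← φ.ker.card_mul_index, Subgroup.index_ker, MonoidHom.range_eq_top.2 h.surj, Subgroup.card_top,
    card_M22, ← Subgroup.card_map_of_injective (Subgroup.subtype_injective _), h1, Nat.card_zpowers,
    Commute.orderOf_mul_eq_mul_orderOf_of_coprime (h.zc x rfl) (by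
      rcases h2 with e | e <;> rw [h.ox, e] <;> norm_num), h.ox]
  rcases h2 with e | e <;> rw [e]
  exacts [⟨49280, by norm_num, by norm_num⟩, ⟨98560, by norm_num, by norm_num⟩]

theorem cases {g : G} (hg : g ∈ Subgroup.normalizer (Subgroup.zpowers x : Set G)) :
    g * x = x * g ∨ g * x * g⁻¹ = x⁻¹ := by
  rcases mem_zpowers_three h.x3
    ((Subgroup.mem_normalizer_iff.1 hg x).1 (Subgroup.mem_zpowers x)) with e | e | e
  exacts [absurd (conj_eq_one_iff.1 e) h.x_ne, Or.inl (mul_inv_eq_iff_eq_mul.1 e),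
    Or.inr (e.trans h.xx)]

theorem conj_K {g : G} (hg : g ∈ Subgroup.normalizer (Subgroup.zpowers x : Set G)) {k : G}
    (hk : k * x = x * k) : g * k * g⁻¹ * x = x * (g * k * g⁻¹) := by
  obtain ⟨i, hi⟩ := (Subgroup.mem_normalizer_iff.1 (inv_mem hg) x).1 (Subgroup.mem_zpowers x)
  have h1 := ((show Commute k x from hk).zpow_right i).eq
  simp only [inv_inv] at hi
  rw [hi] at h1
  calc _ = g * (k * (g⁻¹ * x * g)) * g⁻¹ := by group
    _ = _ := by rw [h1]; group

theorem mem_of_cent {k : G} (hk : k * x = x * k)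
    (hc : ∀ l, l * x = x * l → l * k * l⁻¹ * k⁻¹ ∈ Subgroup.zpowers (x * z)) :
    k ∈ Subgroup.zpowers (x * z) := by
  refine (h.ker ⟨k, Subgroup.mem_centralizer_singleton_iff.2 hk⟩).1
    (center_M22 (Subgroup.mem_center_iff.2 fun g => ?_))
  obtain ⟨l, rfl⟩ := h.surj g
  rw [← mul_inv_eq_iff_eq_mul, ← mul_inv_eq_one, ← map_inv, ← map_inv, ← map_mul, ← map_mul,
    ← map_mul, h.ker]
  exact hc l (Subgroup.mem_centralizer_singleton_iff.1 l.2)

theorem norm_z {g : G} (hg : g ∈ Subgroup.normalizer (Subgroup.zpowers x : Set G)) :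
    g * z = z * g := by
  have h1 := h.mem_of_cent (h.conj_K hg (h.zc x rfl).symm) fun l hl => by
    have := h.zc _ (h.conj_K (inv_mem hg) hl)
    rw [show l * (g * z * g⁻¹) * l⁻¹ * (g * z * g⁻¹)⁻¹ =
      g * (g⁻¹ * l * g⁻¹⁻¹ * z) * g⁻¹ * l⁻¹ * (g * z * g⁻¹)⁻¹ by group, this,
      show g * (z * (g⁻¹ * l * g⁻¹⁻¹)) * g⁻¹ * l⁻¹ * (g * z * g⁻¹)⁻¹ = 1 by group]
    exact one_mem _
  rcases h.two h1 (n := 1) (by rw [pow_one, conj_pow, pow_two, h.zz]; simp) with e | e
  exacts [by rw [conj_eq_one_iff.1 e, mul_one, one_mul], mul_inv_eq_iff_eq_mul.1 e]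

variable [Finite G]

theorem syl : ∃ T : Sylow 3 G, Nat.card T = 27 ∧ (∀ a ∈ (T : Subgroup G), a * x = x * a) ∧
    (Subgroup.center (T : Subgroup G)).map (T : Subgroup G).subtype = Subgroup.zpowers x ∧
    ∀ a ∈ (T : Subgroup G), ∀ b ∈ (T : Subgroup G), a * b * a⁻¹ * b⁻¹ ∈ Subgroup.zpowers x := by
  have : Fact (Nat.Prime 3) := ⟨Nat.prime_three⟩
  have mz : ∀ {c : G}, c ∈ Subgroup.centralizer ({x} : Set G) ↔ c * x = x * c :=
    Subgroup.mem_centralizer_singleton_iff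
  obtain ⟨P⟩ : Nonempty (Sylow 3 (Subgroup.centralizer ({x} : Set G))) := inferInstance
  obtain ⟨m0, hm0, hm1⟩ := h.card_K
  have hP : Nat.card P = 3 ^ 3 := card_syl P hm0 hm1
  have xc : (⟨x, mz.2 rfl⟩ : Subgroup.centralizer ({x} : Set G)) ∈ Subgroup.center _ :=
    Subgroup.mem_center_iff.2 fun k => Subtype.ext (mz.1 k.2)
  have hna : ¬ IsMulCommutative (P : Subgroup (Subgroup.centralizer ({x} : Set G))) := fun hc => by
    have h1 := congrArg Subtype.val
      (CL.Tr.pow_index_eq_one_of_mem_center_commutator hc xc (h.perf ▸ Subgroup.mem_top _))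
    exact P.not_dvd_index (h.ox.symm.dvd.trans (orderOf_dvd_of_pow_eq_one (x := x) h1))
  have hB : IsPGroup 3 ((P : Subgroup _).map (Subgroup.centralizer ({x} : Set G)).subtype) :=
    P.isPGroup'.map _
  have e := (P : Subgroup (Subgroup.centralizer ({x} : Set G))).equivMapOfInjective _
    (Subgroup.subtype_injective _)
  have cB : Nat.card ((P : Subgroup _).map (Subgroup.centralizer ({x} : Set G)).subtype) = 3 ^ 3 :=
    (Nat.card_congr e.toEquiv).symm.trans hP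
  have mx : ∀ D : Subgroup G, IsPGroup 3 D → (∀ a ∈ D, a * x = x * a) →
      (P : Subgroup _).map (Subgroup.centralizer ({x} : Set G)).subtype ≤ D →
      D = (P : Subgroup _).map (Subgroup.centralizer ({x} : Set G)).subtype := fun D hD hx hle => by
    rw [← P.is_maximal' (hD.comap_subtype (K := Subgroup.centralizer {x}))
      (Subgroup.map_le_iff_le_comap.1 hle), Subgroup.comap_subtype,
      Subgroup.map_subgroupOf_eq_of_le fun a ha => mz.2 (hx a ha)]
  have bx : ∀ a ∈ (P : Subgroup _).map (Subgroup.centralizer ({x} : Set G)).subtype,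
    a * x = x * a := by rintro _ ⟨a, -, rfl⟩; exact mz.1 a.2
  generalize (P : Subgroup _).map (Subgroup.centralizer ({x} : Set G)).subtype = B at *
  obtain ⟨c1, c2⟩ := CL.PG.card_center_of_cube cB fun hc => hna ⟨⟨fun a b => e.injective (by
    rw [map_mul, map_mul, hc.1.1])⟩⟩
  have sup : ∀ a : G, IsPGroup 3 (Subgroup.zpowers a) → a * x = x * a → (∀ b ∈ B, b * a = a * b) →
      a ∈ B := fun a ha hx hb => by
    rw [← mx (B ⊔ Subgroup.zpowers a) (hB.to_sup_of_normal_right' ha (fun b hb' =>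
      Subgroup.centralizer_le_normalizer _ (by
        rw [centralizer_zpowers]; exact Subgroup.mem_centralizer_singleton_iff.2 (hb b hb'))))
      (fun c hc => mz.1 ((sup_le (fun b hb' => mz.2 (bx b hb'))
        (Subgroup.zpowers_le.2 (mz.2 hx))) hc)) le_sup_left]
    exact Subgroup.mem_sup_right (Subgroup.mem_zpowers a)
  have xB : x ∈ B := sup x (isPGroup_zpowers (k := 1) (by rw [pow_one, h.x3])) rfl bx
  have zB : (Subgroup.center B).map B.subtype = Subgroup.zpowers x :=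
    (Subgroup.eq_of_le_of_card_ge ((Subgroup.zpowers_le (g := x)).2 (Subgroup.mem_map.2 ⟨⟨x, xB⟩,
      Subgroup.mem_center_iff.2 fun b => Subtype.ext (bx b b.2), rfl⟩)) (by
        rw [Subgroup.card_map_of_injective (Subgroup.subtype_injective _), c1, Nat.card_zpowers,
          h.ox])).symm
  obtain ⟨T, hT⟩ := hB.exists_le_sylow
  have : Nontrivial (T : Subgroup G) := ⟨⟨⟨x, hT xB⟩, 1, fun e => h.x_ne (congrArg Subtype.val e)⟩⟩
  have := T.isPGroup'.center_nontrivial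
  obtain ⟨⟨⟨a, ha⟩, hc⟩, a1⟩ := exists_ne (1 : Subgroup.center (T : Subgroup G))
  have ac : ∀ b ∈ (T : Subgroup G), b * a = a * b := fun b hb =>
    congrArg Subtype.val (Subgroup.mem_center_iff.1 hc ⟨b, hb⟩)
  have aB : a ∈ B := sup a (T.isPGroup'.to_le (Subgroup.zpowers_le.2 ha)) (ac x (hT xB)).symm
    fun b hb => ac b (hT hb)
  have ax : a ∈ Subgroup.zpowers x :=
    zB ▸ ⟨⟨a, aB⟩, Subgroup.mem_center_iff.2 fun b => Subtype.ext (ac b (hT b.2)), rfl⟩
  have tx : ∀ b ∈ (T : Subgroup G), b * x = x * b := fun b hb => by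
    rcases mem_zpowers_three h.x3 ax with e | e | e
    · exact absurd (Subtype.ext (Subtype.ext e)) a1
    · exact e ▸ ac b hb
    · exact (Commute.inv_right_iff.1 (show Commute b x⁻¹ from h.xx ▸ e ▸ ac b hb)).eq
  have eT := mx _ T.isPGroup' tx hT
  refine ⟨T, by rw [eT, cB]; rfl, tx, by rw [eT, zB], fun a ha b hb => ?_⟩
  rw [eT] at ha hb
  exact zB ▸ ⟨_, c2 (Subgroup.commutator_mem_commutator (Subgroup.mem_top (⟨a, ha⟩ : B))
    (Subgroup.mem_top (⟨b, hb⟩ : B))), rfl⟩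

theorem exists_y (S : Sylow 3 G) (g : G)
    (hng : ((Subgroup.center (S : Subgroup G)).map (S : Subgroup G).subtype).map
      (MulAut.conj g).toMonoidHom ≤ (S : Subgroup G))
    (hne : ((Subgroup.center (S : Subgroup G)).map (S : Subgroup G).subtype).map
      (MulAut.conj g).toMonoidHom ≠
        ((Subgroup.center (S : Subgroup G)).map (S : Subgroup G).subtype)) :
    ∃ y, IsConj x y ∧ y * x = x * y ∧ y ∉ Subgroup.zpowers x := by
  have : Fact (Nat.Prime 3) := ⟨Nat.prime_three⟩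
  obtain ⟨T, -, h1, h2, -⟩ := h.syl
  obtain ⟨k, rfl⟩ := exists_smul_eq G T S
  have mS : ∀ a, a ∈ ((k • T : Sylow 3 G) : Subgroup G) ↔ k⁻¹ * a * k ∈ (T : Subgroup G) := fun a => by
    rw [Sylow.coe_subgroup_smul, Subgroup.mem_pointwise_smul_iff_inv_smul_mem]; rfl
  have mZ : ∀ (D : Subgroup G) a, a ∈ (Subgroup.center D).map D.subtype ↔
      a ∈ D ∧ ∀ b ∈ D, b * a = a * b := fun D a =>
    ⟨by rintro ⟨a, ha, rfl⟩; exact ⟨a.2, fun b hb =>
      congrArg Subtype.val (Subgroup.mem_center_iff.1 ha ⟨b, hb⟩)⟩,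
      fun ⟨h1, h2⟩ => ⟨⟨a, h1⟩, Subgroup.mem_center_iff.2 fun b => Subtype.ext (h2 b b.2), rfl⟩⟩
  have mP : ∀ a, a ∈ Subgroup.zpowers (k * x * k⁻¹) ↔ k⁻¹ * a * k ∈ Subgroup.zpowers x := fun a =>
    ⟨by rintro ⟨i, rfl⟩; exact ⟨i, by simp only [conj_zpow]; group⟩,
      fun ⟨i, hi⟩ => ⟨i, by simp only [conj_zpow] at hi ⊢; rw [hi]; group⟩⟩
  have h3 : (Subgroup.center ((k • T : Sylow 3 G) : Subgroup G)).map (Subgroup.subtype _) =
      Subgroup.zpowers (k * x * k⁻¹) := Subgroup.ext fun a => by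
    rw [mP, ← h2, mZ, mZ, mS]
    refine and_congr_right fun _ => ⟨fun e b hb => ?_, fun e b hb => ?_⟩
    · have := e (k * b * k⁻¹) ((mS _).2 (by simpa [mul_assoc] using hb))
      calc _ = k⁻¹ * (k * b * k⁻¹ * a) * k := by group
        _ = _ := by rw [this]; group
    · have := e _ ((mS b).1 hb)
      calc _ = k * (k⁻¹ * b * k * (k⁻¹ * a * k)) * k⁻¹ := by group
        _ = _ := by rw [this]; group
  rw [h3, MonoidHom.map_zpowers] at hng hne
  refine ⟨k⁻¹ * (g * (k * x * k⁻¹) * g⁻¹) * k, isConj_iff.2 ⟨k⁻¹ * g * k, by group⟩,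
    h1 _ ((mS _).1 (hng (Subgroup.mem_zpowers _))), fun e => hne ?_⟩
  refine Subgroup.eq_of_le_of_card_ge (Subgroup.zpowers_le.2 ((mP _).2 e)) ?_
  rw [Nat.card_zpowers, Nat.card_zpowers, orderOf_injective _ (MulAut.conj g).injective]

theorem conj_all {y : G} (hy : IsConj x y) (hc : y * x = x * y) (hn : y ∉ Subgroup.zpowers x) :
    (∀ a ∈ Subgroup.zpowers x, IsConj y (y * a)) ∧ IsConj y y⁻¹ := by
  have : Fact (Nat.Prime 3) := ⟨Nat.prime_three⟩
  have mz : ∀ {c : G}, c ∈ Subgroup.centralizer ({x} : Set G) ↔ c * x = x * c :=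
    Subgroup.mem_centralizer_singleton_iff
  have y3 : y ^ 3 = 1 := by
    obtain ⟨c, rfl⟩ := isConj_iff.1 hy
    rw [conj_pow, h.x3]; simp
  obtain ⟨T, t1, t2, t3, t4⟩ := h.syl
  have hT : IsPGroup 3 ((T : Subgroup G).subgroupOf (Subgroup.centralizer {x})) :=
    T.isPGroup'.comap_subtype
  obtain ⟨k, hk⟩ := exists_conj_le (isPGroup_zpowers (x := (⟨y, mz.2 hc⟩ : Subgroup.centralizer {x}))
    (k := 1) (Subtype.ext (by simpa using y3))) hT (by
      have := ((T : Subgroup G).subgroupOf (Subgroup.centralizer {x})).card_mul_index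
      obtain ⟨m0, hm0, hm1⟩ := h.card_K
      rw [Nat.card_congr (Subgroup.subgroupOfEquivOfLe fun a ha => mz.2 (t2 a ha)).toEquiv, t1,
        hm0] at this
      omega)
  have h1 : (k : G) * y * (k : G)⁻¹ ∈ (T : Subgroup G) := hk _ (Subgroup.mem_zpowers _)
  have kc : ∀ l : G, l * x = x * l → ∀ a ∈ Subgroup.zpowers x, l * a = a * l := by
    rintro l hl _ ⟨i, rfl⟩
    exact ((show Commute l x from hl).zpow_right i).eq
  obtain ⟨t, ht, hty⟩ : ∃ t ∈ (T : Subgroup G), t * (k * y * (k : G)⁻¹) ≠ k * y * (k : G)⁻¹ * t := by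
    by_contra! hh
    have h2 : (k : G) * y * (k : G)⁻¹ ∈ Subgroup.zpowers x :=
      t3 ▸ ⟨⟨_, h1⟩, Subgroup.mem_center_iff.2 fun b => Subtype.ext (hh b b.2), rfl⟩
    have h3 := kc _ (mz.1 k.2) _ h2
    rw [inv_mul_cancel_right, mul_right_inj] at h3
    exact hn (h3 ▸ h2)
  obtain ⟨s, b, hb, hs, b1, e⟩ : ∃ s b : G, b ∈ Subgroup.zpowers x ∧ s * x = x * s ∧ b ≠ 1 ∧
      s * y * s⁻¹ = b * y := by
    refine ⟨(k : G)⁻¹ * t * k, _, t4 t ht _ h1, mz.1 (mul_mem (mul_mem (inv_mem k.2)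
      (mz.2 (t2 t ht))) k.2), fun e => hty (by rwa [mul_inv_eq_one, mul_inv_eq_iff_eq_mul] at e), ?_⟩
    have h2 := kc _ (mz.1 k.2) _ (t4 t ht _ h1)
    generalize (k : G) = k at *
    calc _ = k⁻¹ * (t * (k * y * k⁻¹) * t⁻¹ * (k * y * k⁻¹)⁻¹ * k) * y := by group
      _ = _ := by rw [← h2]; group
  have c1 : IsConj y (y * b) := isConj_iff.2 ⟨s, by rw [e, kc y hc b hb]⟩
  have c2 : IsConj y (y * (b * b)) := isConj_iff.2 ⟨s * s, by
    calc _ = s * (s * y * s⁻¹) * s⁻¹ := by group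
      _ = s * (b * y) * s⁻¹ := by rw [e]
      _ = (s * b * s⁻¹) * (s * y * s⁻¹) := by group
      _ = _ := by rw [e, kc s hs b hb, mul_inv_cancel_right, ← mul_assoc,
        kc y hc _ (mul_mem hb hb)]⟩
  have key : ∀ a ∈ Subgroup.zpowers x, IsConj y (y * a) := fun a ha => by
    have e4 : x * x * (x * x) = x := by rw [h.xx, ← mul_inv_rev, h.xx, inv_inv]
    rcases mem_zpowers_three h.x3 ha with rfl | ea | ea
    · rw [mul_one]
    all_goals
      rcases mem_zpowers_three h.x3 hb with eb | eb | eb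
      · exact absurd eb b1
      all_goals
        rw [eb] at c1 c2
        first | exact ea ▸ c1 | exact ea ▸ c2 | exact ea ▸ e4 ▸ c2
  refine ⟨key, ?_⟩
  obtain ⟨l, hl⟩ := real3_M22 (y := φ ⟨y, mz.2 hc⟩) (by
    rw [← map_pow, show (⟨y, mz.2 hc⟩ : Subgroup.centralizer {x}) ^ 3 = 1 from Subtype.ext y3, map_one])
  obtain ⟨l, rfl⟩ := h.surj l
  rw [← mul_eq_one_iff_eq_inv, ← map_inv, ← map_mul, ← map_mul, ← map_mul, h.ker] at hl
  obtain ⟨a, ha, b, hb, -, -, e⟩ := h.dec hl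
  replace e : (l : G) * y * (l : G)⁻¹ * y = a * b := e
  have yb : Commute y b := by rcases hb with rfl | rfl; exacts [Commute.one_right _, h.zc y hc]
  have ya : Commute y a := kc y hc a ha
  have e2 : (l : G) * y * (l : G)⁻¹ = a * b * y⁻¹ := by rw [← e, mul_inv_cancel_right]
  have h4 := h.three (k := a * b) (e ▸ (hl : (l : G) * y * (l : G)⁻¹ * y ∈ _)) (by
    have := congrArg (· ^ 3) e2
    simp only [conj_pow, y3] at this
    rw [((ya.mul_right yb).symm.inv_right).mul_pow, inv_pow, y3] at this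
    simpa using this.symm)
  have h5 := isConj_iff.1 (key _ (inv_mem h4))
  obtain ⟨u, hu⟩ := h5
  refine (_root_.isConj_iff.2 ⟨(l : G), e2⟩).trans (_root_.isConj_iff.2 ⟨u⁻¹, ?_⟩)
  rw [show a * b * y⁻¹ = (y * (a * b)⁻¹)⁻¹ by group, ← hu]
  group

theorem xz_mem : x ∈ Subgroup.zpowers (x * z) ∧ z ∈ Subgroup.zpowers (x * z) := by
  have c : Commute x z := h.zc x rfl
  have h1 : (x * z) ^ 3 = z := by rw [c.mul_pow, h.x3, one_mul, pow_succ, pow_two, h.zz, one_mul]
  have h2 : z ∈ Subgroup.zpowers (x * z) := ⟨(3 : ℕ), (zpow_natCast _ 3).trans h1⟩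
  exact ⟨(Subgroup.mul_mem_cancel_right _ h2).1 (Subgroup.mem_zpowers _), h2⟩

theorem exists_mu_A {u : G} (hu : u * x * u⁻¹ = x⁻¹) :
    ∃ μ : Subgroup.normalizer (Subgroup.zpowers x : Set G) →* Pm, μ.range = Duad ∧
      ∀ a, μ a = 1 ↔ (a : G) ∈ Subgroup.zpowers (x * z) := by
  have mz : ∀ {c d : G}, c ∈ Subgroup.centralizer ({d} : Set G) ↔ c * d = d * c :=
    Subgroup.mem_centralizer_singleton_iff
  have KA : Subgroup.centralizer {x} ≤ Subgroup.normalizer (Subgroup.zpowers x : Set G) :=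
    centralizer_zpowers x ▸ Subgroup.centralizer_le_normalizer _
  have zK : ∀ a ∈ Subgroup.zpowers (x * z), ∀ k, k * x = x * k → Commute k a := by
    rintro _ ⟨i, rfl⟩ k hk
    exact (Commute.mul_right hk (h.zc k hk)).zpow_right i
  have ne : x⁻¹ ≠ x := fun e => h.x_ne (mul_eq_left.1 (h.xx.trans e))
  have hM : ((Subgroup.centralizer {x}).subgroupOf
      (Subgroup.normalizer (Subgroup.zpowers x : Set G))).Normal :=
    ⟨fun k hk g => mz.2 (h.conj_K g.2 (mz.1 hk))⟩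
  have hN : ((Subgroup.zpowers (x * z)).subgroupOf
      (Subgroup.normalizer (Subgroup.zpowers x : Set G))).Normal := ⟨by
    rintro ⟨_, hk⟩ ⟨i, rfl⟩ g
    change (g : G) * (x * z) ^ i * (g : G)⁻¹ ∈ Subgroup.zpowers (x * z)
    rw [← conj_zpow, show (g : G) * (x * z) * (g : G)⁻¹ = g * x * (g : G)⁻¹ * (g * z * (g : G)⁻¹) by
      group, h.norm_z g.2, mul_inv_cancel_right]
    exact zpow_mem (mul_mem (Subgroup.zpowers_le.2 h.xz_mem.1
      ((Subgroup.mem_normalizer_iff.1 g.2 x).1 (Subgroup.mem_zpowers x))) h.xz_mem.2) i⟩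
  have uA : u ∈ Subgroup.normalizer (Subgroup.zpowers x : Set G) :=
    Subgroup.mem_normalizer_fintype (by
      rintro _ ⟨i, rfl⟩
      simp only [← conj_zpow, hu]
      exact zpow_mem (inv_mem (Subgroup.mem_zpowers x)) i)
  let ψ := φ.comp (Subgroup.subgroupOfEquivOfLe KA).toMonoidHom
  obtain ⟨μ, m1, m2, -⟩ := exists_mu (N := (Subgroup.zpowers (x * z)).subgroupOf _)
    (M := (Subgroup.centralizer {x}).subgroupOf (Subgroup.normalizer (Subgroup.zpowers x : Set G)))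
    (fun a ha => mz.2 (zK a ha x rfl).symm.eq) (Subgroup.index_eq_two_iff.2 ⟨⟨u, uA⟩, fun b => by
      have e : ∀ c : G, c * u * x = x * (c * u) ↔ c * x * c⁻¹ = x⁻¹ := fun c => by
        rw [← mul_inv_eq_iff_eq_mul, show c * u * x * (c * u)⁻¹ = c * (u * x * u⁻¹) * c⁻¹ by group,
          hu, ← conj_inv, inv_eq_iff_eq_inv]
      simp only [Subgroup.mem_subgroupOf, mz, Subgroup.coe_mul, e]
      rcases h.cases b.2 with e1 | e1
      · exact Or.inr ⟨e1, fun e2 => ne (by rw [← e2, e1, mul_inv_cancel_right])⟩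
      · exact Or.inl ⟨e1, fun e2 => ne (by rw [← e1, e2, mul_inv_cancel_right])⟩⟩)
    (fun c hc => by
      have h1 : commutator (Subgroup.centralizer ({x} : Set G)) ≤
          (Subgroup.centralizer {(c : G)}).subgroupOf _ := Subgroup.commutator_le.2 fun a _ b _ => by
        have ha : (c : G) * a * (c : G)⁻¹ * (a : G)⁻¹ ∈ Subgroup.zpowers (x * z) := hc ⟨a, KA a.2⟩ a.2
        have hb : (c : G) * b * (c : G)⁻¹ * (b : G)⁻¹ ∈ Subgroup.zpowers (x * z) := hc ⟨b, KA b.2⟩ b.2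
        have := comm_central (zK _ ha a (mz.1 a.2)) (zK _ ha b (mz.1 b.2)) (zK _ hb a (mz.1 a.2))
          (zK _ hb b (mz.1 b.2)) (zK _ ha _ (zK _ hb x rfl).symm.eq)
        rw [Subgroup.mem_subgroupOf, mz, eq_comm, ← mul_inv_eq_iff_eq_mul]
        refine Eq.trans ?_ this
        simp only [Subgroup.coe_mul, Subgroup.coe_inv, commutatorElement_def]
        group
      exact mz.2 (mz.1 (h1 (h.perf ▸ Subgroup.mem_top (⟨x, mz.2 rfl⟩ : Subgroup.centralizer {x})))).symm)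
    ⟨(QuotientGroup.quotientMulEquivOfEq (Subgroup.ext fun k =>
      (h.ker (Subgroup.subgroupOfEquivOfLe KA k)).symm)).trans
      (QuotientGroup.quotientKerEquivOfSurjective ψ
        (h.surj.comp (Subgroup.subgroupOfEquivOfLe KA).surjective))⟩
  exact ⟨μ, m1, m2⟩

end Tri

end CL.J4T
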