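/- An element of order 3 whose centraliser is `3.M22` or `6.M22`: charts of its normaliser. -/
import Cfsg.Agent.SPOR.J4T.Pre

set_option autoImplicit false
set_option maxRecDepth 100000
set_option linter.unusedSectionVars false
set_option linter.unusedVariables false

namespace CL.J4T

open CL.K CL.LX Cfsg CL.Golay CL.MAut CL.J4 Subgroup
open CL.F24 (mem_zpowers_three)
open CL.MSS (isPGroup_zpowers)

variable {G : Type*} [Group G]

/-! ### Facts on `M22` -/

/-- involutions centralising `p31` -/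
def w0 : ℕ := 967812279691448225500382947153381408
def w1 : ℕ := 970499966350631336865513127433832480
def w2 : ℕ := 963721886883755259286232606933354528
/-- involutions permuted by `p31` -/
def a0 : ℕ := 981818691054096003685363657089320992
def a1 : ℕ := 966182099583441531322624363496310816
def a2 : ℕ := 965128854020860192151391391390468128
def c3L : List ℕ := [970500791449591099306570935000676512, 975612484008094413386725648678326496, 976788315013198034593886995928763680, 970006773529318871630651234394901536, 979371073237361396160936725030605120, 976499238811271432324170544201387424, 984818244535754528103549039458486304, 963523895160883013095970922508534944]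
def c2L : List ℕ := [960867210190520854341811623226104480, 964726678093430505932368374721388928, 969113320199188558470514299806095488, 968491761268378694193725303608071296, 962617274010577128301490374841088032, 972587936214140756287191508377284064, 968837827055935392403753770953579776, 984189450834467603338075246832979488, 967532632294236564590130186612788480, 956951075139732583186672986606766528, 961361325315799848319734031941451008, 965815609409284624471789727573980448, 963835760655693586752773005374705984, 964855366932554539038201131704797824, 970167597493932109885334855407096480, 975676976631898783484812312063837632, 982954420697529770386089926257494496, 975752638161056093104037567119108672, 958319384888236891029307028621347488, 964004213613392175947819000551418528, 961204159354862291348735539068676288, 977861088500003494998751535147093440, 967905088709091953018699464733767328, 975526000438621023520599077253928640,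 961409413532051550358285852018547968, 979245062761511683400514332565745312, 979648636511415538525078879246668000, 970172875059731583819290975218965152, 968410532422533293299710928887267808, 979331401579623702601408580014981440, 962659235303626376593046041549554144, 971335423183774371062058127069984384, 966037648770898845492487624686973504, 980221583561802677328625029278119552, 978892006359934997665120486416831808]

/-- a code of an element of `M22` -/
noncomputable def okI (P : ℕ) : Bool := okM P && t22 P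
/-- a code of an element of the duad group -/
noncomputable def okD (P : ℕ) : Bool := okM P && th22 P

theorem rI {P : ℕ} (h : okI P = true := by decide +kernel) : R (pm P) P := rp (inM h)
theorem rD {P : ℕ} (h : okD P = true := by decide +kernel) : R (pm P) P := rp (inD h)
theorem mI {P : ℕ} (h : okI P = true := by decide +kernel) : pm P ∈ Spor.M22 := (inM h).permOf_mem
theorem mD {P : ℕ} (h : okD P = true := by decide +kernel) : pm P ∈ Duad := (inD h).permOf_mem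

theorem req {g h : Pm} {P Q : ℕ} (hg : R g P) (hh : R h Q)
    (e : Nat.beq P Q = true := by decide +kernel) : g = h := MAut.R.eq_of hg hh (CG.eq_of_beq e)

theorem R_t22 {g : Pm} {P : ℕ} (h : R g P) (hD : g ∈ Duad) : g ∈ Spor.M22 ↔ t22 P = true :=
  ⟨fun m => mem22.2 g P m h, fun e => h.permOf_eq ▸ (in22 ⟨g, hD.1, h⟩ e).permOf_mem⟩

/-- a check over the centraliser of `S` in the duad group -/
noncomputable def allC (S : ℕ) (p : ℕ → Bool) : Bool := allP24 (PC.cConj 5 31 S S) p lvD [] one24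

theorem all_cent {g s : Pm} {S : ℕ} {p : ℕ → Bool} (hs : R s S) (hg : g ∈ Duad) (e : g * s = s * g)
    (hp : allC S p = true) : ∃ P, R g P ∧ p P = true := all_Duad (Enc.Snd.cConj hs hs) hp hg e

theorem three22 {g : Pm} (hg : g ∈ Spor.M22) (h3 : g ^ 3 = 1) (h1 : g ≠ 1) :
    ∃ k ∈ Spor.M22, k * g * k⁻¹ = pm p31 := by
  have : Fact (Nat.Prime 3) := ⟨Nat.prime_three⟩
  obtain ⟨a1, a2⟩ := sub_M22 T3_le (p := 3) (k := 2) (m := 49280) card_T3 (by norm_num) (by norm_num)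
    (by norm_num)
  obtain ⟨k, hk⟩ := exists_conj_le (isPGroup_zpowers (x := (⟨g, hg⟩ : Spor.M22)) (k := 1)
    (Subtype.ext (by simpa using h3))) a1 a2
  obtain ⟨P, hP, h⟩ := hk _ (mem_zpowers _)
  have : lall (fun P => Nat.beq P one24 || lany (fun C => okI C && Nat.beq (conj24 C P) p31) c3L) T3L =
    true := by decide +kernel
  rcases Bool.or_eq_true_iff.1 (lall_iff.1 this P hP) with e | e
  · exact absurd (conj_eq_one_iff.1 (req h Golay.R.one e)) h1
  · obtain ⟨C, -, e⟩ := lany_iff.1 e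
    rw [Bool.and_eq_true] at e
    exact ⟨pm C * k, mul_mem (mI e.1) k.2, by
      rw [← req ((rI e.1).conj h) rI e.2]; simp [mul_assoc]⟩

theorem two22 {g : Pm} (hg : g ∈ Spor.M22) (h2 : g * g = 1) (h1 : g ≠ 1) :
    ∃ k ∈ Spor.M22, k * g * k⁻¹ = pm w0 := by
  have : Fact (Nat.Prime 2) := ⟨Nat.prime_two⟩
  obtain ⟨a1, a2⟩ := sub_M22 S2_le (p := 2) (k := 7) (m := 3465) card_S2 (by norm_num) (by norm_num)
    (by norm_num)
  obtain ⟨k, hk⟩ := exists_conj_le (isPGroup_zpowers (x := (⟨g, hg⟩ : Spor.M22)) (k := 1)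
    (Subtype.ext (by simpa [pow_two] using h2))) a1 a2
  have h3 : (k : Pm) * g * (k : Pm)⁻¹ ∈ Duad ⊓ K2 := hk _ (mem_zpowers _)
  obtain ⟨P, h, e⟩ := all_cent (p := fun P => !(k2 P && Nat.beq (comp24 P P) one24) ||
    (Nat.beq P one24 || lany (fun C => Nat.beq (conj24 C P) w0) c2L)) R_su h3.1
    (mem_centralizer_singleton_iff.1 h3.2.2.1) (by decide +kernel)
  rcases Bool.or_eq_true_iff.1 (bimp e ((mem_K2 h).1 h3.2) (Nat.beq_eq.mpr
    ((h.comp24_eq_one_iff h).2 (by rw [conj_mul, h2]; simp)))) with e | e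
  · exact absurd (conj_eq_one_iff.1 (req h Golay.R.one e)) h1
  · obtain ⟨C, hC, e⟩ := lany_iff.1 e
    have e1 := lall_iff.1 (show lall okI c2L = true by decide +kernel) C hC
    exact ⟨pm C * k, mul_mem (mI e1) k.2, by
      rw [← req ((rI e1).conj h) rI e]; simp [mul_assoc]⟩

/-! ### Charts -/

/-- the normaliser of `⟨x⟩` -/
abbrev Nm (x : G) : Subgroup G := normalizer (zpowers x : Set G)

theorem mz {c d : G} : c ∈ centralizer ({d} : Set G) ↔ c * d = d * c := mem_centralizer_singleton_iff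

theorem KN {k x : G} (h : k * x = x * k) : k ∈ Nm x :=
  centralizer_le_normalizer _ (by rw [centralizer_zpowers]; exact mz.2 h)

theorem Nm_of [Finite G] {g x : G} (h : g * x * g⁻¹ ∈ zpowers x) : g ∈ Nm x :=
  mem_normalizer_fintype (by
    rintro _ ⟨i, rfl⟩
    simp only [← conj_zpow]
    exact zpow_mem h i)

/-- `μ` maps the normaliser of `⟨x⟩` onto the automorphism group of `M22` with kernel `⟨x z⟩`, and all elements
of order 3 are conjugate -/
structure Tr (x z : G) (μ : G → Pm) : Prop where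
  x3 : x ^ 3 = 1
  x1 : x ≠ 1
  zz : z * z = 1
  zc : ∀ k, k * x = x * k → k * z = z * k
  mul : ∀ a ∈ Nm x, ∀ b ∈ Nm x, μ (a * b) = μ a * μ b
  mem : ∀ a ∈ Nm x, μ a ∈ Duad
  surj : ∀ d ∈ Duad, ∃ a ∈ Nm x, μ a = d
  ker : ∀ a ∈ Nm x, μ a = 1 ↔ a ∈ zpowers (x * z)
  inn : ∀ a ∈ Nm x, μ a ∈ Spor.M22 ↔ a * x = x * a
  perf : commutator (centralizer ({x} : Set G)) = ⊤
  fus : ∀ a : G, a ^ 3 = 1 → a ≠ 1 → IsConj x a
  yx : ∀ y, y * x = x * y → y ^ 3 = 1 → y ∉ zpowers x → ∃ s, s * x = x * s ∧ s * y * s⁻¹ = y * x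
  ey : ∃ y, y * x = x * y ∧ y ^ 3 = 1 ∧ y ∉ zpowers x

theorem comm_M22 {a b : Pm} (ha : a ∈ Duad) (hb : b ∈ Duad) : a * b * a⁻¹ * b⁻¹ ∈ Spor.M22 := by
  by_cases h1 : b ∈ Spor.M22
  · exact mul_mem (norm22 a ha b h1) (inv_mem h1)
  · refine outer_mul (mul_mem (mul_mem ha hb) (inv_mem ha)) (inv_mem hb) (fun e => h1 ?_)
      fun e => h1 (inv_mem_iff.1 e)
    simpa [mul_assoc] using norm22 _ (inv_mem ha) _ e

theorem Tri.exists_tr [Finite G] {x z y : G} {φ : centralizer ({x} : Set G) →* Spor.M22}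
    (h : Tri x z φ) (hy : IsConj x y) (hc : y * x = x * y) (hn : y ∉ zpowers x) :
    ∃ μ, Tr x z μ := by
  classical
  have : Fact (Nat.Prime 3) := ⟨Nat.prime_three⟩
  obtain ⟨u, hu⟩ := isConj_iff.1 hy
  obtain ⟨k1, k2⟩ := h.conj_all hy hc hn
  obtain ⟨w, hw⟩ := isConj_iff.1 k2
  have hi : (u⁻¹ * w * u) * x * (u⁻¹ * w * u)⁻¹ = x⁻¹ := by
    calc _ = u⁻¹ * (w * (u * x * u⁻¹) * w⁻¹) * u := by group
      _ = _ := by rw [hu, hw, ← hu]; group
  obtain ⟨μ, m1, m2⟩ := h.exists_mu_A hi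
  have y3 : y ^ 3 = 1 := by rw [← hu, conj_pow, h.x3]; simp
  have mm : ∀ a, μ a ∈ Duad := fun a => m1 ▸ ⟨a, rfl⟩
  have i1 : ∀ a : Nm x, (a : G) * x = x * a → μ a ∈ Spor.M22 := fun a ha => by
    have h1 : commutator (centralizer ({x} : Set G)) ≤
        (Spor.M22.comap μ).comap (inclusion fun k hk => KN (mz.1 hk)) :=
      commutator_le.2 fun a _ b _ => by
        simp only [mem_comap, commutatorElement_def, map_mul, map_inv]
        exact comm_M22 (mm _) (mm _)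
    exact h1 (h.perf ▸ mem_top (⟨a, mz.2 ha⟩ : centralizer {x}))
  have f1 : ∀ a, a * x = x * a → a ^ 3 = 1 → a ∉ zpowers x → ∀ b, b * x = x * b → b ^ 3 = 1 →
      b ∉ zpowers x → ∃ s, s * x = x * s ∧ ∃ c ∈ zpowers x, s * a * s⁻¹ = b * c := by
    have f0 : ∀ a (ha : a * x = x * a), a ^ 3 = 1 → a ∉ zpowers x →
        ∃ k : Spor.M22, (k : Pm) * φ ⟨a, mz.2 ha⟩ * (k : Pm)⁻¹ = pm p31 := fun a a1 a2 a3 => by
      obtain ⟨k, hk, e⟩ := three22 (φ ⟨a, mz.2 a1⟩).2 (by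
        rw [← coe_pow, ← map_pow, show (⟨a, mz.2 a1⟩ : centralizer {x}) ^ 3 = 1 from Subtype.ext a2,
          map_one, coe_one]) fun e => a3 (h.three ((h.ker _).1 (Subtype.ext e)) a2)
      exact ⟨⟨k, hk⟩, e⟩
    intro a a1 a2 a3 b b1 b2 b3
    obtain ⟨k, hk⟩ := f0 a a1 a2 a3
    obtain ⟨l, hl⟩ := f0 b b1 b2 b3
    obtain ⟨s, hs⟩ := h.surj (l⁻¹ * k)
    have h1 : ((⟨b, mz.2 b1⟩⁻¹ * (s * ⟨a, mz.2 a1⟩ * s⁻¹) : centralizer {x}) : G) ∈ zpowers (x * z) :=
      (h.ker _).1 (by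
        rw [map_mul, map_mul, map_mul, map_inv, map_inv, hs, inv_mul_eq_one]
        refine Subtype.ext ?_
        simp only [coe_mul, coe_inv]
        calc _ = (l : Pm)⁻¹ * (l * φ ⟨b, mz.2 b1⟩ * (l : Pm)⁻¹) * l := by group
          _ = _ := by rw [hl, ← hk]; group)
    replace h1 : b⁻¹ * (s * a * (s : G)⁻¹) ∈ zpowers (x * z) := h1
    refine ⟨s, mz.1 s.2, _, h.three h1 ?_, (mul_inv_cancel_left _ _).symm⟩
    have c : Commute b (b⁻¹ * (s * a * (s : G)⁻¹)) := by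
      obtain ⟨i, hi⟩ := h1
      exact hi ▸ (Commute.mul_right b1 (h.zc b b1)).zpow_right i
    have h2 := c.mul_pow 3
    rw [mul_inv_cancel_left, conj_pow, a2, b2] at h2
    simpa using h2.symm
  have xi : IsConj x x⁻¹ := isConj_iff.2 ⟨_, hi⟩
  refine ⟨fun a => if ha : a ∈ Nm x then μ ⟨a, ha⟩ else 1, h.x3, h.x_ne, h.zz, h.zc, fun a ha b hb => ?_,
    fun a ha => ?_, fun d hd => ?_, fun a ha => ?_, fun a ha => ?_, h.perf, fun a a3 a1 => ?_,
    fun a a1 a2 a3 => ?_, y, hc, y3, hn⟩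
  · rw [dif_pos (mul_mem ha hb), dif_pos ha, dif_pos hb, ← map_mul]; rfl
  · rw [dif_pos ha]; exact mm _
  · obtain ⟨a, rfl⟩ : d ∈ μ.range := m1 ▸ hd
    exact ⟨a, a.2, dif_pos a.2⟩
  · rw [dif_pos ha, m2]
  · rw [dif_pos ha]
    refine ⟨fun e => (h.cases ha).resolve_right fun e1 => ?_, i1 ⟨a, ha⟩⟩
    obtain ⟨b, hb⟩ : pm pF ∈ μ.range := m1 ▸ mD
    have h1 : μ b ∉ Spor.M22 := by rw [hb, R_t22 rD mD]; decide +kernel
    refine h1 ((h.cases b.2).elim (i1 b) fun e2 => ?_)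
    have h2 := i1 (b * ⟨a, ha⟩) (mul_inv_eq_iff_eq_mul.1 (by
      calc (b : G) * a * x * ((b : G) * a)⁻¹ = b * (a * x * a⁻¹) * (b : G)⁻¹ := by group
        _ = _ := by rw [e1, ← conj_inv, e2, inv_inv]))
    rw [map_mul] at h2
    exact (mul_mem_cancel_right e).1 h2
  · obtain ⟨T, -, t2, -⟩ := h.syl
    obtain ⟨g, hg⟩ := exists_conj_le (isPGroup_zpowers (x := a) (k := 1) (by rw [pow_one, a3]))
      T.isPGroup' T.not_dvd_index
    have h1 := t2 _ (hg a (mem_zpowers a))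
    have h3 : (g * a * g⁻¹) ^ 3 = 1 := by rw [conj_pow, a3]; simp
    refine IsConj.trans ?_ (isConj_iff.2 ⟨g, rfl⟩).symm
    by_cases h2 : g * a * g⁻¹ ∈ zpowers x
    · rcases mem_zpowers_three h.x3 h2 with e | e | e
      exacts [absurd (conj_eq_one_iff.1 e) a1, e ▸ IsConj.refl _, e ▸ h.xx ▸ xi]
    · obtain ⟨s, -, c, hc', e⟩ := f1 _ h1 h3 h2 y hc y3 hn
      exact (hy.trans (k1 c hc')).trans (isConj_iff.2 ⟨s, e⟩).symm
  · obtain ⟨T, t1, t2, t3, t4⟩ := h.syl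
    have hT : IsPGroup 3 ((T : Subgroup G).subgroupOf (centralizer {x})) := T.isPGroup'.comap_subtype
    obtain ⟨k, hk⟩ := exists_conj_le (isPGroup_zpowers (x := (⟨a, mz.2 a1⟩ : centralizer {x}))
      (k := 1) (Subtype.ext (by simpa using a2))) hT (by
        have := ((T : Subgroup G).subgroupOf (centralizer {x})).card_mul_index
        obtain ⟨m0, hm0, hm1⟩ := h.card_K
        rw [Nat.card_congr (subgroupOfEquivOfLe fun a ha => mz.2 (t2 a ha)).toEquiv, t1, hm0] at this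
        omega)
    have h1 : (k : G) * a * (k : G)⁻¹ ∈ (T : Subgroup G) := hk _ (mem_zpowers _)
    have kc : ∀ l : G, l * x = x * l → ∀ a ∈ zpowers x, l * a = a * l := by
      rintro l hl _ ⟨i, rfl⟩
      exact ((show Commute l x from hl).zpow_right i).eq
    obtain ⟨t, ht, hty⟩ : ∃ t ∈ (T : Subgroup G), t * (k * a * (k : G)⁻¹) ≠ k * a * (k : G)⁻¹ * t := by
      by_contra! hh
      have h2 : (k : G) * a * (k : G)⁻¹ ∈ zpowers x :=
        t3 ▸ ⟨⟨_, h1⟩, mem_center_iff.2 fun b => Subtype.ext (hh b b.2), rfl⟩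
      have h3 := kc _ (mz.1 k.2) _ h2
      rw [inv_mul_cancel_right, mul_right_inj] at h3
      exact a3 (h3 ▸ h2)
    obtain ⟨s, b, hb, hs, b1, e⟩ : ∃ s b : G, b ∈ zpowers x ∧ s * x = x * s ∧ b ≠ 1 ∧
        s * a * s⁻¹ = a * b := by
      refine ⟨(k : G)⁻¹ * t * k, _, t4 t ht _ h1, mz.1 (mul_mem (mul_mem (inv_mem k.2)
        (mz.2 (t2 t ht))) k.2), fun e => hty (by rwa [mul_inv_eq_one, mul_inv_eq_iff_eq_mul] at e), ?_⟩
      have h2 := kc _ (mz.1 k.2) _ (t4 t ht _ h1)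
      rw [kc a a1 _ (t4 t ht _ h1)]
      generalize (k : G) = k at *
      calc _ = k⁻¹ * (t * (k * a * k⁻¹) * t⁻¹ * (k * a * k⁻¹)⁻¹ * k) * a := by group
        _ = _ := by rw [← h2]; group
    rcases mem_zpowers_three h.x3 hb with rfl | rfl | rfl
    · exact absurd rfl b1
    · exact ⟨s, hs, e⟩
    · refine ⟨s * s, Commute.mul_left hs hs, ?_⟩
      calc _ = s * (s * a * s⁻¹) * s⁻¹ := by group
        _ = (s * a * s⁻¹) * (s * (x * x) * s⁻¹) := by rw [conj_mul, ← e]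
        _ = _ := by
          rw [e, kc s hs _ hb, mul_inv_cancel_right, mul_assoc, h.xx, ← mul_inv_rev, h.xx, inv_inv]

theorem cj_cj (g a : G) : g⁻¹ * (g * a * g⁻¹) * g = a := by group
theorem cj_cj' (g a : G) : g * (g⁻¹ * a * g) * g⁻¹ = a := by group

theorem comm_cj {g a b : G} : g * a * g⁻¹ * (g * b * g⁻¹) = g * b * g⁻¹ * (g * a * g⁻¹) ↔ a * b = b * a := by
  rw [conj_mul, conj_mul, mul_left_inj, mul_right_inj]

theorem mem_zp_cj {g a b : G} : g * a * g⁻¹ ∈ zpowers (g * b * g⁻¹) ↔ a ∈ zpowers b :=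
  ⟨fun ⟨i, hi⟩ => ⟨i, by simpa only [conj_zpow, mul_left_inj, mul_right_inj] using hi⟩,
    fun ⟨i, hi⟩ => ⟨i, by simp only [conj_zpow, ← hi]⟩⟩

theorem mem_Nm_cj {g a x : G} : g * a * g⁻¹ ∈ Nm (g * x * g⁻¹) ↔ a ∈ Nm x := by
  have key : ∀ g a x : G, a ∈ Nm x → g * a * g⁻¹ ∈ Nm (g * x * g⁻¹) := fun g a x h =>
    mem_normalizer_iff.2 fun b => by
      rw [← cj_cj' g b, conj_mul, conj_inv, conj_mul, mem_zp_cj, mem_zp_cj]
      exact mem_normalizer_iff.1 h _
  refine ⟨fun h => ?_, key g a x⟩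
  simpa [mul_assoc] using key g⁻¹ _ _ h

theorem pow_cj {g a : G} {n : ℕ} (h : a ^ n = 1) : (g * a * g⁻¹) ^ n = 1 := by rw [conj_pow, h]; simp
theorem sq_cj {g a : G} (h : a * a = 1) : g * a * g⁻¹ * (g * a * g⁻¹) = 1 := by rw [conj_mul, h]; simp

theorem eq_one_23 {a : G} (h2 : a * a = 1) (h3 : a ^ 3 = 1) : a = 1 := by
  rwa [pow_succ, pow_two, h2, one_mul] at h3

/-- elements whose commutator `k` is central -/
theorem pow_cj_cen {a b k : G} (e : a * b * a⁻¹ = b * k) (h : a * k = k * a) (n : ℕ) :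
    a ^ n * b * (a ^ n)⁻¹ = b * k ^ n := by
  induction n with
  | zero => simp
  | succ n ih =>
    calc _ = a * (a ^ n * b * (a ^ n)⁻¹) * a⁻¹ := by rw [pow_succ']; group
      _ = a * b * a⁻¹ * (a * k ^ n * a⁻¹) := by rw [ih]; group
      _ = _ := by rw [e, ((show Commute a k from h).pow_right n).eq]; group

namespace Tr

variable {x z : G} {μ : G → Pm} (h : Tr x z μ) {a b k : G}
include h

theorem xx : x * x = x⁻¹ := eq_inv_of_mul_eq_one_left (by rw [← pow_two, ← pow_succ, h.x3])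

theorem ox : orderOf x = 3 := have : Fact (Nat.Prime 3) := ⟨Nat.prime_three⟩; orderOf_eq_prime h.x3 h.x1

theorem x_ne_inv : x⁻¹ ≠ x := fun e => h.x1 (mul_eq_left.1 (h.xx.trans e))

theorem one : μ 1 = 1 := (h.ker 1 (one_mem _)).2 (one_mem _)

theorem inv (ha : a ∈ Nm x) : μ a⁻¹ = (μ a)⁻¹ :=
  eq_inv_of_mul_eq_one_left (by rw [← h.mul _ (inv_mem ha) _ ha, inv_mul_cancel, h.one])

theorem cj (ha : a ∈ Nm x) (hb : b ∈ Nm x) : μ (a * b * a⁻¹) = μ a * μ b * (μ a)⁻¹ := by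
  rw [h.mul _ (mul_mem ha hb) _ (inv_mem ha), h.mul _ ha _ hb, h.inv ha]

theorem pow (ha : a ∈ Nm x) (n : ℕ) : μ (a ^ n) = μ a ^ n := by
  induction n with
  | zero => simpa using h.one
  | succ n ih => rw [pow_succ, h.mul _ (pow_mem ha n) _ ha, ih, pow_succ]

theorem cases (ha : a ∈ Nm x) : a * x = x * a ∨ a * x * a⁻¹ = x⁻¹ := by
  rcases mem_zpowers_three h.x3 ((mem_normalizer_iff.1 ha x).1 (mem_zpowers x)) with e | e | e
  exacts [absurd (conj_eq_one_iff.1 e) h.x1, Or.inl (mul_inv_eq_iff_eq_mul.1 e), Or.inr (e.trans h.xx)]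

theorem xz : x * z = z * x := h.zc x rfl

theorem cen (hk : k ∈ zpowers (x * z)) (ha : a * x = x * a) : a * k = k * a := by
  obtain ⟨i, rfl⟩ := hk
  exact ((Commute.mul_right ha (h.zc a ha)).zpow_right i).eq

theorem cen_x (hk : k ∈ zpowers (x * z)) : k * x = x * k := (h.cen hk rfl).symm

theorem z_mem : z ∈ zpowers (x * z) := ⟨(3 : ℕ), (zpow_natCast _ 3).trans (by
  rw [(show Commute x z from h.xz).mul_pow, h.x3, one_mul, pow_succ, pow_two, h.zz, one_mul])⟩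

theorem x_mem : x ∈ zpowers (x * z) := (mul_mem_cancel_right h.z_mem).1 (mem_zpowers _)

theorem six (hk : k ∈ zpowers (x * z)) : k ^ 6 = 1 := by
  obtain ⟨i, rfl⟩ := hk
  have : (x * z) ^ 6 = 1 := by
    rw [(show Commute x z from h.xz).mul_pow, show 6 = 3 * 2 from rfl, pow_mul, h.x3, mul_comm, pow_mul,
      pow_two z, h.zz]; simp
  rw [← zpow_natCast, ← zpow_mul, mul_comm, zpow_mul, zpow_natCast, this, one_zpow]

theorem dec (hk : k ∈ zpowers (x * z)) : ∃ a ∈ zpowers x, k = a ∨ k = a * z := by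
  obtain ⟨i, rfl⟩ := hk
  have := (show Commute x z from h.xz).mul_zpow i
  rcases (mem_zpowers_of_sq h.zz).1 ⟨i, rfl⟩ with e | e <;> refine ⟨x ^ i, ⟨i, rfl⟩, ?_⟩ <;>
    simp only [this, show z ^ i = _ from e, mul_one, true_or, or_true]

theorem cube (ha : a ∈ zpowers x) : a ^ 3 = 1 := by
  obtain ⟨i, rfl⟩ := ha
  simp only
  rw [← zpow_natCast, ← zpow_mul, mul_comm, zpow_mul, zpow_natCast, h.x3, one_zpow]

theorem two (hk : k ∈ zpowers (x * z)) {n : ℕ} (hn : k ^ 2 ^ n = 1) : k = 1 ∨ k = z := by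
  have h1 : k ^ 2 = 1 := by
    have := (pow_gcd_eq_one (a := k ^ 2) (m := 2 ^ n) (n := 3)).2
      ⟨by rw [← pow_mul, mul_comm, pow_mul, hn, one_pow], by rw [← pow_mul, h.six hk]⟩
    rwa [Nat.Coprime.gcd_eq_one (Nat.Coprime.pow_left _ (by norm_num)), pow_one] at this
  obtain ⟨a, ha, rfl | rfl⟩ := h.dec hk
  · exact .inl (eq_one_23 (by rwa [pow_two] at h1) (h.cube ha))
  · have c : Commute a z := h.zc a (h.cen_x (zpowers_le.2 h.x_mem ha))
    rw [c.mul_pow, pow_two z, h.zz, mul_one, pow_two] at h1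
    rw [eq_one_23 h1 (h.cube ha), one_mul]
    exact .inr rfl

theorem two' (hk : k ∈ zpowers (x * z)) (hn : k * k = 1) : k = 1 ∨ k = z :=
  h.two hk (n := 1) (by rwa [pow_one, pow_two])

theorem three (hk : k ∈ zpowers (x * z)) (hn : k ^ 3 = 1) : k ∈ zpowers x := by
  obtain ⟨a, ha, rfl | rfl⟩ := h.dec hk
  · exact ha
  · have c : Commute a z := h.zc a (h.cen_x (zpowers_le.2 h.x_mem ha))
    rw [c.mul_pow, h.cube ha, one_mul, pow_succ, pow_two, h.zz, one_mul] at hn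
    rwa [hn, mul_one]

theorem μx : μ x = 1 := (h.ker x (KN rfl)).2 h.x_mem
theorem μz : μ z = 1 := (h.ker z (KN h.xz.symm)).2 h.z_mem

theorem μ_cen (hk : k ∈ zpowers (x * z)) : μ k = 1 := (h.ker k (KN (h.cen_x hk))).2 hk

/-- elements with the same image -/
theorem eq_of (ha : a ∈ Nm x) (hb : b ∈ Nm x) (e : μ a = μ b) : ∃ k ∈ zpowers (x * z), a = b * k :=
  ⟨b⁻¹ * a, (h.ker _ (mul_mem (inv_mem hb) ha)).1 (by
    rw [h.mul _ (inv_mem hb) _ ha, h.inv hb, e, inv_mul_cancel]), (mul_inv_cancel_left _ _).symm⟩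

theorem conj_K (ha : a ∈ Nm x) (hk : k * x = x * k) : a * k * a⁻¹ * x = x * (a * k * a⁻¹) :=
  (h.inn _ (mul_mem (mul_mem ha (KN hk)) (inv_mem ha))).1 (by
    rw [h.cj ha (KN hk)]; exact norm22 _ (h.mem a ha) _ ((h.inn k (KN hk)).2 hk))

theorem surjK {d : Pm} (hd : d ∈ Spor.M22) : ∃ a, a * x = x * a ∧ μ a = d := by
  obtain ⟨a, ha, rfl⟩ := h.surj d (M22_le_Duad hd)
  exact ⟨a, (h.inn a ha).1 hd, rfl⟩

theorem memK (ha : a * x = x * a) : μ a ∈ Spor.M22 := (h.inn a (KN ha)).2 ha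

theorem mem_of_cent (hk : k * x = x * k) (hc : ∀ l, l * x = x * l → μ l * μ k = μ k * μ l) :
    k ∈ zpowers (x * z) := by
  refine (h.ker k (KN hk)).1 (cent22 _ (h.mem k (KN hk)) fun g hg => ?_)
  obtain ⟨l, hl, rfl⟩ := h.surjK hg
  exact (hc l hl).symm

/-- a central involution of the centraliser -/
theorem eq_z (hk : k * x = x * k) (h2 : k * k = 1) (hc : ∀ l, l * x = x * l → l * k = k * l) :
    k = 1 ∨ k = z :=
  h.two' (h.mem_of_cent hk fun l hl => by
    rw [← h.mul _ (KN hl) _ (KN hk), hc l hl, h.mul _ (KN hk) _ (KN hl)]) h2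

theorem norm_z (ha : a ∈ Nm x) : a * z = z * a := by
  rcases h.eq_z (h.conj_K ha h.xz.symm) (sq_cj h.zz) (fun l hl => by
    rw [← cj_cj' a l, comm_cj]
    simpa using h.zc _ (h.conj_K (inv_mem ha) hl)) with e | e
  exacts [by rw [conj_eq_one_iff.1 e, mul_one, one_mul], mul_inv_eq_iff_eq_mul.1 e]

theorem uniq {z' : G} {μ' : G → Pm} (h' : Tr x z' μ') : z' = z := by
  rcases h.eq_z h'.xz.symm h'.zz h'.zc with e | e
  · rcases h'.eq_z h.xz.symm h.zz h.zc with e' | e'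
    exacts [e.trans e'.symm, e'.symm]
  · exact e

theorem conj (g : G) : Tr (g * x * g⁻¹) (g * z * g⁻¹) fun a => μ (g⁻¹ * a * g) := by
  have m : ∀ a, a ∈ Nm (g * x * g⁻¹) → g⁻¹ * a * g ∈ Nm x := fun a ha => by
    rwa [← cj_cj' g a, mem_Nm_cj] at ha
  have c : ∀ a b : G, a * (g * b * g⁻¹) = g * b * g⁻¹ * a ↔ g⁻¹ * a * g * b = b * (g⁻¹ * a * g) :=
    fun a b => by rw [← comm_cj (g := g) (a := g⁻¹ * a * g), cj_cj']
  have zp : ∀ a b : G, a ∈ zpowers (g * b * g⁻¹) ↔ g⁻¹ * a * g ∈ zpowers b := fun a b => by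
    rw [← mem_zp_cj (g := g) (a := g⁻¹ * a * g), cj_cj']
  refine ⟨pow_cj h.x3, fun e => h.x1 (conj_eq_one_iff.1 e), sq_cj h.zz,
    fun k hk => (c _ _).2 (h.zc _ ((c _ _).1 hk)), fun a ha b hb => ?_, fun a ha => h.mem _ (m a ha),
    fun d hd => ?_, fun a ha => ?_, fun a ha => ?_, ?_,
    fun a a3 a1 => (isConj_iff.2 ⟨g, rfl⟩).symm.trans (h.fus a a3 a1), fun y y1 y2 y3 => ?_, ?_⟩
  · rw [← h.mul _ (m a ha) _ (m b hb)]; congr 1; group
  · obtain ⟨a, ha, rfl⟩ := h.surj d hd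
    exact ⟨_, mem_Nm_cj.2 ha, by rw [cj_cj]⟩
  · rw [h.ker _ (m a ha), conj_mul, zp]
  · rw [h.inn _ (m a ha), c]
  · let e : centralizer ({x} : Set G) →* centralizer ({g * x * g⁻¹} : Set G) :=
      ⟨⟨fun k => ⟨g * k * g⁻¹, mz.2 (comm_cj.2 (mz.1 k.2))⟩, Subtype.ext (by simp)⟩,
        fun a b => Subtype.ext (by simp only [coe_mul]; group)⟩
    have he : Function.Surjective e := fun k =>
      ⟨⟨_, mz.2 ((c _ _).1 (mz.1 k.2))⟩, Subtype.ext (cj_cj' g k)⟩
    rw [_root_.commutator_def, ← map_top_of_surjective e he, ← map_commutator, ← _root_.commutator_def,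
      h.perf]
  · obtain ⟨s, s1, s2⟩ := h.yx (g⁻¹ * y * g) ((c _ _).1 y1) (iconj_pow y2) fun e => y3 ((zp _ _).2 e)
    refine ⟨g * s * g⁻¹, comm_cj.2 s1, ?_⟩
    calc _ = g * (s * (g⁻¹ * y * g) * s⁻¹) * g⁻¹ := by group
      _ = _ := by rw [s2]; group
  · obtain ⟨y, y1, y2, y3⟩ := h.ey
    exact ⟨_, comm_cj.2 y1, pow_cj y2, fun e => y3 (mem_zp_cj.1 e)⟩

theorem rechart {d : Pm} (hd : d ∈ Duad) : Tr x z fun a => d * μ a * d⁻¹ := by
  refine ⟨h.x3, h.x1, h.zz, h.zc, fun a ha b hb => by rw [h.mul a ha b hb, conj_mul],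
    fun a ha => mul_mem (mul_mem hd (h.mem a ha)) (inv_mem hd), fun e he => ?_, fun a ha => ?_,
    fun a ha => ?_, h.perf, h.fus, h.yx, h.ey⟩
  · obtain ⟨a, ha, e1⟩ := h.surj _ (mul_mem (mul_mem (inv_mem hd) he) hd)
    exact ⟨a, ha, by rw [e1, cj_cj']⟩
  · rw [conj_eq_one_iff, h.ker a ha]
  · rw [← h.inn a ha]
    exact ⟨fun e => by simpa [mul_assoc] using norm22 _ (inv_mem hd) _ e, norm22 d hd _⟩

theorem μ_ne (ha : a * x = x * a) (h3 : a ^ 3 = 1) (hn : a ∉ zpowers x) : μ a ≠ 1 :=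
  fun e => hn (h.three ((h.ker a (KN ha)).1 e) h3)

theorem μ_three (ha : a * x = x * a) (h3 : a ^ 3 = 1) (hn : a ∉ zpowers x) :
    ∃ d ∈ Spor.M22, d * μ a * d⁻¹ = pm p31 :=
  three22 (h.memK ha) (by rw [← h.pow (KN ha), h3, h.one]) (h.μ_ne ha h3 hn)

/-- elements over elements of order 3 -/
theorem pow6_three (ha : a * x = x * a) (h3 : μ a ^ 3 = 1) : a ^ 6 = 1 := by
  by_cases h1 : μ a = 1
  · exact h.six ((h.ker a (KN ha)).1 h1)
  obtain ⟨y, y1, y2, y3⟩ := h.ey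
  obtain ⟨d, hd, e1⟩ := three22 (h.memK ha) h3 h1
  obtain ⟨f, hf, e2⟩ := h.μ_three y1 y2 y3
  obtain ⟨s, hs, e3⟩ := h.surjK (mul_mem (inv_mem hd) hf)
  obtain ⟨k, hk, e⟩ := h.eq_of (KN ha) (KN (h.conj_K (KN hs) y1)) (by
    rw [h.cj (KN hs) (KN y1), e3, ← cj_cj d (μ a), e1, ← e2]; group)
  rw [e, (show Commute _ k from h.cen hk (h.conj_K (KN hs) y1)).mul_pow, h.six hk, mul_one,
    show 6 = 3 * 2 from rfl, pow_mul, pow_cj y2, one_pow]

/-- commuting images give a central commutator -/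
theorem comm_ker (ha : a ∈ Nm x) (hb : b ∈ Nm x) (e : μ a * μ b = μ b * μ a) :
    ∃ k ∈ zpowers (x * z), a * b * a⁻¹ = b * k :=
  h.eq_of (mul_mem (mul_mem ha hb) (inv_mem ha)) hb (by rw [h.cj ha hb, e, mul_inv_cancel_right])

theorem comm23 (ha : a * x = x * a) (hb : b * x = x * b) (e : μ a * μ b = μ b * μ a) {n : ℕ}
    (h2 : a ^ 2 ^ n = 1) (h3 : b ^ 3 = 1) : a * b = b * a := by
  obtain ⟨k, hk, e⟩ := h.comm_ker (KN ha) (KN hb) e
  have e1 := pow_cj_cen e (h.cen hk ha) (2 ^ n)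
  rw [h2, one_mul, inv_one, mul_one, left_eq_mul] at e1
  have e2 := pow_cj (g := a) h3
  rw [e, (show Commute b k from h.cen hk hb).mul_pow, h3, one_mul] at e2
  have := (pow_gcd_eq_one (a := k) (m := 2 ^ n) (n := 3)).2 ⟨e1, e2⟩
  rw [Nat.Coprime.gcd_eq_one (Nat.Coprime.pow_left _ (by norm_num)), pow_one] at this
  rwa [this, mul_one, mul_inv_eq_iff_eq_mul] at e

theorem sq_ker (ha : a ∈ Nm x) (h2 : μ a * μ a = 1) : a * a ∈ zpowers (x * z) :=
  (h.ker _ (mul_mem ha ha)).1 (by rw [h.mul a ha a ha, h2])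

/-- involutions of `M22` lift to involutions -/
theorem pow6_two (ha : a * x = x * a) (h2 : μ a * μ a = 1) : a ^ 6 = 1 := by
  by_cases h1 : μ a = 1
  · exact h.six ((h.ker a (KN ha)).1 h1)
  have e6 : ∀ a : G, a ^ 6 = (a * a) ^ 3 := fun a => by rw [← pow_two, ← pow_mul]
  obtain ⟨u, hu, u0⟩ := h.surjK (mI (P := w0))
  have u2 : u * u ∈ zpowers (x * z) := h.sq_ker (KN hu) (u0 ▸ req (Golay.R.mul rI rI) Golay.R.one)
  have k1 : ∀ a, a * x = x * a → μ a * μ a = 1 → μ a ≠ 1 → a ^ 6 = u ^ 6 := fun a a1 a2 a3 => by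
    obtain ⟨d, hd, e1⟩ := two22 (h.memK a1) a2 a3
    obtain ⟨s, hs, rfl⟩ := h.surjK hd
    obtain ⟨k, hk, e⟩ := h.eq_of (KN (h.conj_K (KN hs) a1)) (KN hu) (by rw [h.cj (KN hs) (KN a1), e1, u0])
    have e2 := congrArg (· ^ 6) e
    simp only [conj_pow, (show Commute u k from h.cen hk hu).mul_pow, h.six hk, mul_one] at e2
    rwa [e6 a, h.cen (pow_mem (h.sq_ker (KN a1) a2) 3) hs, mul_inv_cancel_right, ← e6] at e2
  have t2 : u ^ 6 * u ^ 6 = 1 := by rw [e6, ← pow_add, h.six u2]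
  have k2 : ∀ b B, b * x = x * b → R (μ b) B → (Nat.beq (comp24 B B) one24 &&
      Nat.beq (comp24 w0 B) (comp24 B w0) && !Nat.beq (comp24 B one24) one24 &&
      !Nat.beq (comp24 w0 B) one24) = true → u * b * u⁻¹ = b * u ^ 6 := fun b B b1 b2 b3 => by
    simp only [Bool.and_eq_true, Nat.beq_eq, Bool.not_eq_true'] at b3
    have r0 : R (μ u) w0 := u0 ▸ rI
    have c := (r0.comp24_eq_iff b2 b2 r0).1 b3.1.1.2
    have s1 := (b2.comp24_eq_one_iff b2).1 b3.1.1.1
    obtain ⟨k, hk, e⟩ := h.comm_ker (KN hu) (KN b1) c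
    have e1 := pow_cj_cen e (h.cen hk hu) 2
    rw [pow_two, ← h.cen u2 b1, mul_inv_cancel_right, left_eq_mul] at e1
    have e2 : u * b * (u * b) = k * (u * u) * (b * b) := by
      calc _ = u * b * u⁻¹ * (u * u) * b := by group
        _ = b * (k * (u * u)) * b := by rw [e, mul_assoc b]
        _ = _ := by rw [h.cen (mul_mem hk u2) b1]; group
    have e3 := k1 (u * b) (Commute.mul_left hu b1) (by
      rw [h.mul _ (KN hu) _ (KN b1), mul_assoc, ← mul_assoc (μ b), ← c, mul_assoc, s1, mul_one, u0]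
      exact req (Golay.R.mul rI rI) Golay.R.one) (by
      rw [h.mul _ (KN hu) _ (KN b1), Ne, ← r0.comp24_eq_one_iff b2]
      exact Nat.ne_of_beq_eq_false b3.2)
    have e4 := k1 b b1 s1 (by
      rw [← mul_one (μ b), Ne, ← b2.comp24_eq_one_iff Golay.R.one]
      exact Nat.ne_of_beq_eq_false b3.1.2)
    rw [e6, e2, (show Commute _ (b * b) from h.cen (h.sq_ker (KN b1) s1)
      (h.cen_x (mul_mem hk u2))).mul_pow, (show Commute k (u * u) from h.cen u2 (h.cen_x hk)).mul_pow,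
      ← e6, ← e6, e4, mul_assoc, t2, mul_one, pow_succ, e1, one_mul] at e3
    rw [e, e3]
  obtain ⟨b, hb, b0⟩ := h.surjK (mI (P := w1))
  obtain ⟨c, hc, c0⟩ := h.surjK (mI (P := a0))
  have f1 := k2 b w1 hb (b0 ▸ rI) (by decide +kernel)
  have f2 := k2 c a0 hc (c0 ▸ rI) (by decide +kernel)
  have f3 := k2 (b * c) (comp24 w1 a0) (Commute.mul_left hb hc) (by
    rw [h.mul _ (KN hb) _ (KN hc), b0, c0]; exact Golay.R.mul rI rI) (by decide +kernel)
  rw [← conj_mul, f1, f2, mul_assoc, ← mul_assoc (u ^ 6), e6, ← h.cen (pow_mem u2 3) hc, ← e6,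
    mul_assoc, t2, mul_one, left_eq_mul] at f3
  rw [k1 a ha h2 h1, f3]

theorem sq_of_two (ha : a * x = x * a) (h2 : μ a * μ a = 1) {n : ℕ} (hn : a ^ 2 ^ n = 1) : a * a = 1 := by
  have := (pow_gcd_eq_one (a := a ^ 2) (m := 2 ^ n) (n := 3)).2
    ⟨by rw [← pow_mul, mul_comm, pow_mul, hn, one_pow], by rw [← pow_mul, h.pow6_two ha h2]⟩
  rwa [Nat.Coprime.gcd_eq_one (Nat.Coprime.pow_left _ (by norm_num)), pow_one, pow_two] at this

theorem comm22 (ha : a * x = x * a) (hb : b * x = x * b) (a2 : a * a = 1) (b2 : b * b = 1)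
    (e : μ a * μ b = μ b * μ a) : a * b = b * a := by
  obtain ⟨k, hk, e1⟩ := h.comm_ker (KN ha) (KN hb) e
  have e2 := pow_cj_cen e1 (h.cen hk ha) 2
  rw [pow_two, a2, one_mul, inv_one, mul_one, left_eq_mul] at e2
  have e3 : a * b * (a * b) = k := by
    calc _ = a * b * a⁻¹ * (a * a) * b := by group
      _ = _ := by rw [e1, a2, mul_one, h.cen hk hb, mul_assoc, b2, mul_one]
  have e4 := h.pow6_two (a := a * b) (Commute.mul_left ha hb) (by
    rw [h.mul _ (KN ha) _ (KN hb), mul_assoc, ← mul_assoc (μ b), ← e, mul_assoc,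
      ← h.mul _ (KN hb) _ (KN hb), b2, h.one, mul_one, ← h.mul _ (KN ha) _ (KN ha), a2, h.one])
  rw [show 6 = 2 * 3 from rfl, pow_mul, pow_two, e3] at e4
  rwa [eq_one_23 (by rwa [pow_two] at e2) e4, mul_one, mul_inv_eq_iff_eq_mul] at e1

theorem lift2 {d : Pm} (hd : d ∈ Spor.M22) (h2 : d * d = 1) :
    ∃ a, a * x = x * a ∧ a * a = 1 ∧ μ a = d := by
  obtain ⟨a, ha, rfl⟩ := h.surjK hd
  exact ⟨a ^ 3, (Commute.pow_left ha 3).eq, by rw [← pow_add, h.pow6_two ha h2],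
    by rw [h.pow (KN ha), pow_succ, pow_two, h2, one_mul]⟩

theorem lift3 {d : Pm} (hd : d ∈ Spor.M22) (h3 : d ^ 3 = 1) :
    ∃ a, a * x = x * a ∧ a ^ 3 = 1 ∧ μ a = d := by
  obtain ⟨a, ha, rfl⟩ := h.surjK hd
  exact ⟨a ^ 4, (Commute.pow_left ha 4).eq, by
    rw [← pow_mul, show 4 * 3 = 6 * 2 from rfl, pow_mul, h.pow6_three ha h3, one_pow],
    by rw [h.pow (KN ha), pow_succ, h3, one_mul]⟩

/-- involutions with the same image -/
theorem eq_two (ha : a * x = x * a) (hb : b * x = x * b) (a2 : a * a = 1) (b2 : b * b = 1)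
    (e : μ a = μ b) : a = b ∨ a = b * z := by
  obtain ⟨k, hk, rfl⟩ := h.eq_of (KN ha) (KN hb) e
  rw [mul_assoc, ← mul_assoc k, ← h.cen hk hb, mul_assoc, ← mul_assoc, b2, one_mul] at a2
  rcases h.two' hk a2 with rfl | rfl
  exacts [.inl (mul_one _), .inr rfl]

theorem eq_three (ha : a * x = x * a) (hb : b * x = x * b) (a3 : a ^ 3 = 1) (b3 : b ^ 3 = 1)
    (e : μ a = μ b) : ∃ k ∈ zpowers x, a = b * k := by
  obtain ⟨k, hk, rfl⟩ := h.eq_of (KN ha) (KN hb) e
  rw [(show Commute b k from h.cen hk hb).mul_pow, b3, one_mul] at a3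
  exact ⟨k, h.three hk a3, rfl⟩

/-- the normal subgroups of the centraliser -/
theorem sim (D : Subgroup G) (h1 : ∀ d ∈ D, d * x = x * d)
    (h2 : ∀ k, k * x = x * k → ∀ d ∈ D, k * d * k⁻¹ ∈ D) :
    D ≤ zpowers (x * z) ∨ ∀ k, k * x = x * k → k ∈ D := by
  have := simple_M22
  let φ : centralizer ({x} : Set G) →* Spor.M22 :=
    ⟨⟨fun k => ⟨μ k, h.memK (mz.1 k.2)⟩, Subtype.ext h.one⟩,
      fun a b => Subtype.ext (h.mul _ (KN (mz.1 a.2)) _ (KN (mz.1 b.2)))⟩
  have sj : Function.Surjective φ := fun d => by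
    obtain ⟨a, ha, e⟩ := h.surjK d.2
    exact ⟨⟨a, mz.2 ha⟩, Subtype.ext e⟩
  have hn : (D.subgroupOf (centralizer {x})).Normal := ⟨fun a ha k => h2 k (mz.1 k.2) a ha⟩
  rcases (hn.map φ sj).eq_bot_or_eq_top with e | e
  · refine .inl fun d hd => (h.ker d (KN (h1 d hd))).1 ?_
    have : φ ⟨d, mz.2 (h1 d hd)⟩ ∈ (⊥ : Subgroup Spor.M22) := e ▸ ⟨_, hd, rfl⟩
    exact congrArg Subtype.val (mem_bot.1 this)
  · have key : ∀ a : centralizer ({x} : Set G), ∃ d ∈ D, ∃ k ∈ zpowers (x * z), (a : G) = d * k :=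
      fun a => by
        obtain ⟨d, hd, e1⟩ : φ a ∈ (D.subgroupOf (centralizer {x})).map φ := e ▸ mem_top _
        exact ⟨d, hd, h.eq_of (KN (mz.1 a.2)) (KN (mz.1 d.2)) (congrArg Subtype.val e1).symm⟩
    have h3 : _root_.commutator (centralizer ({x} : Set G)) ≤ D.subgroupOf _ :=
      commutator_le.2 fun a _ b _ => by
        obtain ⟨d, hd, k, hk, e1⟩ := key a
        obtain ⟨f, hf, l, hl, e2⟩ := key b
        change (a : G) * b * (a : G)⁻¹ * (b : G)⁻¹ ∈ D
        rw [e1, e2, h.cen hk (h1 d hd), h.cen hl (h1 f hf), comm_central (h.cen hk (h1 d hd))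
          (h.cen hk (h1 f hf)) (h.cen hl (h1 d hd)) (h.cen hl (h1 f hf)) (h.cen hk (h.cen_x hl))]
        exact mul_mem (mul_mem (mul_mem hd hf) (inv_mem hd)) (inv_mem hf)
    exact .inr fun k hk => h3 (h.perf ▸ mem_top (⟨k, mz.2 hk⟩ : centralizer {x}))

theorem exists_six (hz : z ≠ 1) : ∃ φ, Six x z φ :=
  have : Fact (Nat.Prime 2) := ⟨Nat.prime_two⟩
  ⟨⟨⟨fun k => ⟨μ k, h.memK (mz.1 k.2)⟩, Subtype.ext h.one⟩,
      fun a b => Subtype.ext (h.mul _ (KN (mz.1 a.2)) _ (KN (mz.1 b.2)))⟩, h.ox,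
    orderOf_eq_prime (by rw [pow_two, h.zz]) hz, h.zc, fun d => by
      obtain ⟨a, ha, e⟩ := h.surjK d.2
      exact ⟨⟨a, mz.2 ha⟩, Subtype.ext e⟩,
    fun k => Subtype.ext_iff.trans (h.ker k (KN (mz.1 k.2))), h.perf⟩

end Tr

/-- a chart at `x` in which `y` is in normal form -/
structure Ch (x y z : G) (μ : G → Pm) : Prop extends Tr x z μ where
  yK : y * x = x * y
  y3 : y ^ 3 = 1
  μy : μ y = pm p31

theorem Tr.chart {x z a b : G} {μ : G → Pm} (h : Tr x z μ) (a3 : a ^ 3 = 1) (a1 : a ≠ 1)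
    (c : b * a = a * b) (b3 : b ^ 3 = 1) (hn : b ∉ zpowers a) :
    ∃ g ν, a = g * x * g⁻¹ ∧ Ch a b (g * z * g⁻¹) ν := by
  obtain ⟨g, rfl⟩ := isConj_iff.1 (h.fus a a3 a1)
  obtain ⟨d, hd, e⟩ := (h.conj g).μ_three c b3 hn
  exact ⟨g, _, rfl, (h.conj g).rechart (M22_le_Duad hd), c, b3, e⟩

end CL.J4T
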