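/- The subgroups `V0` and `UU` attached to a pair of commuting elements of order 3. -/
import Cfsg.Agent.SPOR.J4T.Base
import Cfsg.Agent.SOLV.CoprimeGen

set_option autoImplicit false
set_option maxRecDepth 100000
set_option linter.unusedSectionVars false
set_option linter.unusedVariables false

namespace CL.J4T

open CL.K CL.LX Cfsg CL.Golay CL.MAut CL.J4 Subgroup
open CL.F24 (mem_zpowers_three)
open CL.MSS (isPGroup_zpowers)

variable {G : Type*} [Group G]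

/-- an outer involution inverting `p31` and centralising `w0, w1, p32` -/
def jj : ℕ := 29217344650974509451812743540053559
def WL : List ℕ := [one24, w0, w1, w2]
def UL : List ℕ := [981818691054096003685363657089320992, 984818244535754528103549039458486304, 965128854020860192151391391390468128, 967812279691448225500382947153381408, 983548720921252936276249910206105632, 966182099583441531322624363496310816, 975346028712660580592452217730074656, 972512676110088067912772961567868960, 968708902336673183175954409307867168, 979121071158219704299181131031480352, 963721886883755259286232606933354528, 971592882964418941354553515258775584, 970499966350631336865513127433832480, 961365507626256404119956257276790816, 980224387687010295957922729495201824, 976448692869377735270425038196672544]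
theorem WL_ok : lgOK WL = true := by decide +kernel
theorem UL_ok : lgOK UL = true := by decide +kernel
/-- the largest normal 2-subgroup of the centraliser of `p31` in `M22` -/
def Wb : Subgroup Pm := lgrp WL WL_ok
/-- the hexad group containing it -/
def Ub : Subgroup Pm := lgrp UL UL_ok

/-- the codes commute -/
noncomputable def cm (P U : ℕ) : Bool := Nat.beq (comp24 P U) (comp24 U P)

theorem cm_iff {g k : Pm} {P U : ℕ} (hg : R g P) (hk : R k U) : cm P U = true ↔ g * k = k * g :=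
  Nat.beq_eq.to_iff.trans (hg.comp24_eq_iff hk hk hg)

theorem comm_of {g k : Pm} {P U : ℕ} (hg : R g P) (hk : R k U)
    (e : cm P U = true := by decide +kernel) : g * k = k * g := (cm_iff hg hk).1 e

/-- a check over the centraliser of `S` in the duad group -/
theorem all_c {g s : Pm} {S : ℕ} (p : ℕ → Bool) (hs : R s S) (hg : g ∈ Duad) (e : g * s = s * g)
    (hp : allC S (fun P => !cm P S || p P) = true) : ∃ P, R g P ∧ p P = true := by
  obtain ⟨P, r, h⟩ := all_cent hs hg e hp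
  rw [(cm_iff r hs).2 e] at h
  exact ⟨P, r, h⟩

theorem mem_lg {L : List ℕ} {h : lgOK L = true} {g : Pm} {P : ℕ} (hg : R g P)
    (e : lmem P L = true := by decide +kernel) : g ∈ lgrp L h := ⟨P, lmem_iff.1 e, hg⟩

theorem of_lg {L : List ℕ} {h : lgOK L = true} {g : Pm} (hg : g ∈ lgrp L h) {p : ℕ → Bool}
    (e : lall p L = true) : ∃ P, R g P ∧ p P = true :=
  let ⟨P, hP, r⟩ := hg; ⟨P, r, lall_iff.1 e P hP⟩

theorem Ub_le : Ub ≤ Spor.M22 := fun g hg => by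
  obtain ⟨P, r, e⟩ := of_lg hg (p := okI) (by decide +kernel)
  exact r.permOf_eq ▸ mI e

theorem Wb_le : Wb ≤ Ub := fun g hg => by
  obtain ⟨P, r, e⟩ := of_lg hg (p := fun P => lmem P UL) (by decide +kernel)
  exact mem_lg r e

theorem Ub_sq {g : Pm} (hg : g ∈ Ub) : g * g = 1 := by
  obtain ⟨P, r, e⟩ := of_lg hg (p := fun P => Nat.beq (comp24 P P) one24) (by decide +kernel)
  exact req (r.mul r) Golay.R.one e

theorem comm_of_sq {H : Subgroup G} (h : ∀ a ∈ H, a * a = 1) {a b : G} (ha : a ∈ H) (hb : b ∈ H) :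
    a * b = b * a := by
  rw [← inv_eq_of_mul_eq_one_right (h _ (mul_mem ha hb)), mul_inv_rev, inv_eq_of_mul_eq_one_right (h a ha),
    inv_eq_of_mul_eq_one_right (h b hb)]

theorem Ub_comm {g k : Pm} (hg : g ∈ Ub) (hk : k ∈ Ub) : g * k = k * g := comm_of_sq (fun _ => Ub_sq) hg hk

theorem Wb_31 {g : Pm} (hg : g ∈ Wb) : g * pm p31 = pm p31 * g := by
  obtain ⟨P, r, e⟩ := of_lg hg (p := fun P => cm P p31) (by decide +kernel)
  exact comm_of r rI e

theorem cent31 {g : Pm} (hg : g ∈ Spor.M22) (e : g * pm p31 = pm p31 * g) :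
    (g * g = 1 → g ∈ Wb) ∧ ∃ v ∈ Wb, ∃ i j : ℕ, j < 3 ∧ g = v * pm p31 ^ i * pm p32 ^ j := by
  obtain ⟨P, r, h⟩ := all_c (fun P => !t22 P || ((!Nat.beq (comp24 P P) one24 || lmem P WL) &&
    lany (fun v => lany (fun i => lany (fun j => Nat.beq P
      (comp24 (comp24 v (pow24 p31 i)) (pow24 p32 j))) [0, 1, 2]) [0, 1, 2]) WL)) rI (M22_le_Duad hg) e
    (by decide +kernel)
  simp only [mem22.2 g P hg r, Bool.not_true, Bool.false_or, Bool.and_eq_true, lany_iff] at h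
  obtain ⟨h1, v, hv, i, -, j, hj, h2⟩ := h
  have rv := ((lgOK_spec WL_ok).2 v hv).1
  refine ⟨fun e => ?_, pm v, ⟨v, hv, rv⟩, i, j, by simp at hj; omega,
    req r ((rv.mul (Golay.R.pow rI i)).mul (Golay.R.pow rI j)) h2⟩
  rw [Nat.beq_eq.mpr ((r.comp24_eq_one_iff r).2 e)] at h1
  exact mem_lg r h1

theorem centW {g : Pm} (hg : g ∈ Duad) (e0 : g * pm w0 = pm w0 * g) (e1 : g * pm w1 = pm w1 * g) :
    ∃ u ∈ Ub, ∃ i < 3, g = u * pm p31 ^ i ∨ g = u * pm p31 ^ i * pm jj := by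
  obtain ⟨P, r, h⟩ := all_c (fun P => !cm P w1 || lany (fun u => lany (fun i =>
    force (comp24 u (pow24 p31 i)) fun T => Nat.beq P T || Nat.beq P (comp24 T jj)) [0, 1, 2]) UL) rI hg e0
    (by decide +kernel)
  simp only [(cm_iff r rI).2 e1, Bool.not_true, Bool.false_or, lany_iff, force_eq, Bool.or_eq_true] at h
  obtain ⟨u, hu, i, hi, h⟩ := h
  have ru := ((lgOK_spec UL_ok).2 u hu).1
  exact ⟨pm u, ⟨u, hu, ru⟩, i, by simp at hi; omega, h.imp (fun e => req r (ru.mul (Golay.R.pow rI i)) e)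
    fun e => req r ((ru.mul (Golay.R.pow rI i)).mul rD) e⟩

theorem centW' {g : Pm} (hg : g ∈ Spor.M22) (e0 : g * pm w0 = pm w0 * g) (e1 : g * pm w1 = pm w1 * g) :
    g ∈ Ub ∨ ((g * g) ^ 3 = 1 ∧ g * g * pm a0 ≠ pm a0 * (g * g)) := by
  obtain ⟨P, r, h⟩ := all_c (fun P => !(t22 P && cm P w1) || (lmem P UL ||
    (Nat.beq (pow24 (comp24 P P) 3) one24 && !cm (comp24 P P) a0))) rI (M22_le_Duad hg) e0 (by decide +kernel)
  rcases Bool.or_eq_true_iff.1 (bimp h (mem22.2 g P hg r) ((cm_iff r rI).2 e1)) with h | h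
  · exact .inl (mem_lg r h)
  · rw [Bool.and_eq_true, Nat.beq_eq, (r.mul r).pow_succ_eq_one_iff 2, Bool.not_eq_true'] at h
    exact .inr ⟨h.1, fun e => by rw [(cm_iff (r.mul r) rI).2 e] at h; exact absurd h.2 (by decide)⟩

theorem norm_lg {L : List ℕ} {h : lgOK L = true} {g : Pm} {P : ℕ} (hg : R g P)
    (e : lall (fun s => force (conj24 P s) fun t => lmem t L) L = true := by decide +kernel) {u : Pm}
    (hu : u ∈ lgrp L h) : g * u * g⁻¹ ∈ lgrp L h :=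
  (mem_normalizer_iff.1 ((mem_norm_lgrp h hg).2 e) u).1 hu

/-- a pair of independent commuting elements of order 3 -/
structure Pr (a b : G) : Prop where
  a3 : a ^ 3 = 1
  b3 : b ^ 3 = 1
  a1 : a ≠ 1
  c : b * a = a * b
  n : b ∉ zpowers a

theorem inv_three {a : G} (h : a ^ 3 = 1) : a⁻¹ = a * a := by
  rw [inv_eq_iff_mul_eq_one, ← pow_three, h]

theorem inv_inv_three {a : G} (h : a ^ 3 = 1) : a * a * (a * a) = a := by
  rw [← inv_three h, ← mul_inv_rev, ← inv_three h, inv_inv]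

namespace Pr
variable {a b : G} (h : Pr a b)
include h

theorem b1 : b ≠ 1 := fun e => h.n (e ▸ one_mem _)

theorem symm : Pr b a := ⟨h.b3, h.a3, h.b1, h.c.symm, fun e => h.n (by
  rcases mem_zpowers_three h.b3 e with e | e | e
  · exact absurd e h.a1
  · exact e ▸ mem_zpowers _
  · rw [← inv_inv_three h.b3, ← e]; exact mul_mem (mem_zpowers a) (mem_zpowers a))⟩

theorem cj (g : G) : Pr (g * a * g⁻¹) (g * b * g⁻¹) :=
  ⟨pow_cj h.a3, pow_cj h.b3, fun e => h.a1 (conj_eq_one_iff.1 e), comm_cj.2 h.c, fun e => h.n (mem_zp_cj.1 e)⟩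

theorem mul {k : G} (hk : k ∈ zpowers a) : Pr a (b * k) := by
  obtain ⟨i, rfl⟩ := hk
  refine ⟨h.a3, ?_, h.a1, (Commute.mul_left h.c ((Commute.refl a).zpow_left i)).eq,
    fun e => h.n ((mul_mem_cancel_right (zpow_mem (mem_zpowers a) i)).1 e)⟩
  rw [((show Commute b a from h.c).zpow_right i).mul_pow, h.b3, one_mul, ← zpow_natCast, ← zpow_mul,
    mul_comm, zpow_mul, zpow_natCast, h.a3, one_zpow]

theorem inv : Pr a b⁻¹ := ⟨h.a3, by rw [inv_pow, h.b3, inv_one], h.a1, (Commute.inv_left h.c).eq,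
  fun e => h.n (inv_mem_iff.1 e)⟩

end Pr

theorem Ch.pr {x y z : G} {μ : G → Pm} (h : Ch x y z μ) : Pr x y :=
  ⟨h.x3, h.y3, h.x1, h.yK, fun e => absurd (h.μy.symm.trans (h.μ_cen (zpowers_le.2 h.x_mem e)))
    fun e => absurd ((Golay.R.comp24_eq_one_iff (rI (P := p31)) Golay.R.one).2 (by rw [e, mul_one])) (by decide +kernel)⟩

theorem Ch.conj {x y z : G} {μ : G → Pm} (h : Ch x y z μ) (g : G) :
    Ch (g * x * g⁻¹) (g * y * g⁻¹) (g * z * g⁻¹) fun a => μ (g⁻¹ * a * g) :=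
  ⟨h.toTr.conj g, comm_cj.2 h.yK, pow_cj h.y3, by rw [cj_cj, h.μy]⟩

/-- all pairs are conjugate -/
theorem Ch.pair {x y z a b : G} {μ : G → Pm} (h : Ch x y z μ) (p : Pr a b) :
    ∃ g, g * x * g⁻¹ = a ∧ g * y * g⁻¹ = b := by
  obtain ⟨g, rfl⟩ := isConj_iff.1 (h.fus a p.a3 p.a1)
  have q := p.cj g⁻¹
  simp only [inv_inv, cj_cj] at q
  obtain ⟨d, hd, e⟩ := h.μ_three q.c q.b3 q.n
  obtain ⟨s, hs, rfl⟩ := h.surjK hd
  obtain ⟨k, hk, e1⟩ := h.eq_three (h.conj_K (KN hs) q.c) h.yK (pow_cj q.b3) h.y3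
    (by rw [h.cj (KN hs) (KN q.c), e, h.μy])
  obtain ⟨t, ht, e2⟩ := h.yx y h.yK h.y3 h.pr.n
  obtain ⟨i, rfl⟩ : ∃ i : ℕ, k = x ^ i := by
    rcases mem_zpowers_three h.x3 hk with e | e | e
    exacts [⟨0, by rw [e, pow_zero]⟩, ⟨1, by rw [e, pow_one]⟩, ⟨2, by rw [e, pow_two]⟩]
  have c : Commute (s⁻¹ * t ^ i) x := (Commute.inv_left hs).mul_left (Commute.pow_left ht i)
  refine ⟨g * (s⁻¹ * t ^ i), by rw [mul_assoc g, c.eq]; group, ?_⟩
  calc _ = g * s⁻¹ * (t ^ i * y * (t ^ i)⁻¹) * s * g⁻¹ := by group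
    _ = _ := by rw [pow_cj_cen e2 ht, ← e1]; group

/-- involutions centralising `x` and `y` -/
def IV (x y g : G) : Prop := g * x = x * g ∧ g * y = y * g ∧ g * g = 1
/-- involutions centralising `x` and the former -/
def IU (x y g : G) : Prop := g * x = x * g ∧ g * g = 1 ∧ ∀ v, IV x y v → g * v = v * g
def V0 (x y : G) : Subgroup G := closure {g | IV x y g}
def UU (x y : G) : Subgroup G := closure {g | IU x y g}

theorem IV.symm {x y g : G} (h : IV x y g) : IV y x g := ⟨h.2.1, h.1, h.2.2⟩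

theorem iv_cj {c x y g : G} : IV (c * x * c⁻¹) (c * y * c⁻¹) (c * g * c⁻¹) ↔ IV x y g := by
  simp only [IV, conj_mul, conj_eq_one_iff, mul_left_inj, mul_right_inj]

theorem iu_cj {c x y g : G} : IU (c * x * c⁻¹) (c * y * c⁻¹) (c * g * c⁻¹) ↔ IU x y g := by
  refine and_congr comm_cj (and_congr (by rw [conj_mul, conj_eq_one_iff])
    ⟨fun h v hv => comm_cj.1 (h _ (iv_cj.2 hv)), fun h v hv => ?_⟩)
  rw [← cj_cj' c v] at hv ⊢
  exact comm_cj.2 (h _ (iv_cj.1 hv))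

theorem iv_congr {x y x' y' : G} (h : ∀ g, g * x = x * g → g * y = y * g → g * x' = x' * g ∧ g * y' = y' * g)
    {g : G} (e : IV x y g) : IV x' y' g := ⟨(h g e.1 e.2.1).1, (h g e.1 e.2.1).2, e.2.2⟩

/-- the involutions over an elementary abelian subgroup -/
def Tr.lf {x z : G} {μ : G → Pm} (h : Tr x z μ) (B : Subgroup Pm) (hB : ∀ g ∈ B, g * g = 1) : Subgroup G where
  carrier := {g | g * x = x * g ∧ g * g = 1 ∧ μ g ∈ B}
  one_mem' := ⟨by simp, by simp, h.one ▸ one_mem _⟩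
  mul_mem' := fun {a b} ha hb => ⟨Commute.mul_left ha.1 hb.1, by
    rw [mul_assoc, ← mul_assoc b, ← h.comm22 ha.1 hb.1 ha.2.1 hb.2.1 (comm_of_sq hB ha.2.2 hb.2.2),
      mul_assoc, hb.2.1, mul_one, ha.2.1],
    by rw [h.mul _ (KN ha.1) _ (KN hb.1)]; exact mul_mem ha.2.2 hb.2.2⟩
  inv_mem' := fun {a} ha => by rwa [inv_eq_of_mul_eq_one_right ha.2.1]

theorem Tr.card_lf [Finite G] {x z : G} {μ : G → Pm} (h : Tr x z μ) {B : Subgroup Pm}
    (hB : ∀ g ∈ B, g * g = 1) (hM : B ≤ Spor.M22) : Nat.card (h.lf B hB) = orderOf z * Nat.card B := by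
  let φ : h.lf B hB →* B := ⟨⟨fun g => ⟨μ g, g.2.2.2⟩, Subtype.ext h.one⟩,
    fun a b => Subtype.ext (h.mul _ (KN a.2.1) _ (KN b.2.1))⟩
  have sj : Function.Surjective φ := fun d => by
    obtain ⟨a, a1, a2, a3⟩ := h.lift2 (hM d.2) (hB d d.2)
    exact ⟨⟨a, a1, a2, a3 ▸ d.2⟩, Subtype.ext a3⟩
  have h1 : φ.ker.map (Subgroup.subtype _) = zpowers z := le_antisymm (by
      rintro _ ⟨k, hk, rfl⟩
      exact (mem_zpowers_of_sq h.zz).2 (h.two' ((h.ker _ (KN k.2.1)).1 (congrArg Subtype.val hk)) k.2.2.1))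
    (zpowers_le.2 ⟨⟨z, h.xz.symm, h.zz, h.μz ▸ one_mem _⟩, Subtype.ext h.μz, rfl⟩)
  rw [← φ.ker.card_mul_index, index_ker, MonoidHom.range_eq_top.2 sj, card_top,
    ← card_map_of_injective (subtype_injective _), h1, Nat.card_zpowers]

namespace Ch
variable {x y z : G} {μ : G → Pm} (h : Ch x y z μ) {g : G}
include h

theorem iv_iff : IV x y g ↔ g * x = x * g ∧ g * g = 1 ∧ μ g ∈ Wb := by
  refine ⟨fun e => ⟨e.1, e.2.2, (cent31 (h.memK e.1) ?_).1 ?_⟩, fun e => ⟨e.1, h.comm23 e.1 h.yK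
    (h.μy ▸ Wb_31 e.2.2) (n := 1) (by rw [pow_one, pow_two, e.2.1]) h.y3, e.2.1⟩⟩
  · rw [← h.μy, ← h.mul _ (KN e.1) _ (KN h.yK), e.2.1, h.mul _ (KN h.yK) _ (KN e.1)]
  · rw [← h.mul _ (KN e.1) _ (KN e.1), e.2.2, h.one]

theorem exists_v {P : ℕ} (e : (okI P && lmem P WL) = true := by decide +kernel) :
    ∃ v, IV x y v ∧ μ v = pm P := by
  rw [Bool.and_eq_true] at e
  have m : pm P ∈ Wb := mem_lg (rI e.1) e.2
  obtain ⟨v, v1, v2, v3⟩ := h.lift2 (mI e.1) (Ub_sq (Wb_le m))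
  exact ⟨v, h.iv_iff.2 ⟨v1, v2, v3 ▸ m⟩, v3⟩

/-- the image of an element centralising `V0` -/
theorem comm_w (hg : g ∈ Nm x) (e : ∀ v, IV x y v → g * v = v * g) :
    μ g * pm w0 = pm w0 * μ g ∧ μ g * pm w1 = pm w1 * μ g := by
  obtain ⟨a, a1, a2⟩ := h.exists_v (P := w0)
  obtain ⟨b, b1, b2⟩ := h.exists_v (P := w1)
  exact ⟨by rw [← a2, ← h.mul _ hg _ (KN a1.1), e a a1, h.mul _ (KN a1.1) _ hg],
    by rw [← b2, ← h.mul _ hg _ (KN b1.1), e b b1, h.mul _ (KN b1.1) _ hg]⟩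

theorem iu_iff : IU x y g ↔ g * x = x * g ∧ g * g = 1 ∧ μ g ∈ Ub := by
  refine and_congr_right fun e1 => and_congr_right fun e2 => ⟨fun e => ?_, fun e v hv => ?_⟩
  · obtain ⟨c0, c1⟩ := h.comm_w (KN e1) e
    refine (centW' (h.memK e1) c0 c1).resolve_right fun e3 => e3.2 ?_
    rw [← h.mul _ (KN e1) _ (KN e1), e2, h.one, mul_one, one_mul]
  · exact h.comm22 e1 hv.1 e2 hv.2.2 (Ub_comm e (Wb_le (h.iv_iff.1 hv).2.2))

theorem V0_eq : V0 x y = h.lf Wb fun _ e => Ub_sq (Wb_le e) := by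
  rw [V0, show {g | IV x y g} = (h.lf Wb fun _ e => Ub_sq (Wb_le e) : Set G) from
    Set.ext fun _ => h.iv_iff, closure_eq]

theorem UU_eq : UU x y = h.lf Ub fun _ => Ub_sq := by
  rw [UU, show {g | IU x y g} = (h.lf Ub fun _ => Ub_sq : Set G) from Set.ext fun _ => h.iu_iff, closure_eq]

theorem mem_V0 : g ∈ V0 x y ↔ IV x y g := by rw [h.V0_eq, h.iv_iff]; rfl
theorem mem_UU : g ∈ UU x y ↔ IU x y g := by rw [h.UU_eq, h.iu_iff]; rfl
theorem mem_UU' : g ∈ UU x y ↔ g * x = x * g ∧ g * g = 1 ∧ μ g ∈ Ub := h.mem_UU.trans h.iu_iff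

theorem card_UU [Finite G] : Nat.card (UU x y) = orderOf z * 16 := by
  rw [h.UU_eq, h.card_lf _ Ub_le, Ub, card_lgrp _ (by decide +kernel)]; rfl

theorem iu_of_iv (e : IV x y g) : IU x y g :=
  h.iu_iff.2 ⟨e.1, e.2.2, Wb_le (h.iv_iff.1 e).2.2⟩

theorem iv_z : IV x y z := ⟨h.xz.symm, (h.zc y h.yK).symm, h.zz⟩

theorem z_U : z ∈ UU x y := h.mem_UU.2 (h.iu_of_iv h.iv_z)

theorem UU_sq (e : g ∈ UU x y) : g * g = 1 := (h.mem_UU.1 e).2.1

theorem UU_comm {k : G} (e : g ∈ UU x y) (e' : k ∈ UU x y) : g * k = k * g :=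
  comm_of_sq (fun _ => h.UU_sq) e e'

theorem UU_pg : IsPGroup 2 (UU x y) := fun g => ⟨1, Subtype.ext (by
  rw [pow_one, coe_pow, pow_two, h.UU_sq g.2, coe_one])⟩

theorem norm_UU [Finite G] (hg : g ∈ Nm x) (e : ∀ u ∈ Ub, μ g * u * (μ g)⁻¹ ∈ Ub) :
    g ∈ normalizer (UU x y : Set G) := mem_normalizer_fintype fun u hu => by
  obtain ⟨u1, u2, u3⟩ := h.mem_UU'.1 hu
  exact h.mem_UU'.2 ⟨h.conj_K hg u1, sq_cj u2, by rw [h.cj hg (KN u1)]; exact e _ u3⟩

/-- the centraliser of `x` and `V0` -/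
theorem cent_V0 (e1 : g * x = x * g) (e : ∀ v, IV x y v → g * v = v * g) :
    ∃ u ∈ UU x y, ∃ k ∈ zpowers x, ∃ i : ℕ, g = u * y ^ i * k := by
  obtain ⟨c0, c1⟩ := h.comm_w (KN e1) e
  obtain ⟨u, hu, i, -, e2 | e2⟩ := centW (h.mem g (KN e1)) c0 c1
  · obtain ⟨a, a1, a2, rfl⟩ := h.lift2 (Ub_le hu) (Ub_sq hu)
    have aU := h.mem_UU'.2 ⟨a1, a2, hu⟩
    have c : Commute (y ^ i) x := Commute.pow_left h.yK i
    obtain ⟨k, hk, rfl⟩ := h.eq_of (KN e1) (KN (Commute.mul_left a1 c))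
      (by rw [e2, h.mul _ (KN a1) _ (KN c), h.pow (KN h.yK), h.μy])
    obtain ⟨l, hl, e3 | e3⟩ := h.dec hk <;> rw [e3]
    · exact ⟨a, aU, l, hl, i, rfl⟩
    · refine ⟨a * z, mul_mem aU h.z_U, l, hl, i, ?_⟩
      rw [mul_assoc a z, ← h.zc _ c, h.zc l (h.cen_x (zpowers_le.2 h.x_mem hl))]; group
  · have m := h.memK e1
    rw [e2, mul_mem_cancel_left (mul_mem (Ub_le hu) (pow_mem mI i)), R_t22 rD mD] at m
    exact absurd m (by decide +kernel)

/-- 2-elements centralising `x` and `V0` -/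
theorem two_V0 (e1 : g * x = x * g) (e : ∀ v, IV x y v → g * v = v * g) {n : ℕ} (e2 : g ^ 2 ^ n = 1) :
    g ∈ UU x y := by
  obtain ⟨c0, c1⟩ := h.comm_w (KN e1) e
  have m : μ g ∈ Ub := (centW' (h.memK e1) c0 c1).resolve_right fun e3 => e3.2 (by
    have := (pow_gcd_eq_one (a := μ g * μ g) (m := 2 ^ n) (n := 3)).2 ⟨by
      rw [← pow_two, ← pow_mul, mul_comm, pow_mul, ← h.pow (KN e1), e2, h.one, one_pow], e3.1⟩
    rw [Nat.Coprime.gcd_eq_one (Nat.Coprime.pow_left _ (by norm_num)), pow_one] at this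
    rw [this, mul_one, one_mul])
  exact h.mem_UU'.2 ⟨e1, h.sq_of_two e1 (Ub_sq m) e2, m⟩

/-- elements centralising `x` and `V0` have order dividing 12 -/
theorem pow12_V0 (e1 : g * x = x * g) (e : ∀ v, IV x y v → g * v = v * g) : g ^ 12 = 1 := by
  obtain ⟨c0, c1⟩ := h.comm_w (KN e1) e
  refine (centW' (h.memK e1) c0 c1).elim (fun m => ?_) fun m => ?_
  · rw [show 12 = 6 * 2 from rfl, pow_mul, h.pow6_two e1 (Ub_sq m), one_pow]
  · rw [show 12 = 2 * 6 from rfl, pow_mul, pow_two]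
    exact h.pow6_three (Commute.mul_left e1 e1) (by rw [h.mul _ (KN e1) _ (KN e1), m.1])

/-- the centraliser of `x` and `UU` -/
theorem cent_UU (e1 : g * x = x * g) (e : ∀ u ∈ UU x y, u * g = g * u) :
    ∃ u ∈ UU x y, ∃ k ∈ zpowers x, g = u * k := by
  obtain ⟨c0, c1⟩ := h.comm_w (KN e1) fun v hv => (e v (h.mem_UU.2 (h.iu_of_iv hv))).symm
  obtain ⟨b, b1, b2, b3⟩ := h.lift2 (mI (P := a0)) (Ub_sq (mem_lg rI))
  have m : μ g ∈ Ub := (centW' (h.memK e1) c0 c1).resolve_right fun e3 => e3.2 (by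
    have : Commute (μ g) (pm a0) := by
      rw [Commute, SemiconjBy, ← b3, ← h.mul _ (KN e1) _ (KN b1),
        ← e b (h.mem_UU'.2 ⟨b1, b2, b3 ▸ mem_lg rI⟩), h.mul _ (KN b1) _ (KN e1)]
    exact this.mul_left this)
  obtain ⟨a, a1, a2, a3⟩ := h.lift2 (Ub_le m) (Ub_sq m)
  have aU := h.mem_UU'.2 ⟨a1, a2, a3 ▸ m⟩
  obtain ⟨k, hk, rfl⟩ := h.eq_of (KN e1) (KN a1) a3.symm
  obtain ⟨l, hl, e3 | e3⟩ := h.dec hk <;> rw [e3]
  · exact ⟨a, aU, l, hl, rfl⟩
  · exact ⟨a * z, mul_mem aU h.z_U, l, hl, by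
      rw [h.zc l (h.cen_x (zpowers_le.2 h.x_mem hl)), mul_assoc]⟩

/-- an element of order 3 with `[w, y] = x` -/
theorem exists_w : ∃ w, w * x = x * w ∧ w ^ 3 = 1 ∧ w * y * w⁻¹ = y * x ∧
    (μ w = pm p32 ∨ μ w = (pm p32)⁻¹) := by
  obtain ⟨w, w1, w2, w3⟩ := h.lift3 (mI (P := p32)) (req (Golay.R.pow rI 3) Golay.R.one)
  obtain ⟨k, hk, e⟩ := h.eq_three (h.conj_K (KN w1) h.yK) h.yK (pow_cj h.y3) h.y3 (by
    rw [h.cj (KN w1) (KN h.yK), w3, h.μy, comm_of rI rI, mul_inv_cancel_right])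
  rcases mem_zpowers_three h.x3 hk with rfl | rfl | rfl
  · exfalso
    rw [mul_one, mul_inv_eq_iff_eq_mul] at e
    obtain ⟨s, s1, s2⟩ := h.yx y h.yK h.y3 h.pr.n
    obtain ⟨v, hv, i, j, -, e1⟩ := (cent31 (h.memK s1) (by
      rw [← h.μy, ← mul_inv_eq_iff_eq_mul, ← h.cj (KN s1) (KN h.yK), s2, h.mul _ (KN h.yK) _ (KN rfl), h.μx,
        mul_one])).2
    obtain ⟨a, a1, a2, rfl⟩ := h.lift2 (Ub_le (Wb_le hv)) (Ub_sq (Wb_le hv))
    have c1 : Commute (y ^ i) x := Commute.pow_left h.yK i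
    have c2 : Commute (w ^ j) x := Commute.pow_left w1 j
    obtain ⟨k, hk, rfl⟩ := h.eq_of (KN s1) (KN ((Commute.mul_left a1 c1).mul_left c2)) (by
      rw [e1, h.mul _ (KN (Commute.mul_left a1 c1)) _ (KN c2), h.mul _ (KN a1) _ (KN c1), h.pow (KN h.yK),
        h.pow (KN w1), h.μy, w3])
    have c : Commute (a * y ^ i * w ^ j * k) y := ((Commute.mul_left (h.iv_iff.2 ⟨a1, a2, hv⟩).2.1
      ((Commute.refl y).pow_left i)).mul_left (Commute.pow_left e j)).mul_left (h.cen hk h.yK).symm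
    rw [c.eq, mul_inv_cancel_right, left_eq_mul] at s2
    exact h.x1 s2
  · exact ⟨w, w1, w2, e, .inl w3⟩
  · refine ⟨w ^ 2, (Commute.pow_left w1 2).eq, by rw [← pow_mul, mul_comm, pow_mul, w2, one_pow], ?_,
      .inr ?_⟩
    · rw [pow_cj_cen e (Commute.mul_right w1 w1), pow_two, inv_inv_three h.x3]
    · rw [h.pow (KN w1), w3]
      exact req (Golay.R.pow rI 2) (Golay.R.inv rI)

theorem w_norm {w : G} (e : μ w = pm p32 ∨ μ w = (pm p32)⁻¹) {u : Pm} (hu : u ∈ Ub) :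
    μ w * u * (μ w)⁻¹ ∈ Ub := by
  rcases e with e | e <;> rw [e]
  exacts [norm_lg rI (by decide +kernel) hu, norm_lg (Golay.R.inv rI) (by decide +kernel) hu]

/-- the centraliser of `x` and `y` -/
theorem cent_E (e1 : g * x = x * g) (e2 : g * y = y * g) :
    ∃ v, IV x y v ∧ ∃ k ∈ zpowers x, ∃ i : ℕ, g = v * y ^ i * k := by
  obtain ⟨w, w1, w2, w3, w4⟩ := h.exists_w
  obtain ⟨v, hv, i, j, hj, e⟩ := (cent31 (h.memK e1) (by
    rw [← h.μy, ← h.mul _ (KN e1) _ (KN h.yK), e2, h.mul _ (KN h.yK) _ (KN e1)])).2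
  obtain ⟨j, hj, e⟩ : ∃ j < 3, μ g = v * pm p31 ^ i * μ w ^ j := by
    rcases w4 with e3 | e3
    · exact ⟨j, hj, e3 ▸ e⟩
    · refine ⟨2 * j % 3, Nat.mod_lt _ (by norm_num), e.trans (congrArg _ ?_)⟩
      rw [e3]
      interval_cases j <;> exact req (Golay.R.pow rI _) (Golay.R.pow (Golay.R.inv rI) _)
  obtain ⟨a, a1, a2, rfl⟩ := h.lift2 (Ub_le (Wb_le hv)) (Ub_sq (Wb_le hv))
  have aV := h.iv_iff.2 ⟨a1, a2, hv⟩
  have c1 : Commute (y ^ i) x := Commute.pow_left h.yK i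
  have c2 : Commute (w ^ j) x := Commute.pow_left w1 j
  obtain ⟨k, hk, rfl⟩ := h.eq_of (KN e1) (KN ((Commute.mul_left a1 c1).mul_left c2)) (by
    rw [e, h.mul _ (KN (Commute.mul_left a1 c1)) _ (KN c2), h.mul _ (KN a1) _ (KN c1), h.pow (KN h.yK),
      h.pow (KN w1), h.μy])
  have c : Commute (a * y ^ i) y := Commute.mul_left aV.2.1 ((Commute.refl y).pow_left i)
  have e3 : w ^ j * y = y * w ^ j := by
    rw [mul_assoc _ k, ← h.cen hk h.yK, ← mul_assoc, ← mul_assoc, mul_left_inj, ← mul_assoc, ← c.eq,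
      mul_assoc, mul_assoc _ y, mul_right_inj] at e2
    exact e2
  have e4 := pow_cj_cen w3 w1 j
  rw [e3, mul_inv_cancel_right, left_eq_mul, ← orderOf_dvd_iff_pow_eq_one, h.ox] at e4
  obtain rfl : j = 0 := by omega
  obtain ⟨l, hl, e5 | e5⟩ := h.dec hk <;> rw [e5]
  · exact ⟨a, aV, l, hl, i, by rw [pow_zero, mul_one]⟩
  · refine ⟨a * z, h.mem_V0.1 (mul_mem (h.mem_V0.2 aV) (h.mem_V0.2 h.iv_z)), l, hl, i, ?_⟩
    rw [mul_assoc a z, ← h.zc _ c1, h.zc l (h.cen_x (zpowers_le.2 h.x_mem hl))]; group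

/-- an element inverting `x` and `y` and centralising `V0` -/
theorem exists_j : ∃ j ∈ Nm x, μ j = pm jj ∧ j * x * j⁻¹ = x⁻¹ ∧ j * y * j⁻¹ = y⁻¹ ∧
    (j * j = 1 ∨ j * j = z) ∧ ∀ v, IV x y v → j * v = v * j := by
  obtain ⟨j, hj, e⟩ := h.surj _ (mD (P := jj))
  have jx : j * x * j⁻¹ = x⁻¹ := (h.cases hj).resolve_left fun e1 => by
    have := h.memK e1
    rw [e, R_t22 rD mD] at this
    exact absurd this (by decide +kernel)
  have jk : ∀ k ∈ zpowers x, j * k * j⁻¹ = k⁻¹ := by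
    rintro _ ⟨i, rfl⟩
    simp only [← conj_zpow, jx, inv_zpow]
  have j2 := h.sq_ker hj (e ▸ req (Golay.R.mul rD rD) Golay.R.one)
  have j3 : j * j = 1 ∨ j * j = z := by
    obtain ⟨l, hl, e3⟩ := h.dec j2
    have e4 := jk l hl
    have e5 : j * l * j⁻¹ = l := by
      rcases e3 with e3 | e3
      · rw [← e3]; group
      · rw [← mul_inv_eq_iff_eq_mul] at e3
        rw [← e3, mul_assoc, mul_assoc, mul_assoc, ← mul_inv_rev, h.norm_z hj]; group
    rw [e5, ← mul_eq_one_iff_eq_inv] at e4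
    rwa [eq_one_23 e4 (h.cube hl), one_mul] at e3
  have jy : j * y * j⁻¹ = y⁻¹ := by
    obtain ⟨k, hk, e1⟩ := h.eq_three (h.conj_K hj h.yK) h.pr.inv.c (pow_cj h.y3) h.pr.inv.b3 (by
      rw [h.cj hj (KN h.yK), h.inv (KN h.yK), e, h.μy]
      exact req (Golay.R.conj rD rI) (Golay.R.inv rI))
    have e2 : j * j * y * (j * j)⁻¹ = y * (k * k)⁻¹ := by
      calc _ = j * (j * y * j⁻¹) * j⁻¹ := by group
        _ = (j * y * j⁻¹)⁻¹ * (j * k * j⁻¹) := by rw [conj_inv, conj_mul, ← e1]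
        _ = _ := by
          rw [e1, jk k hk, mul_inv_rev, inv_inv, ← (Commute.inv_right
            (h.cen (zpowers_le.2 h.x_mem hk) h.yK)).eq]; group
    rw [← h.cen j2 h.yK, mul_inv_cancel_right, left_eq_mul, inv_eq_one] at e2
    rw [e1, eq_one_23 e2 (h.cube hk), mul_one]
  refine ⟨j, hj, e, jx, jy, j3, fun v hv => ?_⟩
  obtain ⟨w, w1, w2, w3, w4⟩ := h.exists_w
  have cz : ∀ v, IV x y v → ∃ k, (k = 1 ∨ k = z) ∧ j * v * j⁻¹ = v * k := fun v hv => by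
    obtain ⟨P, r, c⟩ := of_lg (h.iv_iff.1 hv).2.2 (p := fun P => cm jj P) (by decide +kernel)
    rcases h.eq_two (h.conj_K hj hv.1) hv.1 (sq_cj hv.2.2) hv.2.2 (by
      rw [h.cj hj (KN hv.1), e, comm_of rD r c, mul_inv_cancel_right]) with e1 | e1
    exacts [⟨1, .inl rfl, by rw [e1, mul_one]⟩, ⟨z, .inr rfl, e1⟩]
  obtain ⟨k, hk, e1⟩ := h.comm_ker hj (KN w1) (by
    rcases w4 with e1 | e1 <;> rw [e, e1]
    exacts [comm_of rD rI, comm_of rD (Golay.R.inv rI)])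
  have wv : ∀ v, IV x y v → IV x y (w * v * w⁻¹) := fun v hv => by
    obtain ⟨P, r, c⟩ := of_lg (h.iv_iff.1 hv).2.2 (p := fun P => lmem (conj24 p32 P) WL &&
      lmem (conj24 (inv24 p32) P) WL) (by decide +kernel)
    rw [Bool.and_eq_true] at c
    refine h.iv_iff.2 ⟨h.conj_K (KN w1) hv.1, sq_cj hv.2.2, ?_⟩
    rw [h.cj (KN w1) (KN hv.1)]
    rcases w4 with e2 | e2 <;> rw [e2]
    exacts [mem_lg (Golay.R.conj rI r) c.1, mem_lg (Golay.R.conj (Golay.R.inv rI) r) c.2]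
  have st : ∀ v l, IV x y v → (l = 1 ∨ l = z) → j * v * j⁻¹ = v * l →
      j * (w * v * w⁻¹) * j⁻¹ = w * v * w⁻¹ * l := fun v l hv hl e2 => by
    have lz : l ∈ zpowers (x * z) := by rcases hl with rfl | rfl; exacts [one_mem _, h.z_mem]
    rw [← conj_mul, ← conj_mul, ← conj_inv, e1, e2, mul_assoc w k, ← mul_assoc k, ← h.cen hk hv.1,
      mul_assoc v, h.cen lz (h.cen_x hk), mul_inv_rev, mul_assoc _ w⁻¹, (Commute.inv_left (h.cen lz w1)).eq]
    group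
  obtain ⟨l, hl, e2⟩ := cz v hv
  have e3 := st v l hv hl e2
  have e4 := st _ l (wv v hv) hl e3
  have lz : l ∈ zpowers (x * z) := by rcases hl with rfl | rfl; exacts [one_mem _, h.z_mem]
  have m := h.mem_V0.1 (mul_mem (mul_mem (h.mem_V0.2 hv) (h.mem_V0.2 (wv v hv))) (h.mem_V0.2 (wv _ (wv v hv))))
  have e5 : v * (w * v * w⁻¹) * (w * (w * v * w⁻¹) * w⁻¹) ∈ zpowers (x * z) := (h.ker _ (KN m.1)).1 (by
    obtain ⟨P, r, c⟩ := of_lg (h.iv_iff.1 hv).2.2 (p := fun P =>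
      Nat.beq (comp24 (comp24 P (conj24 p32 P)) (conj24 p32 (conj24 p32 P))) one24 &&
      Nat.beq (comp24 (comp24 P (conj24 (inv24 p32) P)) (conj24 (inv24 p32) (conj24 (inv24 p32) P))) one24)
      (by decide +kernel)
    rw [Bool.and_eq_true] at c
    rw [h.mul _ (mul_mem (KN hv.1) (KN (wv v hv).1)) _ (KN (wv _ (wv v hv)).1),
      h.mul _ (KN hv.1) _ (KN (wv v hv).1), h.cj (KN w1) (KN (wv v hv).1), h.cj (KN w1) (KN hv.1)]
    rcases w4 with e2 | e2 <;> rw [e2]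
    exacts [req ((r.mul (Golay.R.conj rI r)).mul (Golay.R.conj rI (Golay.R.conj rI r))) Golay.R.one c.1,
      req ((r.mul (Golay.R.conj (Golay.R.inv rI) r)).mul (Golay.R.conj (Golay.R.inv rI)
        (Golay.R.conj (Golay.R.inv rI) r))) Golay.R.one c.2])
  have e6 : j * (v * (w * v * w⁻¹) * (w * (w * v * w⁻¹) * w⁻¹)) * j⁻¹ =
      v * (w * v * w⁻¹) * (w * (w * v * w⁻¹) * w⁻¹) := by
    rcases h.two' e5 m.2.2 with e6 | e6 <;> rw [e6]
    exacts [by simp, by rw [h.norm_z hj, mul_inv_cancel_right]]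
  rw [← conj_mul, ← conj_mul, e2, e3, e4] at e6
  have c1 := h.cen lz (wv v hv).1
  have c2 := h.cen lz (wv _ (wv v hv)).1
  generalize w * (w * v * w⁻¹) * w⁻¹ = b at e6 c2
  generalize w * v * w⁻¹ = a at e6 c1
  have l2 : l * l = 1 := by rcases hl with rfl | rfl; exacts [mul_one _, h.zz]
  rw [mul_assoc v, ← mul_assoc l, ← c1, mul_assoc a, l2, mul_one, ← mul_assoc,
    mul_eq_left] at e6
  rwa [e6, mul_one, mul_inv_eq_iff_eq_mul] at e2

end Ch

end CL.J4T
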