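/- Coprime action of an elementary abelian group of order 9. -/
import Cfsg.Agent.SPOR.J4T.Kit

set_option autoImplicit false
set_option linter.unusedSectionVars false
set_option linter.unusedVariables false

namespace CL.J4T

open CL.K CL.LX Cfsg CL.Golay CL.MAut CL.J4 Subgroup
open CL.F24 (mem_zpowers_three)
open CL.MSS (isPGroup_zpowers)

variable {G : Type*} [Group G] {x y : G}

theorem cent_inv (a : G) : centralizer ({a⁻¹} : Set G) = centralizer {a} := by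
  rw [← centralizer_zpowers, zpowers_inv, centralizer_zpowers]

namespace Pr
variable (p : Pr x y)
include p

theorem mem_E {a : G} (h : a ∈ zpowers x ⊔ zpowers y) : ∃ i j : Fin 3, a = y ^ (j : ℕ) * x ^ (i : ℕ) := by
  have c : Commute y x := p.c
  let E : Subgroup G := ⟨⟨⟨{a | ∃ i j : ℤ, a = y ^ j * x ^ i}, by
      rintro _ _ ⟨i, j, rfl⟩ ⟨k, l, rfl⟩
      exact ⟨i + k, j + l, by
        rw [zpow_add, zpow_add, mul_assoc, mul_assoc, ← mul_assoc (x ^ i), ← (c.zpow_zpow l i).eq, mul_assoc]⟩⟩,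
      0, 0, by simp⟩, by
      rintro _ ⟨i, j, rfl⟩
      exact ⟨-i, -j, by rw [mul_inv_rev, ← zpow_neg, ← zpow_neg, (c.zpow_zpow _ _).eq]⟩⟩
  obtain ⟨i, j, rfl⟩ : a ∈ E := (sup_le (zpowers_le.2 ⟨1, 0, by simp⟩) (zpowers_le.2 ⟨0, 1, by simp⟩) : _ ≤ E) h
  have key : ∀ (b : G), b ^ 3 = 1 → ∀ i : ℤ, ∃ k : Fin 3, b ^ i = b ^ (k : ℕ) := fun b hb i => by
    rcases mem_zpowers_three hb (y := b ^ i) ⟨i, rfl⟩ with e | e | e
    exacts [⟨0, by simpa using e⟩, ⟨1, by simpa using e⟩, ⟨2, by simpa [pow_two] using e⟩]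
  obtain ⟨k, hk⟩ := key x p.a3 i
  obtain ⟨l, hl⟩ := key y p.b3 j
  exact ⟨k, l, by rw [hk, hl]⟩

theorem E_cube {a : G} (h : a ∈ zpowers x ⊔ zpowers y) : a ^ 3 = 1 := by
  obtain ⟨i, j, rfl⟩ := p.mem_E h
  rw [((show Commute y x from p.c).pow_pow _ _).mul_pow, ← pow_mul, ← pow_mul, mul_comm _ 3, mul_comm _ 3,
    pow_mul, pow_mul, p.a3, p.b3]; simp

theorem cent_cases (i j : Fin 3) : (i = 0 ∧ j = 0) ∨ ∃ a ∈ [x, y, y * x, y * x⁻¹],
    y ^ (j : ℕ) * x ^ (i : ℕ) = a ∨ y ^ (j : ℕ) * x ^ (i : ℕ) = a⁻¹ := by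
  have c : Commute y x := p.c
  have e1 := (inv_three p.a3).symm
  have e2 := (inv_three p.b3).symm
  fin_cases i <;> fin_cases j <;> simp [pow_two, e1, e2, c.inv_inv.eq, c.inv_left.eq]

theorem inj : Function.Injective fun q : Fin 3 × Fin 3 => y ^ (q.2 : ℕ) * x ^ (q.1 : ℕ) := by
  have : Fact (Nat.Prime 3) := ⟨Nat.prime_three⟩
  have ox := orderOf_eq_prime p.a3 p.a1
  have oy := orderOf_eq_prime p.b3 p.b1
  rintro ⟨i, j⟩ ⟨k, l⟩ (e : y ^ (j : ℕ) * x ^ (i : ℕ) = y ^ (l : ℕ) * x ^ (k : ℕ))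
  have h1 : (y ^ (l : ℕ))⁻¹ * y ^ (j : ℕ) ∈ zpowers x := by
    rw [show (y ^ (l : ℕ))⁻¹ * y ^ (j : ℕ) = x ^ (k : ℕ) * (x ^ (i : ℕ))⁻¹ by
      rw [inv_mul_eq_iff_eq_mul, ← mul_assoc, ← e, mul_inv_cancel_right]]
    exact mul_mem (pow_mem (mem_zpowers x) _) (inv_mem (pow_mem (mem_zpowers x) _))
  have h2 : (y ^ (l : ℕ))⁻¹ * y ^ (j : ℕ) = 1 := by
    rcases mem_zpowers_three p.b3 (mul_mem (inv_mem (pow_mem (mem_zpowers y) l))
      (pow_mem (mem_zpowers y) j)) with e1 | e1 | e1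
    · exact e1
    · exact absurd (e1 ▸ h1) p.n
    · rw [e1, ← inv_three p.b3, inv_mem_iff] at h1
      exact absurd h1 p.n
  rw [inv_mul_eq_one] at h2
  rw [h2, mul_right_inj] at e
  exact Prod.ext (Fin.ext (pow_injOn_Iio_orderOf (by simp [ox]) (by simp [ox]) e))
    (Fin.ext (pow_injOn_Iio_orderOf (by simp [oy]) (by simp [oy]) h2.symm))

variable [Finite G] {D : Subgroup G} (hx : x ∈ normalizer (D : Set G)) (hy : y ∈ normalizer (D : Set G))
  (h3 : ¬ 3 ∣ Nat.card D)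
include hx hy h3

/-- the order formula -/
theorem ordE : Nat.card D * Nat.card (D ⊓ (centralizer {x} ⊓ centralizer {y}) : Subgroup G) ^ 3 =
    Nat.card (D ⊓ centralizer {x} : Subgroup G) * Nat.card (D ⊓ centralizer {y} : Subgroup G) *
      Nat.card (D ⊓ centralizer {y * x} : Subgroup G) * Nat.card (D ⊓ centralizer {y * x⁻¹} : Subgroup G) := by
  classical
  let e : Fin 3 × Fin 3 ≃ (zpowers x ⊔ zpowers y : Subgroup G) := Equiv.ofBijective
    (fun q => ⟨y ^ (q.2 : ℕ) * x ^ (q.1 : ℕ), mul_mem (mem_sup_right (pow_mem (mem_zpowers y) _))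
      (mem_sup_left (pow_mem (mem_zpowers x) _))⟩)
    ⟨fun a b h => p.inj (congrArg Subtype.val h), fun a => by
      obtain ⟨i, j, h⟩ := p.mem_E a.2
      exact ⟨(i, j), Subtype.ext h.symm⟩⟩
  have cE : Nat.card (zpowers x ⊔ zpowers y : Subgroup G) = 9 := by rw [← Nat.card_congr e]; simp
  have := Fintype.ofFinite (zpowers x ⊔ zpowers y : Subgroup G)
  have h1 := CL.WOrd.order_formula' Nat.prime_three (zpowers x ⊔ zpowers y) D (fun a => p.E_cube)
    (by omega) (sup_le (zpowers_le.2 hx) (zpowers_le.2 hy)) h3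
  have h2 := Finset.mul_prod_erase Finset.univ (fun a : (zpowers x ⊔ zpowers y : Subgroup G) =>
    Nat.card (D ⊓ centralizer {(a : G)} : Subgroup G)) (Finset.mem_univ 1)
  rw [← e.prod_comp, Fintype.prod_prod_type] at h2
  have c : Commute y x := p.c
  have e1 := (inv_three p.a3).symm
  have e2 := (inv_three p.b3).symm
  have e3 : y⁻¹ * x⁻¹ = (y * x)⁻¹ := by rw [c.inv_inv.eq, mul_inv_rev]
  have e4 : y⁻¹ * x = (y * x⁻¹)⁻¹ := by rw [c.inv_left.eq, mul_inv_rev, inv_inv]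
  have e5 : centralizer ((zpowers x ⊔ zpowers y : Subgroup G) : Set G) = centralizer {x} ⊓ centralizer {y} := by
    rw [zpowers_eq_closure, zpowers_eq_closure, ← Subgroup.closure_union, centralizer_closure]
    ext g; simp [mem_centralizer_iff, and_comm]
  have he : ∀ q, (e q : G) = y ^ (q.2 : ℕ) * x ^ (q.1 : ℕ) := fun _ => rfl
  simp only [Fin.prod_univ_three, he, Fin.val_zero, Fin.val_one, Fin.val_two, pow_zero,
    pow_one, pow_two, mul_one, one_mul, e1, e2, e3, e4, cent_inv, coe_one] at h2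
  rw [cE, e5] at h1
  have h0 : 0 < Nat.card (D ⊓ centralizer {(1 : G)} : Subgroup G) := Nat.card_pos
  generalize Nat.card (D ⊓ centralizer {(1 : G)} : Subgroup G) = n at h2 h0
  generalize (∏ a ∈ Finset.univ.erase (1 : (zpowers x ⊔ zpowers y : Subgroup G)),
    Nat.card (D ⊓ centralizer {(a : G)} : Subgroup G)) = m at h1 h2
  refine Nat.pow_left_injective (n := 6) (by norm_num) ?_
  simp only
  rw [mul_pow, ← pow_mul, ← h1, Nat.eq_of_mul_eq_mul_left h0 (h2.trans (show _ = n *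
    (Nat.card (D ⊓ centralizer {x} : Subgroup G) * Nat.card (D ⊓ centralizer {y} : Subgroup G) *
      Nat.card (D ⊓ centralizer {y * x} : Subgroup G) *
        Nat.card (D ⊓ centralizer {y * x⁻¹} : Subgroup G)) ^ 2 by ring)), ← pow_mul]

omit p hx hy in
theorem pow16 {d : G} (hd : d ∈ D) (h : d ^ 144 = 1) : d ^ 2 ^ 4 = 1 := by
  have h1 := (pow_gcd_eq_one (a := d) (m := 144) (n := Nat.card D)).2 ⟨h,
    congrArg Subtype.val (pow_card_eq_one' (x := (⟨d, hd⟩ : D)))⟩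
  refine orderOf_dvd_iff_pow_eq_one.1 ((orderOf_dvd_of_pow_eq_one h1).trans ?_)
  exact Nat.Coprime.dvd_of_dvd_mul_right (n := 3 ^ 2) (m := 2 ^ 4) (Nat.Coprime.pow_right 2
    (Nat.Coprime.coprime_dvd_left (Nat.gcd_dvd_right _ _)
      ((Nat.prime_three.coprime_iff_not_dvd.2 h3).symm))) (Nat.gcd_dvd_left _ _)

theorem twoE (h : ∀ a ∈ [x, y, y * x, y * x⁻¹], ∀ d ∈ D, d * a = a * d → d ^ 144 = 1) : IsPGroup 2 D := by
  have : Fact (Nat.Prime 2) := ⟨Nat.prime_two⟩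
  have key : ∀ a ∈ [x, y, y * x, y * x⁻¹], ∃ n, Nat.card (D ⊓ centralizer {a} : Subgroup G) = 2 ^ n :=
    fun a ha => IsPGroup.exists_card_eq fun d =>
      ⟨4, Subtype.ext (pow16 h3 d.2.1 (h a ha d d.2.1 (mz.1 d.2.2)))⟩
  obtain ⟨a, ha⟩ := key x (by simp)
  obtain ⟨b, hb⟩ := key y (by simp)
  obtain ⟨c, hc⟩ := key (y * x) (by simp)
  obtain ⟨d, hd⟩ := key (y * x⁻¹) (by simp)
  have h1 := p.ordE hx hy h3
  rw [ha, hb, hc, hd, ← pow_add, ← pow_add, ← pow_add] at h1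
  obtain ⟨k, -, hk⟩ := (Nat.dvd_prime_pow Nat.prime_two).1 (h1 ▸ dvd_mul_right _ _)
  exact IsPGroup.of_card hk

theorem genE {S : Subgroup G} (h : ∀ a ∈ [x, y, y * x, y * x⁻¹], ∀ d ∈ D, d * a = a * d → d ∈ S) : D ≤ S := by
  have : Fact (Nat.Prime 3) := ⟨Nat.prime_three⟩
  have hc : IsMulCommutative (zpowers x ⊔ zpowers y : Subgroup G) := ⟨⟨fun a b => Subtype.ext (by
    obtain ⟨i, j, e⟩ := p.mem_E a.2
    obtain ⟨k, l, e'⟩ := p.mem_E b.2
    have c : Commute y x := p.c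
    rw [coe_mul, coe_mul, e, e']
    exact ((Commute.pow_pow_self y _ _).mul_right (c.pow_pow _ _)).mul_left
      ((c.symm.pow_pow _ _).mul_right (Commute.pow_pow_self x _ _)))⟩⟩
  have hp : IsPGroup 3 (zpowers x ⊔ zpowers y : Subgroup G) := fun a =>
    ⟨1, Subtype.ext (by simpa using p.E_cube a.2)⟩
  obtain ⟨n, hn⟩ := hp.exists_card_eq
  rw [← CL.coprime_iSup_centralizer_noncyclic (zpowers x ⊔ zpowers y) D (fun ⟨g, hg⟩ => ?_)
    (sup_le (zpowers_le.2 hx) (zpowers_le.2 hy))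
    (hn ▸ Nat.Coprime.pow_left n (Nat.prime_three.coprime_iff_not_dvd.2 h3))]
  · refine iSup₂_le fun a ha d hd => ?_
    obtain ⟨i, j, rfl⟩ := p.mem_E ha.1
    rcases p.cent_cases i j with ⟨rfl, rfl⟩ | ⟨b, hb, e | e⟩
    · exact absurd (by simp) ha.2
    · exact h b hb d hd.1 (mz.1 (e ▸ hd.2))
    · exact h b hb d hd.1 (mz.1 (cent_inv b ▸ e ▸ hd.2))
  · have key : ∀ a ∈ zpowers x ⊔ zpowers y, a ∈ zpowers (g : G) := fun a ha => by
      obtain ⟨i, hi⟩ := hg ⟨a, ha⟩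
      exact ⟨i, congrArg Subtype.val hi⟩
    have g3 := p.E_cube g.2
    refine p.n (zpowers_le.2 ?_ (key y (mem_sup_right (mem_zpowers y))))
    rcases mem_zpowers_three g3 (key x (mem_sup_left (mem_zpowers x))) with e | e | e
    · exact absurd e p.a1
    · exact e ▸ mem_zpowers _
    · rw [← inv_inv_three g3, ← e]; exact mul_mem (mem_zpowers x) (mem_zpowers x)

end Pr

end CL.J4T
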