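/- The data from which the extraspecial group is built. -/
import Cfsg.Agent.SPOR.J4T.EE

set_option autoImplicit false

namespace CL.J4T

open CL.MAut Subgroup

variable {G : Type*} [Group G]

/-- a chart with an elementary abelian group `H` on which `x` acts without fixed points -/
structure Gd (x y z w : G) (μ : G → Pm) (H : Subgroup G) : Prop extends Ch x y z μ where
  z1 : z ≠ 1
  hz : ¬ ∀ k, k * y = y * k → k * z = z * k
  wx : w * x = x * w
  wy : w * y * w⁻¹ = y * x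
  sq : ∀ b ∈ H, b * b = 1
  nm : ∀ b ∈ H, b * (x * b * x⁻¹) * (x⁻¹ * b * x) = 1
  Hz : ∀ b ∈ H, b * z = z * b
  xH : x ∈ normalizer (H : Set G)
  yH : y ∈ normalizer (H : Set G)
  wH : w ∈ normalizer (H : Set G)
  nc : ¬ ∀ v, IV x y v → ∀ b ∈ H, v * b = b * v

/-- `⟨x, y⟩`-invariant subgroups of order prime to 3 of the centraliser of `z` in which `x` only fixes `⟨z⟩` -/
structure Mx (x y z : G) (X : Subgroup G) : Prop where
  zX : z ∈ X
  Xz : ∀ g ∈ X, g * z = z * g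
  xN : x ∈ normalizer (X : Set G)
  yN : y ∈ normalizer (X : Set G)
  n3 : ¬ 3 ∣ Nat.card X
  fpf : ∀ g ∈ X, g * x = x * g → g = 1 ∨ g = z

/-- the largest such subgroup -/
structure QQ (x y z : G) (Q : Subgroup G) : Prop extends Mx x y z Q where
  max : ∀ X, Mx x y z X → X ≤ Q
  sq : ∀ q ∈ Q, q * q = 1 ∨ q * q = z
  bd : ∀ a ∈ [y, y * x, y * x⁻¹], Nat.card (Q ⊓ centralizer {a} : Subgroup G) ≤ 32
  Ny : ∀ g ∈ Nm y, g * z = z * g → ∃ r ∈ Q, r * g ∈ Nm x
  ne : ∃ q ∈ Q, q ≠ 1 ∧ q ≠ z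

end CL.J4T
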