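/- General lemmas on groups acted on by an element of order 3. -/
import Cfsg.Agent.SPOR.J4T.QDef

set_option autoImplicit false

namespace CL.J4T

open CL.J4 Subgroup

variable {G : Type*} [Group G] {x y z : G}

/-- PROOF. All of `closure S` commutes with `z`. For `c` commuting with `z` the set of `a` with `a z = z a` and
`a c = c a ∨ a c = c a z` is a subgroup, so two closure inductions give `a b = b a ∨ a b = b a z` on `closure S`,
which is invariant under conjugation by `x`. `(q x) ^ 3 = q (x q x⁻¹) (x⁻¹ q x)`; modulo `⟨z⟩` the maps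
`q ↦ q q` and `q ↦ (q x) ^ 3` are multiplicative. -/
theorem clos {S : Set G} (x3 : x ^ 3 = 1) (zz : z * z = 1) (xz : x * z = z * x) (hz : ∀ s ∈ S, s * z = z * s)
    (hx : ∀ s ∈ S, x * s * x⁻¹ ∈ S) (h2 : ∀ s ∈ S, s * s = 1)
    (h3 : ∀ s ∈ S, (s * x) ^ 3 = 1 ∨ (s * x) ^ 3 = z)
    (hc : ∀ s ∈ S, ∀ t ∈ S, s * t = t * s ∨ s * t = t * s * z) {q : G} (hq : q ∈ closure S) :
    q * z = z * q ∧ (q * q = 1 ∨ q * q = z) ∧ ((q * x) ^ 3 = 1 ∨ (q * x) ^ 3 = z) := by
  have mem : ∀ {p : G → Prop}, p 1 → (∀ s ∈ S, p s) →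
      (∀ a ∈ closure S, ∀ b ∈ closure S, p a → p b → p (a * b)) → ∀ a ∈ closure S, p a :=
    fun {p} h1 hs hm a ha => closure_induction'' (p := fun a _ => p a) hs
      (fun s h => (inv_eq_of_mul_eq_one_right (h2 s h)).symm ▸ hs s h) h1 (fun a b ha hb => hm a ha b hb) ha
  have cz : ∀ a ∈ closure S, a * z = z * a := mem (by simp) hz fun a _ b _ ha hb => Commute.mul_left ha hb
  let Z : G → Prop := fun e => e = 1 ∨ e = z
  have Z1 : Z 1 := .inl rfl
  have Zm : ∀ {e f}, Z e → Z f → Z (e * f) := by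
    rintro _ _ (rfl | rfl) (rfl | rfl) <;> simp [Z, zz]
  have Zc : ∀ {e}, Z e → ∀ a ∈ closure S, e * a = a * e := by
    rintro _ (rfl | rfl) a ha
    exacts [by simp, (cz a ha).symm]
  have sw0 : ∀ t ∈ closure S, (∀ s ∈ S, ∃ e, Z e ∧ s * t = t * s * e) →
      ∀ a ∈ closure S, ∃ e, Z e ∧ a * t = t * a * e := fun t ht hs =>
    mem ⟨1, Z1, by simp⟩ hs (by
      rintro a - b hb ⟨e, he, e1⟩ ⟨f, hf, e2⟩
      refine ⟨e * f, Zm he hf, ?_⟩
      calc _ = a * t * b * f := by rw [mul_assoc, e2]; group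
        _ = t * a * (e * b) * f := by rw [e1]; group
        _ = _ := by rw [Zc he b hb]; group)
  have sw : ∀ a ∈ closure S, ∀ b ∈ closure S, ∃ e, Z e ∧ a * b = b * a * e := fun a ha b hb =>
    sw0 b hb (fun s hs => by
      obtain ⟨e, he, e1⟩ := sw0 s (subset_closure hs) (fun t ht => (hc t ht s hs).elim
        (fun h => ⟨1, Z1, by rw [h, mul_one]⟩) fun h => ⟨z, .inr rfl, h⟩) b hb
      refine ⟨e, he, ?_⟩
      rw [e1, mul_assoc]
      rcases he with rfl | rfl <;> simp [zz]) a ha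
  have cx : ∀ a ∈ closure S, x * a * x⁻¹ ∈ closure S :=
    mem (by simp) (fun s hs => subset_closure (hx s hs)) fun a _ b _ ha hb => by
      rw [← conj_mul]; exact mul_mem ha hb
  have cu : ∀ a : G, (a * x) ^ 3 = a * (x * a * x⁻¹) * (x * (x * a * x⁻¹) * x⁻¹) := fun a => by
    calc _ = a * (x * a * x⁻¹) * (x * (x * a * x⁻¹) * x⁻¹) * x ^ 3 := by
          simp only [pow_succ, pow_zero, one_mul]; group
      _ = _ := by rw [x3, mul_one]
  refine ⟨cz q hq, mem (p := fun q => Z (q * q)) (.inl (mul_one 1)) (fun s hs => .inl (h2 s hs))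
    (fun a ha b hb h1 h2 => ?_) q hq, mem (p := fun q => Z ((q * x) ^ 3)) (.inl (by rw [one_mul, x3])) h3
    (fun a ha b hb h1 h2 => ?_) q hq⟩
  · obtain ⟨e, he, e1⟩ := sw b hb a ha
    have : a * b * (a * b) = a * a * (b * b) * e := by
      calc _ = a * (b * a) * b := by group
        _ = a * a * b * (e * b) := by rw [e1]; group
        _ = _ := by rw [Zc he b hb]; group
    exact this ▸ Zm (Zm h1 h2) he
  · have a1 := cx a ha
    have a2 := cx _ a1
    have b1 := cx b hb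
    have b2 := cx _ b1
    rw [cu] at h1 h2 ⊢
    rw [← conj_mul, ← conj_mul]
    generalize x * (x * a * x⁻¹) * x⁻¹ = a'' at *
    generalize x * (x * b * x⁻¹) * x⁻¹ = b'' at *
    generalize x * a * x⁻¹ = a' at *
    generalize x * b * x⁻¹ = b' at *
    obtain ⟨e, he, e1⟩ := sw b hb a' a1
    obtain ⟨f, hf, e2⟩ := sw _ (mul_mem hb b1) a'' a2
    have : a * b * (a' * b') * (a'' * b'') = a * a' * a'' * (b * b' * b'') * (f * e) := by
      calc _ = a * (b * a') * (b' * (a'' * b'')) := by group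
        _ = a * a' * b * (e * (b' * (a'' * b''))) := by rw [e1]; group
        _ = a * a' * (b * b' * a'') * b'' * e := by rw [Zc he _ (mul_mem b1 (mul_mem a2 b2))]; group
        _ = a * a' * a'' * (b * b') * (f * b'') * e := by rw [e2]; group
        _ = _ := by rw [Zc hf _ b2]; group
    exact this ▸ Zm (Zm h1 h2) (Zm hf he)

/-- PROOF. `u = g x` has `u ^ 3 ∈ X`. With `m ≡ 1 mod 3`, `m ≡ 0 mod |X|` the element `u ^ m ∈ X x` has order 3
(`x ∉ X`), and `⟨x⟩` is a Sylow 3-subgroup of `M = X ⊔ ⟨x⟩ ≤ C(z)` (`CL.J4.exists_conj_le`), so some `k ∈ M`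
conjugates `u ^ m` to `x` or `x⁻¹`; then `k u ^ 3 k⁻¹ ∈ X` commutes with `x`. (Or count: the `X`-classes of `x` and
`x z` have `|X| / 2` elements each and fill `X x`.) -/
theorem Mx.norm [Finite G] {X : Subgroup G} (hX : Mx x y z X) (x3 : x ^ 3 = 1) (x1 : x ≠ 1)
    (xz : x * z = z * x) {g : G} (hg : g ∈ X) : (g * x) ^ 3 = 1 ∨ (g * x) ^ 3 = z := by
  have zz : z * z = 1 := (hX.fpf _ (mul_mem hX.zX hX.zX) (Commute.mul_left xz.symm xz.symm)).elim id fun e => by
    rw [mul_eq_left.1 e, mul_one]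
  have cx : ∀ k ∈ X, x * k * x⁻¹ ∈ X := fun k => (mem_normalizer_iff.1 hX.xN k).1
  have cu : ∀ k ∈ X, ∀ e, e = 1 ∨ e = z → (k * x * k⁻¹ * e) ^ 3 = e := by
    rintro k hk e (he | he) <;> rw [he]
    · rw [mul_one, pow_cj x3]
    · rw [(show Commute (k * x * k⁻¹) z from Commute.mul_left (Commute.mul_left (hX.Xz k hk) xz)
        (hX.Xz _ (inv_mem hk))).mul_pow, pow_cj x3, one_mul, pow_succ, pow_two, zz, one_mul]
  let Z := (zpowers z).subgroupOf X
  have hZ : ∀ {a b : X}, a⁻¹ * b ∈ Z ↔ ∃ e, (e = 1 ∨ e = z) ∧ (b : G) = a * e := fun {a b} =>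
    (CL.LX.mem_zpowers_of_sq zz).trans ⟨fun h => ⟨_, h, (mul_inv_cancel_left _ _).symm⟩, fun ⟨e, he, h⟩ => by
      rwa [coe_subtype, coe_mul, coe_inv, h, inv_mul_cancel_left]⟩
  have ce : ∀ {e}, e = 1 ∨ e = z → x * e = e * x := by
    rintro _ (rfl | rfl)
    exacts [by simp, xz]
  let f : X → X := fun k => ⟨k * (x * (k : G)⁻¹ * x⁻¹), mul_mem k.2 (cx _ (inv_mem k.2))⟩
  have hf : ∀ k, (f k : G) * x = k * x * (k : G)⁻¹ := fun k => by simp [f, mul_assoc]
  let F : X ⧸ Z → X ⧸ Z := Quotient.map' f fun a b h => by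
    rw [QuotientGroup.leftRel_apply, hZ] at h ⊢
    obtain ⟨e, he, h⟩ := h
    refine ⟨1, .inl rfl, mul_right_cancel (b := x) ?_⟩
    rw [mul_one, hf, hf, h, mul_assoc (a : G), ← ce he]; group
  have hi : Function.Injective F := fun a b => Quotient.inductionOn₂' a b fun a b h => by
    obtain ⟨e, he, h1⟩ := hZ.1 (QuotientGroup.eq.1 (show (f a : X ⧸ Z) = f b from h))
    have h2 : (b : G) * x * (b : G)⁻¹ * 1 = a * x * (a : G)⁻¹ * e := by
      rw [mul_one, ← hf, ← hf, h1, mul_assoc (f a : G), ← ce he, mul_assoc (f a : G)]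
    have h3 := congrArg (· ^ 3) h2
    simp only [cu _ b.2 1 (.inl rfl), cu _ a.2 e he] at h3
    subst h3
    refine QuotientGroup.eq.2 (hZ.2 ⟨_, hX.fpf _ (a⁻¹ * b).2 ?_, by simp⟩)
    rw [coe_mul, coe_inv]
    calc _ = (a : G)⁻¹ * (b * x * (b : G)⁻¹ * 1) * b := by group
      _ = _ := by rw [h2]; group
  obtain ⟨k, hk⟩ := Finite.injective_iff_surjective.1 hi (⟨g, hg⟩ : X)
  induction k using Quotient.inductionOn' with | _ k => ?_
  obtain ⟨e, he, h1⟩ := hZ.1 (QuotientGroup.eq.1 (show (f k : X ⧸ Z) = (⟨g, hg⟩ : X) from hk))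
  rw [show g = f k * e from h1, mul_assoc, ← ce he, ← mul_assoc, hf, cu _ k.2 e he]
  exact he

end CL.J4T
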