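/- The extraspecial group of order 32 in the centraliser of `w0`. -/
import Cfsg.Agent.SPOR.J4T.Kit

set_option autoImplicit false
set_option maxRecDepth 100000

namespace CL.J4T

open CL.K CL.LX Cfsg CL.Golay CL.MAut CL.J4 Subgroup

def RL : List ℕ := [980710656739011332955649480301057472, 981818691054096003685363657089320992, 966182099583441531322624363496310816, 967253231612594632296938810958713888, 980224387687010295957922729495201824, 967699887815422844247907960623761856, 965345902738115650407910717671377344, 971213848693338480213676616466338848, 984818244535754528103549039458486304, 966634667642498107854353434235409440, 965128854020860192151391391390468128, 980785969990893616695325690776032288, 972512676110088067912772961567868960, 971700361611140356443901154824849856, 982005046302505254502130267604948000, 964939962377512704279909070439748640, 967812279691448225500382947153381408, 971592882964418941354553515258775584, 964642347286683217669300169824376256, 966385453530342127483885373475624384,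 984363140085273155288445662158951456, 973121355147693701017410805644236224, 971389766699632891913379670249280960, 980298664783237897291657554909759936, 982102465294895192938951998200452544, 967528743129250142307004454690461120, 984606106881346576496464273681713600, 966229519571687614135518079526406592, 984209327819486398174424040943490496, 981761445690470217337039548235418048, 972448222222783710600775742517709248, 972894244609711697358950089321124896]
def TL : List ℕ := [971700361611140356443901154824849856, 966634667642498107854353434235409440, 984606106881346576496464273681713600, 982102465294895192938951998200452544, 967528743129250142307004454690461120, 967253231612594632296938810958713888]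
theorem RL_ok : lgOK RL = true := by decide +kernel
def Rb : Subgroup Pm := lgrp RL RL_ok

variable {g k : Pm}

theorem card_Rb : Nat.card Rb = 32 := by rw [Rb, card_lgrp _ (by decide +kernel)]; rfl

theorem Rb_comm (hg : g ∈ Rb) (hk : k ∈ Rb) : g * k = k * g ∨ g * k = k * g * pm w0 := by
  obtain ⟨P, r, e⟩ := of_lg hg (p := fun P => lall (fun T => cm P T ||
    Nat.beq (comp24 P T) (comp24 (comp24 T P) w0)) RL) (by decide +kernel)
  obtain ⟨T, s, e⟩ := of_lg hk e
  exact (Bool.or_eq_true_iff.1 e).imp (comm_of r s ·) (req (r.mul s) ((s.mul r).mul rI) ·)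

theorem Rb_W (hg : g ∈ Wb) (hk : k ∈ Rb) : g * k * g⁻¹ ∈ Rb :=
  let ⟨_, r, e⟩ := of_lg hg (p := fun P => lall (fun s => force (conj24 P s) fun t => lmem t RL) RL)
    (by decide +kernel)
  norm_lg r e hk

theorem factT (hg : g ∈ Spor.M22) (e : g * pm w0 = pm w0 * g) (e2 : g * g = 1) (e3 : (g * pm p31) ^ 3 = 1) :
    g ∈ Rb ∧ (g ∈ Ub ∨ ∃ P ∈ TL, R g P) := by
  obtain ⟨P, r, h⟩ := all_c (fun P => !(t22 P && (Nat.beq (comp24 P P) one24 &&
    Nat.beq (pow24 (comp24 P p31) 3) one24)) || (lmem P RL && (lmem P UL || lmem P TL))) rI (M22_le_Duad hg) e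
    (by decide +kernel)
  have := bimp h (mem22.2 g P hg r) (by
    rw [Nat.beq_eq.mpr ((r.comp24_eq_one_iff r).2 e2), Nat.beq_eq.mpr (((r.mul rI).pow_succ_eq_one_iff 2).2 e3)]
    rfl)
  rw [Bool.and_eq_true, Bool.or_eq_true] at this
  exact ⟨mem_lg r this.1, this.2.imp (mem_lg r ·) fun e => ⟨P, lmem_iff.1 e, r⟩⟩

theorem factC (hg : g ∈ Spor.M22) (e : g * pm w0 = pm w0 * g)
    (e3 : (g * pm p31) ^ 3 = 1 ∨ (g * pm p31) ^ 3 = pm w0) : g ∈ Rb ∨ ((g * g) ^ 3 = 1 ∧ g * g ≠ 1) := by
  obtain ⟨P, r, h⟩ := all_c (fun P => !(t22 P && (Nat.beq (pow24 (comp24 P p31) 3) one24 ||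
    Nat.beq (comp24 (pow24 (comp24 P p31) 3) w0) one24)) || (lmem P RL ||
    (Nat.beq (pow24 (comp24 P P) 3) one24 && !Nat.beq (comp24 P P) one24))) rI (M22_le_Duad hg) e (by decide +kernel)
  have := bimp h (mem22.2 g P hg r) (Bool.or_eq_true_iff.2 (e3.imp
    (fun e => Nat.beq_eq.mpr (((r.mul rI).pow_succ_eq_one_iff 2).2 e)) fun e => Nat.beq_eq.mpr
      ((((r.mul rI).pow 3).comp24_eq_one_iff rI).2 (by rw [e]; exact req (Golay.R.mul rI rI) Golay.R.one))))
  rw [Bool.or_eq_true, Bool.and_eq_true, Nat.beq_eq, (r.mul r).pow_succ_eq_one_iff 2, Bool.not_eq_true'] at this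
  exact this.imp (mem_lg r ·) (.imp_right fun e e1 => Nat.ne_of_beq_eq_false e ((r.comp24_eq_one_iff r).2 e1))

theorem factN (hg : g ∈ Duad) (e : g * pm w0 = pm w0 * g) :
    ∃ r ∈ Rb, r * g * pm p31 * (r * g)⁻¹ = pm p31 ∨ r * g * pm p31 * (r * g)⁻¹ = (pm p31)⁻¹ := by
  obtain ⟨P, r, h⟩ := all_c (fun P => lany (fun T => force (conj24 (comp24 T P) p31) fun S =>
    Nat.beq S p31 || Nat.beq S (inv24 p31)) RL) rI hg e (by decide +kernel)
  simp only [lany_iff, force_eq, Bool.or_eq_true] at h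
  obtain ⟨T, hT, h⟩ := h
  have s := ((lgOK_spec RL_ok).2 T hT).1
  exact ⟨pm T, ⟨T, hT, s⟩, h.imp (req ((s.mul r).conj rI) rI ·) (req ((s.mul r).conj rI) (Golay.R.inv rI) ·)⟩

theorem cover {B : Subgroup Pm} {P : ℕ} (hP : P ∈ TL) (r : R g P) (h0 : pm w0 ∈ B)
    (h : ∀ s, s = g ∨ s = pm p31 * g * (pm p31)⁻¹ → s ∈ B ∧ pm w1 * s * (pm w1)⁻¹ ∈ B) : Rb ≤ B := fun k hk => by
  obtain ⟨T, s, e⟩ := of_lg hk (lall_iff.1 (show lall (fun P => lall (fun T =>
    lany (fun U => lany (fun V => force (comp24 U (conj24 w1 V)) fun S => Nat.beq T S || Nat.beq T (comp24 S w0))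
      [one24, P, conj24 p31 P, comp24 P (conj24 p31 P)]) [one24, P, conj24 p31 P, comp24 P (conj24 p31 P)]) RL)
      TL = true by decide +kernel) P hP)
  have key : ∀ U ∈ [one24, P, conj24 p31 P, comp24 P (conj24 p31 P)],
      ∃ u, R u U ∧ u ∈ B ∧ pm w1 * u * (pm w1)⁻¹ ∈ B := fun U hU => by
    simp only [List.mem_cons, List.not_mem_nil, or_false] at hU
    rcases hU with rfl | rfl | rfl | rfl
    exacts [⟨1, Golay.R.one, one_mem _, by simp⟩, ⟨_, r, h _ (.inl rfl)⟩, ⟨_, Golay.R.conj rI r, h _ (.inr rfl)⟩,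
      ⟨_, r.mul (Golay.R.conj rI r), mul_mem (h _ (.inl rfl)).1 (h _ (.inr rfl)).1,
        by rw [← conj_mul]; exact mul_mem (h _ (.inl rfl)).2 (h _ (.inr rfl)).2⟩]
  simp only [lany_iff, force_eq, Bool.or_eq_true] at e
  obtain ⟨U, hU, V, hV, e⟩ := e
  obtain ⟨u, u1, u2, -⟩ := key U hU
  obtain ⟨v, v1, -, v2⟩ := key V hV
  rcases e with e | e
  exacts [req s (u1.mul (Golay.R.conj rI v1)) e ▸ mul_mem u2 v2,
    req s ((u1.mul (Golay.R.conj rI v1)).mul rI) e ▸ mul_mem (mul_mem u2 v2) h0]

/-- `p32` permutes the involutions of `Wb` cyclically -/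
theorem Wb_w0 (hg : g ∈ Wb) (h1 : g ≠ 1) : ∃ d ∈ Duad, d * pm p31 * d⁻¹ = pm p31 ∧ d * g * d⁻¹ = pm w0 := by
  obtain ⟨P, r, e⟩ := of_lg hg (p := fun P => Nat.beq P one24 || lany (fun T => okD T &&
    Nat.beq (conj24 T p31) p31 && Nat.beq (conj24 T P) w0) [one24, p32, inv24 p32]) (by decide +kernel)
  simp only [lany_iff, Bool.or_eq_true, Bool.and_eq_true] at e
  obtain ⟨T, -, ⟨e1, e2⟩, e3⟩ := e.resolve_left fun e => h1 (req r Golay.R.one e)
  exact ⟨pm T, mD e1, req ((rD e1).conj rI) rI e2, req ((rD e1).conj r) rI e3⟩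

theorem Wb_gen {d : Pm} (hd : d = pm p32 ∨ d = (pm p32)⁻¹) (hg : g ∈ Wb) (h1 : g ≠ 1) (hk : k ∈ Wb) :
    k = 1 ∨ k = g ∨ k = d * g * d⁻¹ ∨ k = g * (d * g * d⁻¹) := by
  obtain ⟨D, hD, s⟩ : ∃ D ∈ [p32, inv24 p32], R d D := by
    rcases hd with rfl | rfl
    exacts [⟨_, by simp, rI⟩, ⟨_, by simp, Golay.R.inv rI⟩]
  obtain ⟨P, r, e⟩ := of_lg hg (lall_iff.1 (show lall (fun D => lall (fun P => Nat.beq P one24 || lall (fun T =>
    Nat.beq T one24 || (Nat.beq T P || (Nat.beq T (conj24 D P) || Nat.beq T (comp24 P (conj24 D P))))) WL) WL)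
    [p32, inv24 p32] = true by decide +kernel) D hD)
  obtain ⟨T, t, e⟩ := of_lg hk ((Bool.or_eq_true_iff.1 e).resolve_left fun e => h1 (req r Golay.R.one e))
  simp only [Bool.or_eq_true] at e
  exact e.imp (req t Golay.R.one ·) (.imp (req t r ·) (.imp (req t (s.conj r) ·) (req t (r.mul (s.conj r)) ·)))

end CL.J4T
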