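/- A module in characteristic 2 for an elementary abelian group of order 9 and an inverting involution. -/
import Mathlib

set_option autoImplicit false

namespace CL.J4T.BadA

/-! ### Coordinates -/

abbrev B4 := Bool × Bool × Bool × Bool

def ad (c d : B4) : B4 := (c.1 ^^ d.1, c.2.1 ^^ d.2.1, c.2.2.1 ^^ d.2.2.1, c.2.2.2 ^^ d.2.2.2)
def o4 : B4 := (false, false, false, false)
def lin (c₂ c₃ c₄ c : B4) : B4 :=
  ad (ad (ad (c.1, false, false, false) (cond c.2.1 c₂ o4)) (cond c.2.2.1 c₃ o4)) (cond c.2.2.2 c₄ o4)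
def mw (c : B4) : B4 := (c.1, c.2.2.2, c.2.1, c.2.2.1)
def mq (c : B4) : B4 := (c.2.1, c.1, c.2.2.2, c.2.2.1)
def cw (m : B4 → B4) (c : B4) : B4 := mw (m (mw (mw c)))
def cq (m : B4 → B4) (c : B4) : B4 := mq (m (mq c))
def orb (m : B4 → B4) : List (B4 → B4) := [m, cw m, cw (cw m)]

/-- a map of order 3 with two fixed points -/
def Ok (m : B4 → B4) : Prop :=
  (∀ c, m (m (m c)) = c) ∧ (∃ c, m c ≠ c) ∧ ∃ c d, c ≠ o4 ∧ d ≠ o4 ∧ c ≠ d ∧ m c = c ∧ m d = d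

set_option synthInstance.maxSize 1000 in
instance (m : B4 → B4) : Decidable (Ok m) := by unfold Ok; infer_instance

set_option synthInstance.maxSize 1000 in
theorem chk : ∀ c₂ c₃ c₄ : B4, c₂.1 = false → c₃.1 = false → c₄.1 = false →
    (∀ c, lin c₂ c₃ c₄ (lin c₂ c₃ c₄ c) = c) → (∀ c, lin c₂ c₃ c₄ c = c) ∨
    ∃ A ∈ orb (lin c₂ c₃ c₄), ∃ B ∈ orb (lin c₂ c₃ c₄), Ok fun c => A (cq B c) := by
  decide +kernel

variable {Γ M : Type*} [Group Γ] [AddCommGroup M] [DistribMulAction Γ M]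

/-- combinations of four vectors -/
def cb (a₁ a₂ a₃ a₄ : M) (c : B4) : M := cond c.1 a₁ 0 + cond c.2.1 a₂ 0 + cond c.2.2.1 a₃ 0 + cond c.2.2.2 a₄ 0

theorem cond_xor (h2 : ∀ v : M, v + v = 0) (a : M) (b c : Bool) :
    cond (b ^^ c) a 0 = cond b a 0 + cond c a 0 := by
  cases b <;> cases c <;> simp [h2]

theorem cb_ad (h2 : ∀ v : M, v + v = 0) (a₁ a₂ a₃ a₄ : M) (c d : B4) :
    cb a₁ a₂ a₃ a₄ (ad c d) = cb a₁ a₂ a₃ a₄ c + cb a₁ a₂ a₃ a₄ d := by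
  simp only [cb, ad, cond_xor h2]; abel

theorem cb_cond (a₁ a₂ a₃ a₄ : M) (b : Bool) (c : B4) :
    cb a₁ a₂ a₃ a₄ (cond b c o4) = cond b (cb a₁ a₂ a₃ a₄ c) 0 := by
  cases b <;> simp [cb, o4]

theorem map_cb (φ : M →+ M) (a₁ a₂ a₃ a₄ : M) (c : B4) :
    φ (cb a₁ a₂ a₃ a₄ c) = cb (φ a₁) (φ a₂) (φ a₃) (φ a₄) c := by
  have : ∀ (b : Bool) (a : M), φ (cond b a 0) = cond b (φ a) 0 := fun b a => by cases b <;> simp
  simp only [cb, map_add, this]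

theorem smul_cb (g : Γ) (a₁ a₂ a₃ a₄ : M) (c : B4) :
    g • cb a₁ a₂ a₃ a₄ c = cb (g • a₁) (g • a₂) (g • a₃) (g • a₄) c :=
  map_cb (AddMonoidHom.mk' (fun v => g • v) (smul_add g)) ..

/-! ### Norms -/

def nm (t : Γ) : M →+ M := AddMonoidHom.mk' (fun v => v + t • v + t⁻¹ • v) fun a b => by
  simp only [smul_add]; abel
def th (j : Γ) : M →+ M := AddMonoidHom.mk' (fun v => v + j • v) fun a b => by
  simp only [smul_add]; abel

theorem nm_def (t : Γ) (v : M) : nm t v = v + t • v + t⁻¹ • v := rfl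
theorem th_def (j : Γ) (v : M) : th j v = v + j • v := rfl

theorem nm_fix {t : Γ} (h : t ^ 3 = 1) (v : M) : t • nm t v = nm t v := by
  have e : t * t = t⁻¹ := eq_inv_of_mul_eq_one_left (by rw [← pow_two, ← pow_succ, h])
  simp only [nm_def, smul_add, smul_smul, e, mul_inv_cancel, one_smul]; abel

theorem nm_of_fix (h2 : ∀ v : M, v + v = 0) {t : Γ} {v : M} (h : t • v = v) : nm t v = v := by
  rw [nm_def, inv_smul_eq_iff.2 h.symm, h, h2, zero_add]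

theorem nm_cj (g t : Γ) (v : M) : nm (g * t * g⁻¹) (g • v) = g • nm t v := by
  simp only [nm_def, smul_add, smul_smul, mul_inv_rev, inv_inv, mul_assoc, inv_mul_cancel, mul_one]

theorem nm_inv (t : Γ) (v : M) : nm t⁻¹ v = nm t v := by
  simp only [nm_def, inv_inv]; abel

theorem nm_cm {g t : Γ} (h : g * t = t * g) (v : M) : nm t (g • v) = g • nm t v := by
  rw [← nm_cj, h, mul_inv_cancel_right]

theorem th_cm {g j : Γ} (h : ∀ v : M, g • j • v = j • g • v) (v : M) : th j (g • v) = g • th j v := by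
  simp only [th_def, smul_add, h]

theorem nm_th {t j : Γ} (h : ∀ v : M, t • j • v = j • t • v) (v : M) : nm t (th j v) = th j (nm t v) := by
  have e : t⁻¹ • th j v = th j (t⁻¹ • v) := by rw [inv_smul_eq_iff, ← th_cm h, smul_inv_smul]
  rw [nm_def, nm_def, map_add, map_add, th_cm h, e]

theorem nm_th' {t j : Γ} (h : j * t * j⁻¹ = t⁻¹) (v : M) : nm t (th j v) = th j (nm t v) := by
  rw [th_def, th_def, map_add, ← nm_cj j, h, nm_inv]

/-- `a` spans the image of the fixed points of `t` -/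
structure T (j t : Γ) (a : M) : Prop where
  ne : a ≠ 0
  ex : ∃ u, t • u = u ∧ th j u = a
  al : ∀ u : M, t • u = u → th j u = 0 ∨ th j u = a

theorem T.cj {j t g : Γ} {a : M} (h : T j t a) (c : ∀ v : M, g • j • v = j • g • v) {s : Γ}
    (e : g * t * g⁻¹ = s) : T j s (g • a) := by
  subst e
  obtain ⟨u, u1, u2⟩ := h.ex
  refine ⟨fun e => h.ne ((smul_eq_zero_iff_eq g).1 e), ⟨g • u, by simp [mul_smul, u1], by rw [th_cm c, u2]⟩,
    fun u hu => ?_⟩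
  rw [← smul_inv_smul g u, th_cm c]
  refine (h.al (g⁻¹ • u) ?_).imp (fun e => by rw [e, smul_zero]) fun e => by rw [e]
  rw [eq_inv_smul_iff, ← mul_smul, ← mul_smul, hu]

theorem T.inv {j t : Γ} {a : M} (h : T j t⁻¹ a) : T j t a :=
  let ⟨u, u1, u2⟩ := h.ex
  ⟨h.ne, ⟨u, (inv_smul_eq_iff.1 u1).symm, u2⟩, fun u hu => h.al u (inv_smul_eq_iff.2 hu.symm)⟩

theorem T.uniq {j t : Γ} {a b : M} (h : T j t a) (k : T j t b) : a = b :=
  let ⟨u, u1, u2⟩ := h.ex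
  u2 ▸ (k.al u u1).resolve_left (u2 ▸ h.ne)

theorem T.fix {j t : Γ} {a : M} (h : T j t a) (e : j * t * j⁻¹ = t⁻¹) : t • a = a := by
  obtain ⟨u, u1, rfl⟩ := h.ex
  rw [th_def, smul_add, u1, ← mul_smul, ← mul_inv_eq_iff_eq_mul.1 (show j * t⁻¹ * j⁻¹ = t by rw [← conj_inv, e, inv_inv]), mul_smul,
    inv_smul_eq_iff.2 u1.symm]

theorem T.nm {j t : Γ} {a : M} (h : T j t a) (h3 : t ^ 3 = 1) (v : M) : ∃ b, th j (nm t v) = cond b a 0 :=
  (h.al _ (nm_fix h3 v)).elim (fun e => ⟨false, e⟩) fun e => ⟨true, e⟩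

/-- a subgroup extended by one vector -/
def ext (h2 : ∀ v : M, v + v = 0) (A : AddSubgroup M) (b : M) : AddSubgroup M where
  carrier := {v | v ∈ A ∨ v + b ∈ A}
  zero_mem' := .inl A.zero_mem
  add_mem' := by
    rintro u v (hu | hu) (hv | hv)
    · exact .inl (add_mem hu hv)
    · exact .inr (add_assoc u v b ▸ add_mem hu hv)
    · exact .inr (add_right_comm u b v ▸ add_mem hu hv)
    · exact .inl (by rw [← add_zero (u + v), ← h2 b, ← add_add_add_comm]; exact add_mem hu hv)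
  neg_mem' := fun {v} hv => by rwa [neg_eq_of_add_eq_zero_left (h2 v)]

theorem step [Finite M] {A B : AddSubgroup M} (h : A ≤ B) {b : M} (h1 : b ∈ B) (h2 : b ∉ A) :
    2 * Nat.card A ≤ Nat.card B := by
  obtain ⟨k, hk⟩ := AddSubgroup.card_dvd_of_le h
  have : k ≠ 1 := fun e => h2 (AddSubgroup.eq_of_le_of_card_ge h (by rw [hk, e, mul_one]) ▸ h1)
  have : k ≠ 0 := fun e => (Nat.card_pos (α := B)).ne' (by rw [hk, e, mul_zero])
  rw [hk, mul_comm]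
  exact Nat.mul_le_mul_left _ (by omega)

/-- fixed points -/
def Fx (M : Type*) [AddCommGroup M] [DistribMulAction Γ M] (s : Γ) : AddSubgroup M where
  carrier := {v | s • v = v}
  zero_mem' := smul_zero s
  add_mem' := fun {a b} (ha : s • a = a) (hb : s • b = b) => show s • (a + b) = a + b by rw [smul_add, ha, hb]
  neg_mem' := fun {a} (ha : s • a = a) => show s • -a = -a by rw [smul_neg, ha]

/-- the basic relations -/
structure St (M : Type*) [AddCommGroup M] [DistribMulAction Γ M] (x y j : Γ) : Prop where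
  h2 : ∀ v : M, v + v = 0
  x3 : x ^ 3 = 1
  y3 : y ^ 3 = 1
  c : y * x = x * y
  jx : j * x * j⁻¹ = x⁻¹
  jy : j * y * j⁻¹ = y⁻¹
  jj : ∀ v : M, j • j • v = v
  jV : ∀ v : M, x • v = v → y • v = v → j • v = v

/-- elements commuting with `j` and acting trivially on the fixed points of `x, y` -/
structure Good (x y j : Γ) (H : AddSubgroup M) (g : Γ) : Prop where
  cm : ∀ v : M, g • j • v = j • g • v
  fx : ∀ h ∈ H, g • h = h
  tv : ∀ v : M, x • v = v → y • v = v → ∃ u, g • v + v + th j u ∈ H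

variable {x y j : Γ} {H : AddSubgroup M}

namespace St
variable (S : St M x y j)
include S

theorem thV {v : M} (h1 : x • v = v) (h2 : y • v = v) : th j v = 0 := by rw [th_def, S.jV v h1 h2, S.h2]

theorem thth (v : M) : th j (th j v) = 0 := by
  rw [th_def, th_def, smul_add, S.jj, add_comm (j • v), S.h2]

theorem eV {v : M} (h1 : x • v = v) (h2 : y • v = v) : nm y (nm x v) = v := by
  rw [nm_of_fix S.h2 h1, nm_of_fix S.h2 h2]

theorem the (v : M) : th j (nm y (nm x v)) = 0 :=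
  S.thV (by rw [← nm_cm S.c.symm, nm_fix S.x3]) (nm_fix S.y3 _)

theorem eth (v : M) : nm y (nm x (th j v)) = 0 := by rw [nm_th' S.jx, nm_th' S.jy, S.the]

theorem split (v : M) : v = nm y (nm x v) + (nm x v + nm y v + nm (y * x) v + nm (y * x⁻¹) v) := by
  have c : Commute y x := S.c
  simp only [nm_def, smul_add, smul_smul, mul_inv_rev, inv_inv, ← c.inv_inv.eq, ← c.inv_left.eq]
  linear_combination (norm := abel) -S.h2 v - S.h2 v - S.h2 (x • v) - S.h2 (x⁻¹ • v) - S.h2 (y • v) -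
    S.h2 (y⁻¹ • v) - S.h2 ((y * x) • v) - S.h2 ((y * x⁻¹) • v) - S.h2 ((y⁻¹ * x) • v) - S.h2 ((y⁻¹ * x⁻¹) • v)

theorem kill {t : Γ} {a : M} (h : T j t a) (c : t * x = x * t) (e : ∀ v : M, x • v = v → t • v = v → y • v = v) :
    nm x a = 0 := by
  obtain ⟨u, u1, rfl⟩ := h.ex
  rw [nm_th' S.jx, S.thV (nm_fix S.x3 u) (e _ (nm_fix S.x3 u) (by rw [← nm_cm c, u1]))]

theorem mul {g k : Γ} (h : Good x y j H g) (h' : Good x y j H k) : Good x y j H (g * k) := by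
  refine ⟨fun v => by rw [mul_smul, mul_smul, h'.cm, h.cm], fun v hv => by rw [mul_smul, h'.fx v hv, h.fx v hv],
    fun v v1 v2 => ?_⟩
  obtain ⟨a, ha⟩ := h.tv v v1 v2
  obtain ⟨b, hb⟩ := h'.tv v v1 v2
  refine ⟨a + g • b, ?_⟩
  convert add_mem ha (h.fx _ hb ▸ hb :) using 1
  rw [map_add, th_cm h.cm, mul_smul, smul_add, smul_add]
  linear_combination (norm := abel) -S.h2 (g • v)

theorem pow {g : Γ} (h : Good x y j H g) (n : ℕ) : Good x y j H (g ^ n) := by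
  induction n with
  | zero => exact ⟨by simp, by simp, fun v _ _ => ⟨0, by simp [S.h2]⟩⟩
  | succ n ih => exact pow_succ g n ▸ S.mul ih h

omit S in
theorem cj {g k : Γ} (h : Good x y j H g) (k1 : ∀ v : M, k • j • v = j • k • v) (k2 : ∀ h ∈ H, k • h = h)
    (k3 : ∀ v : M, x • v = v → y • v = v → (k * x * k⁻¹) • v = v ∧ (k * y * k⁻¹) • v = v) :
    Good x y j H (k * g * k⁻¹) := by
  refine ⟨fun v => ?_, fun v hv => ?_, fun v v1 v2 => ?_⟩
  · obtain ⟨u, rfl⟩ : ∃ u, v = k • u := ⟨k⁻¹ • v, (smul_inv_smul k v).symm⟩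
    simp only [mul_smul, ← k1, inv_smul_smul, h.cm]
  · rw [mul_smul, mul_smul, inv_smul_eq_iff.2 (k2 v hv).symm, h.fx v hv, k2 v hv]
  · obtain ⟨a, ha⟩ := h.tv (k⁻¹ • v) (by rw [eq_inv_smul_iff, ← mul_smul, ← mul_smul, (k3 v v1 v2).1])
      (by rw [eq_inv_smul_iff, ← mul_smul, ← mul_smul, (k3 v v1 v2).2])
    refine ⟨k • a, ?_⟩
    rwa [← k2 _ ha, smul_add, smul_add, smul_inv_smul, ← th_cm k1, ← mul_smul, ← mul_smul] at ha

theorem count [Finite M] {s : Γ} (h : Good x y j H s) (s3 : s ^ 3 = 1) (hx : ∀ h ∈ H, x • h = h)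
    (hy : ∀ h ∈ H, y • h = h) {u₁ u₂ v₀ v₁ : M} (b1 : s • th j u₁ = th j u₁) (b2 : s • th j u₂ = th j u₂)
    (n1 : th j u₁ ≠ 0) (n2 : th j u₂ ≠ 0) (n3 : th j u₂ + th j u₁ ≠ 0) (v1 : x • v₀ = v₀ ∧ y • v₀ = v₀)
    (v2 : x • v₁ = v₁ ∧ y • v₁ = v₁) (v3 : v₀ ∉ H) (v4 : v₁ ∉ H) (v5 : v₁ + v₀ ∉ H) :
    32 * Nat.card H ≤ Nat.card (Fx M s) := by
  let e : M →+ M := (nm y).comp (nm x)
  have eH : ∀ v ∈ H, e v = v := fun v hv => S.eV (hx v hv) (hy v hv)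
  have et : ∀ v, e (th j v) = 0 := S.eth
  have z : ∀ u, th j u ∈ H → th j u = 0 := fun u hu => (eH _ hu).symm.trans (et u)
  have k : ∀ v : M, x • v = v ∧ y • v = v → nm s v ∈ Fx M s ∧ nm s v ∈ (th j).ker ∧ e (nm s v) + v ∈ H :=
    fun v hv => by
      have k : ∀ g, Good x y j H g → e (g • v) + v ∈ H := fun g hg => by
        obtain ⟨a, ha⟩ := hg.tv v hv.1 hv.2
        rwa [← eH _ ha, map_add, map_add, et, add_zero, show e v = v from S.eV hv.1 hv.2] at ha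
      refine ⟨nm_fix s3 v, by rw [AddMonoidHom.mem_ker, ← nm_th h.cm, S.thV hv.1 hv.2, map_zero], ?_⟩
      convert add_mem (k s h) (k _ (S.mul h h)) using 1
      rw [nm_def, map_add, map_add, show e v = v from S.eV hv.1 hv.2,
        inv_eq_of_mul_eq_one_right (show s * (s * s) = 1 by rw [← pow_three, s3])]
      abel
  have m : ∀ u, s • th j u = th j u → th j u ∈ Fx M s ⊓ ((th j).ker ⊓ H.comap e) := fun u hu =>
    ⟨hu, S.thth u, show e _ ∈ H from et u ▸ zero_mem H⟩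
  have m' : ∀ v ∈ H, v ∈ Fx M s ⊓ ((th j).ker ⊓ H.comap e) := fun v hv =>
    ⟨h.fx v hv, S.thV (hx v hv) (hy v hv), show e _ ∈ H from (eH v hv).symm ▸ hv⟩
  have s1 := step (A := H) (B := ext S.h2 H (th j u₁)) (fun _ => .inl) (.inr (S.h2 _ ▸ zero_mem H))
    fun e => n1 (z _ e)
  have s2 := step (A := ext S.h2 H (th j u₁)) (fun v hv => hv.elim (m' v) fun hv =>
    (add_mem_cancel_right (m u₁ b1)).1 (m' _ hv)) (m u₂ b2) fun e => e.elim (fun e => n2 (z _ e)) fun e => n3 (by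
      rw [← map_add] at e ⊢; exact z _ e)
  obtain ⟨p1, p2, p3⟩ := k v₀ v1
  obtain ⟨q1, q2, q3⟩ := k v₁ v2
  have s3' := step (A := Fx M s ⊓ ((th j).ker ⊓ H.comap e)) (B := Fx M s ⊓ ((th j).ker ⊓ (ext S.h2 H v₀).comap e))
    (fun v hv => ⟨hv.1, hv.2.1, .inl hv.2.2⟩) ⟨p1, p2, .inr p3⟩
    fun m => v3 ((add_mem_cancel_left (show e _ ∈ H from m.2.2)).1 p3)
  have s4 := step (A := Fx M s ⊓ ((th j).ker ⊓ (ext S.h2 H v₀).comap e)) (B := Fx M s ⊓ (th j).ker)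
    (fun v hv => ⟨hv.1, hv.2.1⟩) ⟨q1, q2⟩ fun m => m.2.2.elim (fun m => v4 ((add_mem_cancel_left m).1 q3))
      fun m => v5 (by
        convert add_mem q3 m using 1
        linear_combination (norm := abel) -S.h2 (e (nm s v₁)))
  have s5 := step (A := Fx M s ⊓ (th j).ker) inf_le_left (nm_fix s3 u₁) fun e => n1 (by
    rw [← nm_of_fix S.h2 b1, nm_th h.cm]; exact e.2)
  omega

theorem main [Finite Γ] [Finite M] {w q f n : Γ} {u₀ v₀ v₁ : M}
    (wx : w * x = x * w) (wy : w * y * w⁻¹ = y * x) (qx : q * x * q⁻¹ = y) (qy : q * y * q⁻¹ = x⁻¹)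
    (fx : f * x = x * f) (wj : ∀ v : M, w • j • v = j • w • v) (qj : ∀ v : M, q • j • v = j • q • v)
    (F : Good x y j H f) (hx : ∀ h ∈ H, x • h = h) (hy : ∀ h ∈ H, y • h = h) (hw : ∀ h ∈ H, w • h = h)
    (hq : ∀ h ∈ H, q • h = h) (u1 : x • u₀ = u₀) (u2 : th j u₀ ≠ 0)
    (u3 : ∀ u, x • u = u → th j u ∈ H ∨ th j u + th j u₀ ∈ H) (v1 : x • v₀ = v₀ ∧ y • v₀ = v₀)
    (v2 : x • v₁ = v₁ ∧ y • v₁ = v₁) (v3 : v₀ ∉ H) (v4 : v₁ ∉ H) (v5 : v₁ + v₀ ∉ H)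
    (ff : ∀ v : M, f • f • v = v) (nx : n * x = x * n)
    (hn : ∃ t ∈ [y, y * x, y * x⁻¹], ∀ v : M, (n * (f * (y * f * y⁻¹)) * n⁻¹) • v = t • v)
    (h0 : ∀ s : Γ, s ^ 3 = 1 → s ≠ 1 → Nat.card (Fx M s) < 32 * Nat.card H) : False := by
  have c : Commute y x := S.c
  have xx : x * x = x⁻¹ := eq_inv_of_mul_eq_one_left (by rw [← pow_two, ← pow_succ, S.x3])
  have wx' : w * x * w⁻¹ = x := by rw [wx, mul_inv_cancel_right]
  have z : ∀ u, th j u ∈ H → th j u = 0 := fun u hu => (S.eV (hx _ hu) (hy _ hu)).symm.trans (S.eth u)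
  have T1 : T j x (th j u₀) := ⟨u2, ⟨u₀, u1, rfl⟩, fun u hu => (u3 u hu).imp (z u) fun e => by
    rw [← map_add] at e
    have := z _ e
    rw [map_add] at this
    linear_combination (norm := abel) this - S.h2 (th j u₀)⟩
  generalize th j u₀ = a₁ at T1
  have T2 := T1.cj qj qx
  have T3 := T2.cj wj wy
  have T4 := T3.cj wj (s := y * x⁻¹) (by rw [← conj_mul, wy, wx', mul_assoc, xx])
  have w1 := (T1.cj wj wx').uniq T1
  have w4 := (T4.cj wj (s := y) (by rw [← conj_mul, ← conj_inv, wy, wx', mul_inv_cancel_right])).uniq T2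
  have q2 := (T2.cj qj qy).inv.uniq T1
  have q3 := (T3.cj qj (s := y * x⁻¹) (by rw [← conj_mul, qy, qx, c.inv_right.eq])).uniq T4
  have q4 := (T4.cj qj (s := (y * x)⁻¹) (by rw [← conj_mul, ← conj_inv, qy, qx, mul_inv_rev])).inv.uniq T3
  have f1 := (T1.cj F.cm (s := x) (by rw [fx, mul_inv_cancel_right])).uniq T1
  generalize q1 : q • a₁ = a₂ at *
  generalize w2 : w • a₂ = a₃ at *
  generalize w3 : w • a₃ = a₄ at *
  have k2 := S.kill T2 S.c fun _ _ e => e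
  have k3 := S.kill T3 (c.mul_left rfl) fun v e e' => by rwa [mul_smul, e] at e'
  have k4 := S.kill T4 (c.mul_left (Commute.refl x).inv_left) fun v e e' => by
    rwa [mul_smul, inv_smul_eq_iff.2 e.symm] at e'
  have k1 : ∀ c, nm x (cb a₁ a₂ a₃ a₄ c) = cond c.1 a₁ 0 := fun c => by
    rw [map_cb, k2, k3, k4, nm_of_fix S.h2 (T1.fix S.jx)]; simp [cb]
  have rg : ∀ v, ∃ c, th j v = cb a₁ a₂ a₃ a₄ c := fun v => by
    obtain ⟨b₁, e1⟩ := T1.nm S.x3 v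
    obtain ⟨b₂, e2⟩ := T2.nm S.y3 v
    obtain ⟨b₃, e3⟩ := T3.nm (by rw [c.mul_pow, S.x3, S.y3, mul_one]) v
    obtain ⟨b₄, e4⟩ := T4.nm (by rw [c.inv_right.mul_pow, inv_pow, S.x3, S.y3, inv_one, mul_one]) v
    exact ⟨(b₁, b₂, b₃, b₄), by rw [S.split v, map_add, S.the, zero_add, map_add, map_add, map_add, e1, e2, e3, e4, cb]⟩
  have rg' : ∀ c, ∃ v, th j v = cb a₁ a₂ a₃ a₄ c := fun c => by
    obtain ⟨⟨u₁, -, rfl⟩, ⟨u₂, -, rfl⟩, ⟨u₃, -, rfl⟩, u₄, -, rfl⟩ := And.intro T1.ex (And.intro T2.ex (And.intro T3.ex T4.ex))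
    exact ⟨_, map_cb ..⟩
  have aw : ∀ c, w • cb a₁ a₂ a₃ a₄ c = cb a₁ a₂ a₃ a₄ (mw c) := fun c => by
    rw [smul_cb, w1, w2, w3, w4]; simp only [cb, mw]; abel
  have aq : ∀ c, q • cb a₁ a₂ a₃ a₄ c = cb a₁ a₂ a₃ a₄ (mq c) := fun c => by
    rw [smul_cb, q1, q2, q3, q4]; simp only [cb, mq]; abel
  have i1 : ∀ {c d}, cb a₁ a₂ a₃ a₄ c = cb a₁ a₂ a₃ a₄ d → c.1 = d.1 := fun {c d} e => by
    have := (k1 c).symm.trans (e ▸ k1 d)
    revert this
    cases c.1 <;> cases d.1 <;> simp [T1.ne, T1.ne.symm]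
  have iw : ∀ {c d}, cb a₁ a₂ a₃ a₄ c = cb a₁ a₂ a₃ a₄ d → cb a₁ a₂ a₃ a₄ (mw c) = cb a₁ a₂ a₃ a₄ (mw d) :=
    fun e => by rw [← aw, ← aw, e]
  have iq : ∀ {c d}, cb a₁ a₂ a₃ a₄ c = cb a₁ a₂ a₃ a₄ d → c.2.1 = d.2.1 :=
    fun {c d} e => i1 (c := mq c) (d := mq d) (by rw [← aq, ← aq, e])
  have inj : ∀ {c d}, cb a₁ a₂ a₃ a₄ c = cb a₁ a₂ a₃ a₄ d → c = d := fun e =>
    Prod.ext (i1 e) (Prod.ext (iq e) (Prod.ext (iq (iw (iw e))) (iq (iw e))))
  have o : cb a₁ a₂ a₃ a₄ o4 = 0 := by simp [cb, o4]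
  have fa : ∀ {t a}, T j t a → nm x a = 0 → ∃ c : B4, c.1 = false ∧ f • a = cb a₁ a₂ a₃ a₄ c := fun {t a} h e => by
    obtain ⟨u, -, rfl⟩ := h.ex
    obtain ⟨c, hc⟩ := rg (f • u)
    refine ⟨c, ?_, th_cm F.cm u ▸ hc⟩
    have := k1 c
    rw [← hc, th_cm F.cm, nm_cm fx, e, smul_zero] at this
    revert this
    cases c.1 <;> simp [T1.ne.symm]
  obtain ⟨c₂, d2, f2⟩ := fa T2 k2
  obtain ⟨c₃, d3, f3⟩ := fa T3 k3
  obtain ⟨c₄, d4, f4⟩ := fa T4 k4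
  have af : ∀ c, f • cb a₁ a₂ a₃ a₄ c = cb a₁ a₂ a₃ a₄ (lin c₂ c₃ c₄ c) := fun c => by
    rw [smul_cb, f1, f2, f3, f4, lin, cb_ad S.h2, cb_ad S.h2, cb_ad S.h2, cb_cond, cb_cond, cb_cond]
    simp [cb]
  rcases chk c₂ c₃ c₄ d2 d3 d4 (fun c => inj (by rw [← af, ← af, ff])) with e | ⟨A, hA, B, hB, e1, ⟨c, e2⟩, e3⟩
  · have ft : ∀ v : M, f • th j v = th j v := fun v => by
      obtain ⟨c, hc⟩ := rg v
      rw [hc, af, e]
    have fK : ∀ v : M, nm x v = 0 → f • v = v := fun v hv => by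
      have e1 : x • v = th j v + x • th j (x • v) := by
        rw [th_def, th_def, smul_add, smul_smul, xx, smul_smul, smul_smul, show x * j * x = j by
          rw [mul_assoc, mul_inv_eq_iff_eq_mul.1 S.jx, mul_inv_cancel_left]]
        linear_combination (norm := abel) (nm_def x v).symm.trans hv - S.h2 v - S.h2 (x⁻¹ • v) - S.h2 (j • v)
      have e2 : f • x • v = x • v := by rw [e1, smul_add, ft, ← mul_smul, fx, mul_smul, ft]
      rwa [← mul_smul, fx, mul_smul, smul_left_cancel_iff] at e2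
    obtain ⟨t, ht, e1⟩ := hn
    have tK : ∀ v : M, nm x v = 0 → t • v = v := fun v hv => by
      have cm : ∀ {g : Γ} {v : M}, g * x = x * g → nm x v = 0 → nm x (g • v) = 0 := fun e hv => by
        rw [nm_cm e, hv, smul_zero]
      have h1 := cm (Commute.inv_left nx) hv
      rw [← e1]
      simp only [mul_smul]
      rw [fK _ (cm c.inv_left h1), smul_inv_smul, fK _ h1, smul_inv_smul]
    have y2 := T2.fix S.jy
    have y3 := T3.fix (by rw [← conj_mul, S.jx, S.jy, mul_inv_rev, c.inv_inv.eq])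
    have no : ∀ {t : Γ} {a : M}, T j t a → nm x a = 0 → x • a ≠ a := fun h e e' => h.ne ((nm_of_fix S.h2 e').symm.trans e)
    simp only [List.mem_cons, List.not_mem_nil, or_false] at ht
    rcases ht with rfl | rfl | rfl
    · exact no T3 k3 (by rwa [c.eq, mul_smul, tK _ k3] at y3)
    · exact no T2 k2 (by simpa only [c.eq, mul_smul, y2] using tK _ k2)
    · exact no T2 k2 (inv_smul_eq_iff.1 (by simpa only [c.inv_right.eq, mul_smul, y2] using tK _ k2)).symm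
  have cW : ∀ g m, Good x y j H g ∧ (∀ c, g • cb a₁ a₂ a₃ a₄ c = cb a₁ a₂ a₃ a₄ (m c)) →
      Good x y j H (w * g * w⁻¹) ∧ ∀ c, (w * g * w⁻¹) • cb a₁ a₂ a₃ a₄ c = cb a₁ a₂ a₃ a₄ (cw m c) :=
    fun g m h => ⟨cj h.1 wj hw fun v e e' => by rw [wx', wy, mul_smul, e, e']; exact ⟨rfl, rfl⟩, fun c => by
      rw [mul_smul, mul_smul, inv_smul_eq_iff.2 (show cb a₁ a₂ a₃ a₄ c = _ from (aw (mw (mw c))).symm), h.2, aw, cw]⟩
  have og : ∀ A ∈ orb (lin c₂ c₃ c₄), ∃ g, Good x y j H g ∧ ∀ c, g • cb a₁ a₂ a₃ a₄ c = cb a₁ a₂ a₃ a₄ (A c) := by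
    simp only [orb, List.mem_cons, List.not_mem_nil, or_false, forall_eq_or_imp, forall_eq]
    exact ⟨⟨_, F, af⟩, ⟨_, cW _ _ ⟨F, af⟩⟩, _, cW _ _ (cW _ _ ⟨F, af⟩)⟩
  obtain ⟨g, g1, g2⟩ := og A hA
  obtain ⟨k, h1, h2⟩ := og B hB
  have G := S.mul g1 (cj h1 qj hq fun v e e' => by rw [qx, qy, e', inv_smul_eq_iff, e]; exact ⟨rfl, rfl⟩)
  have ag : ∀ c, (g * (q * k * q⁻¹)) • cb a₁ a₂ a₃ a₄ c = cb a₁ a₂ a₃ a₄ (A (cq B c)) := fun c => by
    rw [mul_smul, mul_smul, mul_smul, inv_smul_eq_iff.2 (show cb a₁ a₂ a₃ a₄ c = _ from (aq (mq c)).symm), h2, aq, g2, cq]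
  generalize g * (q * k * q⁻¹) = r at G ag
  have r3 : ∀ c, (r ^ 3) • cb a₁ a₂ a₃ a₄ c = cb a₁ a₂ a₃ a₄ c := fun c => by
    rw [pow_three, mul_smul, mul_smul, ag, ag, ag]; exact congrArg _ (e1 c)
  have d3 : 3 ∣ orderOf r := by
    by_contra hd
    have m : ∀ n, r ^ n ∈ MulAction.stabilizer Γ (cb a₁ a₂ a₃ a₄ c) → r ^ 3 ∈ MulAction.stabilizer Γ (cb a₁ a₂ a₃ a₄ c) →
      r ^ n.gcd 3 ∈ MulAction.stabilizer Γ (cb a₁ a₂ a₃ a₄ c) := fun n a b => by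
        rw [← zpow_natCast, Nat.gcd_eq_gcd_ab, zpow_add, zpow_mul, zpow_mul, zpow_natCast, zpow_natCast]
        exact mul_mem (zpow_mem a _) (zpow_mem b _)
    have := m (orderOf r) (by rw [pow_orderOf_eq_one]; exact one_mem _) (r3 c)
    rw [((Nat.prime_three.coprime_iff_not_dvd.2 hd).symm : Nat.gcd _ _ = 1), pow_one] at this
    exact e2 (inj ((ag c).symm.trans this))
  obtain ⟨c, d, c1, d1, cd, c2, d2⟩ := e3
  obtain ⟨u₁, l1⟩ := rg' c
  obtain ⟨u₂, l2⟩ := rg' d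
  have o3 := orderOf_pow_orderOf_div (orderOf_pos r).ne' d3
  have fp : ∀ c, A (cq B c) = c → r ^ (orderOf r / 3) • cb a₁ a₂ a₃ a₄ c = cb a₁ a₂ a₃ a₄ c := fun c e =>
    pow_mem (show r ∈ MulAction.stabilizer Γ (cb a₁ a₂ a₃ a₄ c) from (ag c).trans (congrArg _ e)) _
  have s3 : (r ^ (orderOf r / 3)) ^ 3 = 1 := orderOf_dvd_iff_pow_eq_one.1 o3.dvd
  refine (h0 _ s3 fun e => absurd (e ▸ o3) (by simp)).not_ge (S.count (S.pow G _) s3 hx hy (l1 ▸ fp c c2)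
    (l2 ▸ fp d d2) (fun e => c1 (inj (by rw [← l1, e, o]))) (fun e => d1 (inj (by rw [← l2, e, o])))
    (fun e => cd (inj ?_)) v1 v2 v3 v4 v5)
  rw [← l1, ← l2]
  linear_combination (norm := abel) e - S.h2 (th j u₂)

end St

end CL.J4T.BadA
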