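/- The involutions attached to `x` and `y` are different. -/
import Cfsg.Agent.SPOR.J4T.Kit
import Cfsg.Agent.SPOR.Crd
import Cfsg.Agent.SPOR.J4T.BadA

set_option autoImplicit false
set_option maxRecDepth 100000

namespace CL.J4T

open CL.K CL.LX Cfsg CL.Golay CL.MAut CL.J4 Subgroup

variable {G : Type*} [Group G] [Finite G] {x y z : G} {μ : G → Pm}

/-- the product of the four groups `UU` over `⟨x, y⟩` -/
def VV (x y : G) : Subgroup G := UU x y ⊔ UU y x ⊔ UU (y * x) x ⊔ UU (y * x⁻¹) x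

namespace Bad

def fC : ℕ := 984487255892296740109272113049867808
def nC : ℕ := 972440865239427558529314212840768960

theorem ea_lt (h : Tr x z μ) {R : Subgroup G} (h1 : ∀ r ∈ R, r * x = x * r) (h2 : ∀ r ∈ R, r * r = 1) :
    Nat.card R < 32 * orderOf z := by
  have : Fact (Nat.Prime 2) := ⟨Nat.prime_two⟩
  let φ : R →* Spor.M22 := ⟨⟨fun k => ⟨μ k, h.memK (h1 k k.2)⟩, Subtype.ext h.one⟩,
    fun a b => Subtype.ext (h.mul _ (KN (h1 a a.2)) _ (KN (h1 b b.2)))⟩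
  have k1 : Nat.card φ.ker ≤ orderOf z := by
    rw [← card_subtype, ← Nat.card_zpowers]
    refine card_le_of_le ?_
    rintro _ ⟨k, hk, rfl⟩
    exact (mem_zpowers_of_sq h.zz).2 (h.two' ((h.ker _ (KN (h1 k k.2))).1 (congrArg Subtype.val hk)) (h2 k k.2))
  have sq : ∀ r ∈ φ.range, r * r = 1 := by
    rintro _ ⟨k, rfl⟩
    rw [← map_mul, show k * k = 1 from Subtype.ext (h2 k k.2), map_one]
  obtain ⟨k, hk⟩ := (show IsPGroup 2 φ.range from fun r => ⟨1, Subtype.ext (by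
    rw [pow_one, coe_pow, pow_two, sq r r.2, coe_one])⟩).exists_card_eq
  have k2 : k < 5 := by
    by_contra c
    obtain ⟨K, hK⟩ := Sylow.exists_subgroup_card_pow_prime (G := φ.range) 2 (n := 5)
      (hk ▸ pow_dvd_pow 2 (not_lt.1 c))
    refine ea_M22 (R := K.map φ.range.subtype) ?_ ((card_subtype _ _).trans hK)
    rintro _ ⟨r, -, rfl⟩
    exact sq r r.2
  rw [← φ.ker.card_mul_index, index_ker, hk, mul_comm]
  exact Nat.mul_lt_mul_of_lt_of_le (Nat.pow_lt_pow_right (by norm_num) k2) k1 (orderOf_pos z)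

omit [Finite G] in
theorem adj (h : Ch x y z μ) {j i : G} (jx : j * x * j⁻¹ = x⁻¹) (jy : j * y * j⁻¹ = y⁻¹)
    (ix : i * x * i⁻¹ = x⁻¹) (iy : i * y * i⁻¹ = y⁻¹) :
    ∃ e ∈ zpowers x ⊔ zpowers y, e * x = x * e ∧ e * y = y * e ∧ j⁻¹ * (e * i * e⁻¹) ∈ UU x y := by
  have k : ∀ a, j * a * j⁻¹ = a⁻¹ → i * a * i⁻¹ = a⁻¹ → j⁻¹ * i * a = a * (j⁻¹ * i) := fun a e1 e2 => by
    calc _ = j⁻¹ * (i * a * i⁻¹) * i := by group
      _ = _ := by rw [e2, ← e1]; group
  obtain ⟨v, hv, _, ⟨n, rfl⟩, m, e⟩ := h.cent_E (k x jx ix) (k y jy iy)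
  have c : Commute y x := h.yK
  have c1 : Commute (y ^ m * x ^ n) x := (c.pow_left m).mul_left ((Commute.refl x).zpow_left n)
  have c2 : Commute (y ^ m * x ^ n) y := ((Commute.refl y).pow_left m).mul_left (c.symm.zpow_left n)
  have c3 : Commute v (y ^ m * x ^ n) :=
    ((show Commute v y from hv.2.1).pow_right m).mul_right ((show Commute v x from hv.1).zpow_right n)
  have c4 : j * (y ^ m * x ^ n) * j⁻¹ = (y ^ m * x ^ n)⁻¹ := by
    rw [← conj_mul, ← conj_pow, ← conj_zpow, jx, jy, ((c.pow_left m).zpow_right n).eq, mul_inv_rev, inv_pow, inv_zpow]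
  have c5 : (y ^ m * x ^ n) ^ 3 = 1 := by
    rw [((c.pow_left m).zpow_right n).mul_pow, ← pow_mul, mul_comm m, pow_mul, h.y3, h.cube ⟨n, rfl⟩]; simp
  refine ⟨(y ^ m * x ^ n)⁻¹, inv_mem (mul_mem (mem_sup_right (pow_mem (mem_zpowers y) m)) (mem_sup_left ⟨n, rfl⟩)),
    c1.inv_left, c2.inv_left, ?_⟩
  replace e : j⁻¹ * i = v * (y ^ m * x ^ n) := by rw [e, mul_assoc]
  generalize y ^ m * x ^ n = s at *
  convert h.mem_UU.2 (h.iu_of_iv hv) using 1
  calc _ = j⁻¹ * s⁻¹ * j * (j⁻¹ * i) * s := by group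
    _ = s * (s * v) * s := by rw [e, ← c4, c3.eq]; group
    _ = s ^ 3 * v := by simp only [mul_assoc, c3.eq, pow_three]
    _ = v := by rw [c5, one_mul]

omit [Finite G] in
theorem iu_congr {a b a' b' g : G} (e : IU a b g) (h1 : g * a = a * g → g * a' = a' * g)
    (h2 : ∀ v, Commute v a' → Commute v b' → Commute v a ∧ Commute v b) : IU a' b' g :=
  ⟨h1 e.1, e.2.1, fun v hv => e.2.2 v (iv_congr h2 hv)⟩

theorem q_norm {q : G} (c : Commute y x) (qx : q * x * q⁻¹ = y) (qy : q * y * q⁻¹ = x⁻¹) :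
    q ∈ normalizer (VV x y : Set G) := by
  have k : ∀ {a b a' b' : G}, UU a' b' ≤ VV x y → (∀ g, IU (q * a * q⁻¹) (q * b * q⁻¹) g → IU a' b' g) →
      UU a b ≤ (VV x y).comap (MulAut.conj q).toMonoidHom := fun e h =>
    (closure_le _).2 fun g hg => e (subset_closure (h _ (iu_cj.2 hg)))
  refine mem_normalizer_fintype fun v hv => (sup_le (sup_le (sup_le
    (k (le_sup_of_le_left (le_sup_of_le_left le_sup_right)) fun g e => ?_)
    (k (le_sup_of_le_left (le_sup_of_le_left le_sup_left)) fun g e => ?_))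
    (k le_sup_right fun g e => ?_)) (k (le_sup_of_le_left le_sup_right) fun g e => ?_)) hv
  · rw [qx, qy] at e
    exact iu_congr e id fun v a b => ⟨a, b.inv_right⟩
  · rw [qx, qy] at e
    exact iu_congr e Commute.inv_right_iff.1 fun v a b => ⟨a.inv_right, b⟩
  · rw [← conj_mul, qx, qy, ← c.inv_right.eq] at e
    exact iu_congr e id fun v a b => ⟨a, by simpa using a.mul_right b⟩
  · rw [← conj_mul, ← conj_inv, qx, qy, ← mul_inv_rev] at e
    exact iu_congr e Commute.inv_right_iff.1 fun v a b => ⟨a.inv_right, by simpa using a.mul_right b.inv_right⟩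

end Bad

/-- PROOF. `V = VV x y`, `x₁ = x, x₂ = y, x₃ = y x, x₄ = y x⁻¹`, `Uᵢ` the four factors; `N(⟨x, y⟩)` permutes them
(`iu_cj`, `iv_congr`). `hz` says that `z` is the involution of every chart `Tr xᵢ _ _` (`Tr.eq_z`, `Tr.uniq`,
`Tr.conj`, conjugate by `w`), so `N(⟨x, y⟩)` centralises `z`.
(0) If `s ^ 3 = 1 ≠ s`, an elementary abelian 2-subgroup of `C(s)` has order less than `32 * orderOf z`
(`Tr.fus`, `Tr.conj`, `CL.J4.ea_M22`, a 2-group of order at least 32 has a subgroup of order 32).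
(1) Take `j` (`exists_j`), `w` (`exists_w`), `q` with `q x q⁻¹ = y`, `q y q⁻¹ = x⁻¹` (`Ch.pair`), and `f` with
`f x = x f`, `f f = 1`, `μ f = pm 984487255892296740109272113049867808` (`lift2`); this code normalises `Ub`,
commutes with `jj` and `a2`, acts trivially on `⟨w0, w1, a2⟩ / ⟨a2⟩`, and its product with its conjugate by `p31`
has order 3. Multiplying `w` by a power of `x` and `q` by an element of `⟨x, y⟩` (`cent_E`; `e j e⁻¹ = j e⁻²`)
we get `g j g⁻¹ ∈ j V0` for `g = w, q, f`, so they commute with `θ v = v * (j v j⁻¹)` on `V`, and `q q ∈ j V0`.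
(2) `Nᵢ v = v * (xₖ v xₖ⁻¹) * (xₖ⁻¹ v xₖ)`; `Aᵢ = {u ∈ Uᵢ | u` has trivial norm under `xₖ`, `k ≠ i}` has four
elements (images `one24, a0, a1, a2` in a chart), `Uᵢ = V0 Aᵢ`, and `θ Uᵢ = {1, aᵢ}` with `μ a₁ = pm a2`.
Then `w` fixes `a₁` and cycles `a₂, a₃, a₄`, `q` swaps `a₁, a₂` and `a₃, a₄`, and `V0, A₁, ..., A₄` are
independent (the norm under `xᵢ` is the identity on `Uᵢ` and kills `Aₖ`). `B = θ V = ⟨a₁, ..., a₄⟩`,
`C = ker θ = V0 B`.
(3) `f` fixes `a₁` and normalises `⟨a₂, a₃, a₄⟩` (the elements of `B` of trivial norm under `x`). It does not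
centralise it: else `f` centralises `A₂ A₃ A₄` (`Aᵢ = ⟨aᵢ, x aᵢ x⁻¹⟩`) and `z`, so does `y f y⁻¹`, and a power of
their product contradicts (0). In coordinates (`CL.Crd.pr`, 4 bits) check all 512 matrices: for some `i, k < 3`,
`g = (w ^ i f w ^ -i) * q (w ^ k f w ^ -k) q⁻¹` acts on `B` with order 3 and fixes some `b ≠ 1`.
So `3 ∣ orderOf g`; let `s` be a power of `g` of order 3. It commutes with `θ`, fixes `z`, and acts trivially
on `C / B ⟨z⟩`. As `|B| = 16 ≡ |C_B(s)|` modulo 3, `s` fixes two independent `b₁, b₂ ∈ B` (or find both in the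
check). With `π v = v * (s v s⁻¹) * (s⁻¹ v s)` and `b₁ = θ v₁`, the elements `z, b₁, b₂, π v₁` and `π` of lifts of
`w0, w1` lie in `C_V(s)` and generate a group of order `32 * orderOf z`, against (0). -/
theorem Ch.bad (h : Ch x y z μ) (hsq : ∀ v ∈ VV x y, v * v = 1)
    (hN : normalizer (UU x y : Set G) ≤ normalizer (VV x y : Set G))
    (hz : ∀ k, k * y = y * k → k * z = z * k) : False := by
  have c : Commute y x := h.yK
  have UV : UU x y ≤ VV x y := le_sup_of_le_left (le_sup_of_le_left le_sup_left)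
  have mV : ∀ {v}, IV x y v → v ∈ VV x y := fun e => UV (h.mem_UU.2 (h.iu_of_iv e))
  have VU : ∀ v ∈ VV x y, x * v = v * x → v ∈ UU x y := fun v hv e =>
    h.mem_UU.2 ⟨e.symm, hsq v hv, fun u hu => comm_of_sq hsq hv (mV hu)⟩
  have nV : ∀ {g P}, g ∈ Nm x → R (μ g) P → lall (fun s => force (conj24 P s) fun t => lmem t UL) UL = true →
      g ∈ normalizer (VV x y : Set G) := fun hg r e => hN (h.norm_UU hg fun u hu => norm_lg r e hu)
  have xN := nV (KN rfl) (h.μx ▸ Golay.R.one) (by decide +kernel)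
  have yN := nV (KN h.yK) (h.μy ▸ rI) (by decide +kernel)
  have EN := sup_le (zpowers_le.2 xN) (zpowers_le.2 yN)
  obtain ⟨j, hj, μj, jx, jy, j2, jV⟩ := h.exists_j
  have jN := nV hj (μj ▸ rD) (by decide +kernel)
  obtain ⟨w, wN, wx, wy, wj⟩ : ∃ w ∈ normalizer (VV x y : Set G), w * x = x * w ∧ w * y * w⁻¹ = y * x ∧
      j⁻¹ * (w * j * w⁻¹) ∈ VV x y := by
    obtain ⟨w, w1, -, w3, w4⟩ := h.exists_w
    have w5 : w * x * w⁻¹ = x := by rw [w1, mul_inv_cancel_right]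
    have e1 : w * j * w⁻¹ * x * (w * j * w⁻¹)⁻¹ = x⁻¹ := by
      rw [← w5, conj_inv, conj_mul, conj_mul, jx, conj_inv]
    have e2 : w * j * w⁻¹ * (y * x) * (w * j * w⁻¹)⁻¹ = (y * x)⁻¹ := by
      rw [← w3, conj_inv, conj_mul, conj_mul, jy, conj_inv]
    obtain ⟨e, he, a1, a2, a3⟩ := Bad.adj h jx jy e1 (by
      rwa [← conj_mul, e1, c.eq, mul_inv_rev x y, mul_left_inj] at e2)
    refine ⟨e * w, mul_mem (EN he) (hN (h.norm_UU (KN w1) fun u => h.w_norm w4)), Commute.mul_left a1 w1, ?_,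
      by simpa [mul_assoc] using UV a3⟩
    calc _ = e * (w * y * w⁻¹) * e⁻¹ := by group
      _ = _ := by rw [w3, (Commute.mul_right a2 a1).eq, mul_inv_cancel_right]
  obtain ⟨q, qz, qx, qy, qj⟩ : ∃ q, q * z = z * q ∧ q * x * q⁻¹ = y ∧ q * y * q⁻¹ = x⁻¹ ∧
      j⁻¹ * (q * j * q⁻¹) ∈ VV x y := by
    obtain ⟨q, q1, q2⟩ := h.pair h.pr.symm.inv
    obtain ⟨e, he, a1, a2, a3⟩ := Bad.adj h jx jy (i := q * j * q⁻¹) (by
      rw [← inv_inv x, ← q2, conj_inv, conj_inv, conj_mul, conj_mul, ← conj_inv (b := j), jy, conj_inv])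
      (by rw [← q1, conj_inv, conj_mul, conj_mul, jx, conj_inv])
    refine ⟨e * q, Commute.mul_left (h.zc e a1) ?_, ?_, ?_, by simpa [mul_assoc] using UV a3⟩
    · rcases (q1 ▸ h.toTr.conj q).eq_z h.iv_z.2.1 h.zz hz with e | e
      exacts [e ▸ Commute.one_right q, mul_inv_eq_iff_eq_mul.1 e.symm]
    · calc _ = e * (q * x * q⁻¹) * e⁻¹ := by group
        _ = _ := by rw [q1, a2, mul_inv_cancel_right]
    · calc _ = e * (q * y * q⁻¹) * e⁻¹ := by group
        _ = _ := by rw [q2, (Commute.inv_right a1).eq, mul_inv_cancel_right]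
  have qN := Bad.q_norm c qx qy
  obtain ⟨f, fx, ff, μf⟩ := h.lift2 (mI (P := Bad.fC)) (req (Golay.R.mul rI rI) Golay.R.one)
  have fN := nV (KN fx) (μf ▸ rI) (by decide +kernel)
  have fj : j⁻¹ * (f * j * f⁻¹) ∈ VV x y := by
    obtain ⟨k, hk, e⟩ := h.comm_ker (KN fx) hj (by rw [μf, μj]; exact comm_of rI rD)
    have e1 := pow_cj_cen e (h.cen hk fx) 2
    rw [pow_two, ff, one_mul, inv_one, mul_one, left_eq_mul, pow_two] at e1
    rw [e, inv_mul_cancel_left]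
    rcases h.two' hk e1 with rfl | rfl
    exacts [one_mem _, UV h.z_U]
  obtain ⟨n, nx, μn⟩ := h.surjK (mI (P := Bad.nC))
  have nN := nV (KN nx) (μn ▸ rI) (by decide +kernel)
  obtain ⟨u, ux, uu, μu⟩ := h.lift2 (mI (P := a0)) (Ub_sq (mem_lg rI))
  have uU := h.mem_UU'.2 ⟨ux, uu, μu ▸ mem_lg rI⟩
  obtain ⟨v₀, b0, μ0⟩ := h.exists_v (P := w0)
  obtain ⟨v₁, b1, μ1⟩ := h.exists_v (P := w1)
  have nz : ∀ {v P}, R (μ v) P → Nat.beq (comp24 P one24) one24 = false → v ∉ zpowers z := fun r e m =>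
    Nat.ne_of_beq_eq_false e ((r.comp24_eq_one_iff Golay.R.one).2 (by
      rw [h.μ_cen (zpowers_le.2 h.z_mem m), mul_one]))
  have cN : ∀ {g v}, g ∈ Nm x → v * x = x * v → g * v * g⁻¹ ∈ Nm x := fun hg e => KN (h.conj_K hg e)
  have tN := mul_mem (KN ux) (cN hj ux)
  have rt : R (μ (u * (j * u * j⁻¹))) a2 := by
    rw [h.mul _ (KN ux) _ (cN hj ux), h.cj hj (KN ux), μu, μj, req (Golay.R.mul rI (Golay.R.conj rD rI)) (rI (P := a2))]
    exact rI
  let _ : CommGroup (VV x y) := { (inferInstance : Group (VV x y)) with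
    mul_comm := fun a b => Subtype.ext (comm_of_sq hsq a.2 b.2) }
  let _ : DistribMulAction (normalizer (VV x y : Set G)) (Additive (VV x y)) :=
    { smul := fun g v => Additive.ofMul ⟨g * v.toMul * g⁻¹, (mem_normalizer_iff.1 g.2 _).1 v.toMul.2⟩
      one_smul := fun v => Subtype.ext (show (1 : G) * v.toMul * 1⁻¹ = v.toMul by simp)
      mul_smul := fun a b v => Subtype.ext (show (a * b : G) * v.toMul * (a * b : G)⁻¹ =
        a * (b * v.toMul * (b : G)⁻¹) * (a : G)⁻¹ by group)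
      smul_zero := fun g => Subtype.ext (show (g : G) * 1 * (g : G)⁻¹ = 1 by simp)
      smul_add := fun g a b => Subtype.ext conj_mul.symm }
  have fi : ∀ {g : normalizer (VV x y : Set G)} {v : Additive (VV x y)},
      g • v = v ↔ (g : G) * v.toMul = v.toMul * g := Subtype.ext_iff.trans mul_inv_eq_iff_eq_mul
  have ac : ∀ {g t : normalizer (VV x y : Set G)}, (t : G)⁻¹ * g ∈ VV x y → ∀ v : Additive (VV x y),
      g • v = t • v := fun {g t} e v => by
    rw [← mul_inv_cancel_left t g, mul_smul, fi.2 (comm_of_sq hsq e v.toMul.2)]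
  have cm : ∀ {g} (hg : g ∈ normalizer (VV x y : Set G)), j⁻¹ * (g * j * g⁻¹) ∈ VV x y → ∀ v : Additive (VV x y),
      (⟨g, hg⟩ : normalizer (VV x y : Set G)) • (⟨j, jN⟩ : normalizer (VV x y : Set G)) • v =
        (⟨j, jN⟩ : normalizer (VV x y : Set G)) • (⟨g, hg⟩ : normalizer (VV x y : Set G)) • v := fun {g} hg e v => by
    rw [← mul_smul, ← mul_smul]
    exact ac (by simpa [mul_assoc] using (mem_normalizer_iff.1 (inv_mem hg) _).1 e) v
  let H : AddSubgroup (Additive (VV x y)) := ((zpowers z).subgroupOf (VV x y)).toAddSubgroup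
  have kz : ∀ v : Additive (VV x y), (v.toMul : G) ∈ Nm x → μ v.toMul = 1 → v ∈ H := fun v m e =>
    (mem_zpowers_of_sq h.zz).2 (h.two' ((h.ker _ m).1 e) (hsq _ v.toMul.2))
  have hH : ∀ {g} (hg : g ∈ normalizer (VV x y : Set G)), g * z = z * g → ∀ v ∈ H,
      (⟨g, hg⟩ : normalizer (VV x y : Set G)) • v = v := fun {g} hg e v hv => fi.2 (by
    obtain ⟨i, hi⟩ : (v.toMul : G) ∈ zpowers z := hv
    exact hi ▸ ((show Commute g z from e).zpow_right i).eq)
  have S : BadA.St (Additive (VV x y)) (⟨x, xN⟩ : normalizer (VV x y : Set G)) ⟨y, yN⟩ ⟨j, jN⟩ :=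
    ⟨fun v => Subtype.ext (hsq _ v.toMul.2), Subtype.ext h.x3, Subtype.ext h.y3, Subtype.ext h.yK, Subtype.ext jx,
      Subtype.ext jy, fun v => by
        rw [← mul_smul, ac (t := 1) (by
          rcases j2 with e | e <;> simp only [coe_one, inv_one, one_mul, coe_mul, e]
          exacts [one_mem _, UV h.z_U]) v, one_smul],
      fun v e e' => fi.2 (jV _ ⟨(fi.1 e).symm, (fi.1 e').symm, hsq _ v.toMul.2⟩)⟩
  refine S.main (H := H) (w := ⟨w, wN⟩) (q := ⟨q, qN⟩) (f := ⟨f, fN⟩) (n := ⟨n, nN⟩) (u₀ := .ofMul ⟨u, UV uU⟩)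
    (v₀ := .ofMul ⟨v₀, mV b0⟩) (v₁ := .ofMul ⟨v₁, mV b1⟩) (Subtype.ext wx) (Subtype.ext wy) (Subtype.ext qx)
    (Subtype.ext qy) (Subtype.ext fx) (cm wN wj) (cm qN qj) ⟨cm fN fj, hH fN (h.zc f fx), fun v e e' => ?_⟩
    (hH xN h.xz) (hH yN (h.zc y h.yK)) (hH wN (h.zc w wx)) (hH qN qz) (fi.2 ux.symm)
    (fun e => nz rt (by decide +kernel) ((show u * (j * u * j⁻¹) = 1 from congrArg Subtype.val e) ▸ one_mem _)) (fun v e => ?_)
    ⟨fi.2 b0.1.symm, fi.2 b0.2.1.symm⟩ ⟨fi.2 b1.1.symm, fi.2 b1.2.1.symm⟩ (nz (μ0 ▸ rI) (by decide +kernel))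
    (nz (μ1 ▸ rI) (by decide +kernel)) (nz (v := v₁ * v₀) (P := comp24 w1 w0) (by
      rw [h.mul _ (KN b1.1) _ (KN b0.1), μ0, μ1]; exact Golay.R.mul rI rI) (by decide +kernel))
    (fun v => by rw [← mul_smul, show (⟨f, fN⟩ * ⟨f, fN⟩ : normalizer (VV x y : Set G)) = 1 from Subtype.ext ff,
      one_smul]) (Subtype.ext nx) ?_ fun s s3 s1 => ?_
  · have e1 := (fi.1 e).symm
    obtain ⟨P, r, k⟩ := of_lg (h.iv_iff.1 ⟨e1, (fi.1 e').symm, hsq _ v.toMul.2⟩).2.2 (p := fun P =>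
      force (comp24 (conj24 Bad.fC P) P) fun T => Nat.beq T one24 || Nat.beq (comp24 T a2) one24) (by decide +kernel)
    have m := mul_mem (cN (KN fx) e1) (KN e1)
    have r' : R (μ (f * v.toMul * f⁻¹ * v.toMul)) (comp24 (conj24 Bad.fC P) P) := by
      rw [h.mul _ (cN (KN fx) e1) _ (KN e1), h.cj (KN fx) (KN e1), μf]; exact (Golay.R.conj rI r).mul r
    rw [force_eq, Bool.or_eq_true] at k
    rcases k with k | k
    · exact ⟨0, by rw [map_zero, add_zero]; exact kz _ m (req r' Golay.R.one k)⟩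
    · exact ⟨.ofMul ⟨u, UV uU⟩, kz _ (mul_mem m tN)
        ((h.mul _ m _ tN).trans (req (r'.mul rt) Golay.R.one k))⟩
  · have e1 := (fi.1 e).symm
    obtain ⟨P, r, k⟩ := of_lg (h.mem_UU'.1 (VU _ v.toMul.2 e1.symm)).2.2 (p := fun P =>
      force (comp24 P (conj24 jj P)) fun T => Nat.beq T one24 || Nat.beq (comp24 T a2) one24) (by decide +kernel)
    have m := mul_mem (KN e1) (cN hj e1)
    have r' : R (μ (v.toMul * (j * v.toMul * j⁻¹))) (comp24 P (conj24 jj P)) := by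
      rw [h.mul _ (KN e1) _ (cN hj e1), h.cj hj (KN e1), μj]; exact r.mul (Golay.R.conj rD r)
    rw [force_eq, Bool.or_eq_true] at k
    exact k.imp (fun k => kz _ m (req r' Golay.R.one k)) fun k =>
      kz _ (mul_mem m tN) ((h.mul _ m _ tN).trans (req (r'.mul rt) Golay.R.one k))
  · have m := mul_mem (KN fx) (cN (KN h.yK) fx)
    obtain ⟨k, hk, e⟩ := h.eq_of (mul_mem (mul_mem (KN nx) m) (inv_mem (KN nx))) (KN h.yK) (by
      rw [h.cj (KN nx) m, h.mul _ (KN fx) _ (cN (KN h.yK) fx), h.cj (KN h.yK) (KN fx), μn, μf, h.μy]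
      exact req (Golay.R.conj rI (Golay.R.mul rI (Golay.R.conj rI rI))) rI)
    obtain ⟨l, hl, e1⟩ := h.dec hk
    have e2 : (y * l)⁻¹ * (n * (f * (y * f * y⁻¹)) * n⁻¹) ∈ VV x y := by
      rcases e1 with e1 | e1 <;> rw [e, e1]
      exacts [by simp, by simpa [mul_assoc] using UV h.z_U]
    rcases F24.mem_zpowers_three h.x3 hl with rfl | rfl | rfl
    · exact ⟨_, by simp, ac (t := ⟨y, yN⟩) (by rw [mul_one] at e2; exact e2)⟩
    · exact ⟨_, by simp, ac (t := ⟨y, yN⟩ * ⟨_, xN⟩) e2⟩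
    · exact ⟨_, by simp, ac (t := ⟨y, yN⟩ * (⟨_, xN⟩ : normalizer (VV x y : Set G))⁻¹) (by rw [h.xx] at e2; exact e2)⟩
  · obtain ⟨g, hg⟩ := isConj_iff.1 (h.fus s (congrArg Subtype.val s3) fun e => s1 (Subtype.ext e))
    have := Bad.ea_lt (hg ▸ h.toTr.conj g) (R := VV x y ⊓ centralizer {(s : G)}) (fun r hr => mz.1 hr.2)
      fun r hr => hsq r hr.1
    rw [show orderOf (g * z * g⁻¹) = Nat.card H from ((MulAut.conj g).orderOf_eq z).trans
      ((Nat.card_zpowers z).symm.trans (Nat.card_congr (subgroupOfEquivOfLe (zpowers_le.2 (UV h.z_U))).toEquiv).symm)]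
      at this
    refine lt_of_le_of_lt (Nat.card_le_card_of_injective (β := (VV x y ⊓ centralizer {(s : G)} : Subgroup G))
      (fun r => ⟨r.1.toMul, r.1.toMul.2, mz.2 (fi.1 r.2).symm⟩) fun a b e => ?_) this
    exact Subtype.ext (Subtype.ext (congrArg (fun r : (VV x y ⊓ centralizer {(s : G)} : Subgroup G) => (r : G)) e))

end CL.J4T
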