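/- A centraliser with a self-centralising element of order 3 modulo a central 2-subgroup. -/
import Cfsg.Agent.SPOR.J4.Red
import Cfsg.Agent.S3331
import Cfsg.Agent.SOLV.Core
import Cfsg.Agent.FGS.SixB
import Cfsg.Agent.FUS.SR3Basic
import Cfsg.Agent.TECH.CFSection

set_option autoImplicit false

namespace CL.J4T
open Subgroup

theorem V1.nine {G : Type*} [Group G] [Finite G] {D L : Subgroup G} {x : G} (x3 : x ^ 3 = 1)
    (LD : L ≤ normalizer (D : Set G)) (Lx : ∀ l ∈ L, l * x = x * l) (xL : x ∈ ⁅L, L⁆) :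
    ∃ m, Nat.card D = Nat.card (D ⊓ centralizer {x} : Subgroup G) + 9 * m := by
  have : Fact (Nat.Prime 3) := ⟨Nat.prime_three⟩
  obtain ⟨T⟩ : Nonempty (Sylow 3 L) := inferInstance
  rw [← range_subtype L, MonoidHom.range_eq_map, ← map_commutator] at xL
  obtain ⟨z, z1, rfl⟩ := xL
  have zc : z ∈ center L := mem_center_iff.2 fun g => Subtype.ext (Lx g g.2)
  have z2 := CF.inf_center_commutator_le (MSS.sylIn_top T) ⟨⟨(MSS.sylIn_top T).le_of_normalizes
    (MSS.isPGroup_zpowers (k := 1) (Subtype.ext (by simpa using x3))) le_top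
    (zpowers_le.2 (centralizer_le_normalizer _ (center_le_centralizer _ zc))) (mem_zpowers z), z1⟩, zc⟩
  rw [← range_subtype T.1, MonoidHom.range_eq_map, ← map_commutator] at z2
  obtain ⟨w, w1, rfl⟩ := z2
  set x : G := w.1.1
  let _ : MulAction T G := MulAction.compHom G (MulAut.conj.comp (L.subtype.comp T.1.subtype))
  let X : SubMulAction T G := ⟨{a | a ∈ D ∧ a * x ≠ x * a}, fun k {a} ha =>
    ⟨MSS.conj_mem_of_normalizes LD k.1.2 ha.1, fun e => ha.2 (by
      replace e : k.1.1 * a * k.1.1⁻¹ * x = x * (k.1.1 * a * k.1.1⁻¹) := e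
      have hc : k.1.1 * x = x * k.1.1 := Lx _ k.1.2
      calc a * x = k.1.1⁻¹ * (k.1.1 * a * k.1.1⁻¹ * (k.1.1 * x)) := by group
        _ = k.1.1⁻¹ * (x * k.1.1 * a) := by rw [hc, ← mul_assoc _ x, e]; group
        _ = _ := by rw [← hc]; group)⟩⟩
  obtain ⟨m, hm⟩ : 9 ∣ Nat.card X := J4.dvd_card_of_orbits (L := T) fun p => by
    obtain ⟨k, hk⟩ := T.isPGroup'.index (MulAction.stabilizer T p)
    rw [Nat.card_coe_set_eq, ← MulAction.index_stabilizer]
    by_contra c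
    have : ⁅(⊤ : Subgroup T), ⊤⁆ ≤ MulAction.stabilizer T p := by
      rcases k with _ | _ | k
      · exact le_top.trans (index_eq_one.1 hk).ge
      · exact commutator_le.2 fun a _ b _ => SR3.comm_mem_of_index T.isPGroup' hk a b
      · exact absurd ⟨3 ^ k, by rw [hk]; ring⟩ c
    exact p.2.2 (mul_inv_eq_iff_eq_mul.1 (congrArg Subtype.val (this w1))).symm
  refine ⟨m, ?_⟩
  rw [← hm]
  change (D : Set G).ncard = ((D ⊓ centralizer {x} : Subgroup G) : Set G).ncard + (X : Set G).ncard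
  rw [← Set.ncard_union_eq (Set.disjoint_left.2 fun a h1 h2 => h2.2 (mem_centralizer_singleton_iff.1 h1.2))]
  refine congrArg _ (Set.ext fun a => ⟨fun h => ?_, fun h => h.elim (·.1) (·.1)⟩)
  by_cases e : a * x = x * a
  exacts [Or.inl ⟨h, mem_centralizer_singleton_iff.2 e⟩, Or.inr ⟨h, e⟩]

theorem three_mem {G : Type*} [Group G] [Finite G] {D U L : Subgroup G} {x : G} (x3 : x ^ 3 = 1)
    (x1 : x ≠ 1) (xD : x ∈ D) (hU : IsPGroup 2 U) (UD : U ≤ D) (Uc : ∀ u ∈ U, ∀ d ∈ D, u * d = d * u)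
    (hC : ∀ d ∈ D, d * x = x * d → ∃ u ∈ U, ∃ k ∈ zpowers x, d = u * k)
    (LD : L ≤ normalizer (D : Set G)) (Lx : ∀ l ∈ L, l * x = x * l) (xL : x ∈ ⁅L, L⁆)
    (h2 : ∀ N ≤ D, D ≤ normalizer (N : Set G) → IsPGroup 2 N → N ≤ U)
    (h3 : ∀ N ≤ D, L ≤ normalizer (N : Set G) → ¬ 3 ∣ Nat.card N → IsPGroup 2 N) :
    ∀ a ∈ D, a ^ 3 = 1 → a ∈ zpowers x := fun a ha a3 => by
  have : Fact (Nat.Prime 3) := ⟨Nat.prime_three⟩
  have u1 : ∀ u ∈ U, u ^ 3 = 1 → u = 1 := fun u hu u3 => by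
    obtain ⟨k, hk⟩ := MSS.isPGroup_iff_forall_mem.1 hU u hu
    have := (pow_gcd_eq_one (a := u)).2 ⟨hk, u3⟩
    rwa [Nat.Coprime.gcd_eq_one (Nat.Coprime.pow_left _ (by norm_num)), pow_one] at this
  have : (U.subgroupOf D).Normal := ⟨fun u hu d => show d.1 * u.1 * d.1⁻¹ ∈ U by
    rwa [← Uc u.1 hu _ d.2, mul_inv_cancel_right]⟩
  let π := QuotientGroup.mk' (U.subgroupOf D)
  have hπ : Function.Surjective π := QuotientGroup.mk'_surjective _
  have k : ∀ d : D, π d = 1 ↔ d.1 ∈ U := fun d => QuotientGroup.eq_one_iff d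
  have c1 : ∀ d : D, π d * π ⟨x, xD⟩ = π ⟨x, xD⟩ * π d → d.1 * x = x * d.1 := fun d e => by
    have h1 : x⁻¹ * (d.1 * x * d.1⁻¹) ∈ U := (k ((⟨x, xD⟩ : D)⁻¹ * (d * ⟨x, xD⟩ * d⁻¹))).1 (by
      rw [map_mul, map_mul, map_mul, e]; simp)
    have h4 := (show Commute x _ from (Uc _ h1 x xD).symm).mul_pow 3
    rw [mul_inv_cancel_left, conj_pow, x3, mul_one, mul_inv_cancel, one_mul] at h4
    exact mul_inv_eq_iff_eq_mul.1 (inv_mul_eq_one.1 (u1 _ h1 h4.symm)).symm
  set X := zpowers (π ⟨x, xD⟩)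
  have c2 : ∀ d : D, d.1 * x = x * d.1 → π d ∈ X := fun d e => by
    obtain ⟨u, hu, _, ⟨i, rfl⟩, e⟩ := hC d d.2 e
    rw [show d = ⟨u, UD hu⟩ * ⟨x, xD⟩ ^ i from Subtype.ext e, map_mul, (k _).2 hu, one_mul, map_zpow]
    exact zpow_mem_zpowers _ i
  have c3 : ∀ d : D, π d ∈ X → d.1 * x = x * d.1 := fun d e =>
    c1 d (le_centralizer X e _ (mem_zpowers _)).symm
  have hX : Nat.card X = 3 := (Nat.card_zpowers _).trans (orderOf_eq_prime (by
    rw [← map_pow, show (⟨x, xD⟩ : D) ^ 3 = 1 from Subtype.ext x3, map_one]) fun e => x1 (u1 x ((k _).1 e) x3))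
  obtain ⟨n, hn⟩ := hU.exists_card_eq
  have cU : Nat.card (U.subgroupOf D) = 2 ^ n := (Nat.card_congr (subgroupOfEquivOfLe UD).toEquiv).trans hn
  have O : ∀ (N : Subgroup (D ⧸ U.subgroupOf D)) (_ : N.Normal), (Nat.card N).Coprime 3 →
      Nat.card ((D ⧸ U.subgroupOf D) ⧸ N) = 3 * X.index := fun N _ hN => by
    have h4 := normalizer_le_normalizer_map_pPrimeCore (p := 3) D
    have h5 := h2 _ (map_subtype_le _) (le_normalizer.trans h4) (h3 _ (map_subtype_le _) (LD.trans h4) (by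
      rw [card_subtype]; exact not_dvd_card_pPrimeCore 3 D))
    obtain rfl : N = ⊥ := eq_bot_iff.2 fun y hy => by
      obtain ⟨d, rfl⟩ := hπ y
      exact (k d).2 (h5 (mem_map_of_mem _ (comap_pPrimeCore_le π (by
        rw [QuotientGroup.ker_mk', cU]; exact Nat.Coprime.pow_left _ (by norm_num)) (le_pPrimeCore hN hy))))
    rw [← index_eq_card, index_bot, ← X.card_mul_index, hX]
  have no : (X.index + 2) % 3 = 0 := by
    obtain ⟨m, hm⟩ := V1.nine x3 LD Lx xL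
    have e1 := (X.comap π).card_mul_index
    have e2 := (U.subgroupOf D).card_mul_index
    rw [index_eq_card, ← X.card_mul_index, hX, cU] at e2
    rw [index_comap_of_surjective _ hπ, show X.comap π = (D ⊓ centralizer {x}).subgroupOf D from
      Subgroup.ext fun d => ⟨fun e => ⟨d.2, mem_centralizer_singleton_iff.2 (c3 d e)⟩,
        fun e => c2 d (mem_centralizer_singleton_iff.1 e.2)⟩,
      Nat.card_congr (subgroupOfEquivOfLe inf_le_left).toEquiv, ← e2, ← mul_assoc] at e1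
    rw [← e2, mul_right_cancel₀ index_ne_zero_of_finite e1] at hm
    exact Nat.mod_eq_zero_of_dvd (Nat.Coprime.dvd_of_dvd_mul_left (Nat.Coprime.pow_right n (by norm_num))
      (⟨2 ^ n + m, by linarith⟩ : 3 ∣ 2 ^ n * (X.index + 2)))
  rcases Cfsg.Agent.S3331.result X hX (le_antisymm (fun y hy => by
    obtain ⟨d, rfl⟩ := hπ y
    exact c2 d (c1 d (hy _ (mem_zpowers _)).symm)) (le_centralizer X)) with
    ⟨N, n1, -, n2, n3⟩ | ⟨N, n1, -, n2, ⟨e⟩⟩ | ⟨⟨e⟩⟩
  · have h4 := O N n1 n2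
    have h5 : X.index = 1 := by
      rcases n3 with e | ⟨⟨e⟩⟩
      · omega
      · have := Nat.card_congr e.toEquiv
        rw [Nat.card_perm, Nat.card_fin, Nat.factorial, Nat.factorial_two] at this
        omega
    obtain ⟨u, hu, y, ⟨i, rfl⟩, rfl⟩ := hC a ha (c3 ⟨a, ha⟩ ((index_eq_one.1 h5).ge trivial))
    rw [(show Commute u _ from Uc u hu _ (zpow_mem xD i)).mul_pow, ← zpow_natCast (x ^ i), ← zpow_mul, mul_comm i,
      zpow_mul, zpow_natCast, x3, one_zpow, mul_one] at a3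
    rw [u1 u hu a3, one_mul]
    exact zpow_mem_zpowers x i
  · obtain ⟨j, hj⟩ := (show IsPGroup 2 N from fun y => ⟨1, Subtype.ext (n2 y y.2)⟩).exists_card_eq
    have h4 := O N n1 (hj ▸ Nat.Coprime.pow_left _ (by norm_num))
    rw [Nat.card_congr e.toEquiv, nat_card_alternatingGroup] at h4
    simp [Nat.factorial] at h4
    omega
  · have h4 := X.card_mul_index
    rw [Nat.card_congr e.toEquiv, Six.card_psl27, hX] at h4
    omega

end CL.J4T
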