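/- A Sylow 2-subgroup of the centraliser of `V0` in the normaliser of `⟨x⟩`. -/
import Cfsg.Agent.SPOR.J4T.Kit
import Cfsg.Agent.TECH.Conj

set_option autoImplicit false
set_option maxRecDepth 100000

namespace CL.J4T

open CL.K CL.LX Cfsg CL.Golay CL.MAut CL.J4 Subgroup

variable {G : Type*} [Group G] [Finite G] {x y z : G} {μ : G → Pm}

namespace V2a

def VL : List ℕ := [965128854020860192151391391390468128, 5743115865096556929433069318247991, 16323879745958073645140370894820919, 963721886883755259286232606933354528, 968708902336673183175954409307867168, 12316037731126513609537384215942711, 13819269546606341940480371066345015, 961365507626256404119956257276790816, 8579033466132526876497087590503991, 9964508726857631202868980007507511, 970499966350631336865513127433832480, 971592882964418941354553515258775584, 29217344650974509451812743540053559, 967812279691448225500382947153381408, 14624353961915598500728458373961271, 984818244535754528103549039458486304]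
def NL : List ℕ := [one24, 963512679390278750832494409113076896, 961450375382535455138506865050223680, 967701191327538189636324458831660192, 967927829634843265954563106142620192]
theorem VL_ok : lgOK VL = true := by decide +kernel
/-- the second elementary abelian subgroup of order 16 -/
def Vb : Subgroup Pm := lgrp VL VL_ok

omit [Finite G] in
theorem mem_sup2 {U : Subgroup G} {j : G} (jU : j ∈ normalizer (U : Set G)) (j2 : j * j ∈ U) {r : G} :
    r ∈ U ⊔ zpowers j ↔ r ∈ U ∨ r * j⁻¹ ∈ U := by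
  have n : ∀ u ∈ U, j * u * j⁻¹ ∈ U := fun u hu => (mem_normalizer_iff.1 jU u).1 hu
  let R : Subgroup G :=
    { carrier := {r | r ∈ U ∨ r * j⁻¹ ∈ U}
      one_mem' := .inl (one_mem _)
      mul_mem' := by
        rintro a b (ha | ha) (hb | hb)
        · exact .inl (mul_mem ha hb)
        · exact .inr (by simpa only [mul_assoc] using mul_mem ha hb)
        · exact .inr (by simpa [mul_assoc] using mul_mem ha (n b hb))
        · exact .inl (by simpa [mul_assoc] using mul_mem (mul_mem ha (n _ hb)) j2)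
      inv_mem' := by
        rintro a (ha | ha)
        · exact .inl (inv_mem ha)
        · refine .inr ?_
          simpa [mul_assoc] using inv_mem (n _ ha |> fun m => mul_mem m j2 |> fun m =>
            (show j * a ∈ U by simpa [mul_assoc] using m)) }
  refine ⟨fun hr => (sup_le (fun u hu => .inl hu) (zpowers_le.2 (.inr (by simp))) : _ ≤ R) hr, ?_⟩
  rintro (e | e)
  · exact mem_sup_left e
  · simpa using mul_mem (mem_sup_left e) (mem_sup_right (mem_zpowers j) : j ∈ U ⊔ zpowers j)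

theorem card_le (h : Tr x z μ) {P : Subgroup G} (hP : P ≤ Nm x) {B : Subgroup Pm} (hB : ∀ r ∈ P, μ r ∈ B)
    (hk : ∀ r ∈ P, μ r = 1 → r * r = 1) : Nat.card P ≤ orderOf z * Nat.card B := by
  let φ : P →* B := ⟨⟨fun k => ⟨μ k, hB k k.2⟩, Subtype.ext h.one⟩, fun a b => Subtype.ext (h.mul _ (hP a.2) _ (hP b.2))⟩
  rw [← φ.ker.card_mul_index, index_ker, ← card_subtype, ← Nat.card_zpowers]
  refine Nat.mul_le_mul (card_le_of_le ?_) (card_le_card_group _)
  rintro _ ⟨k, e, rfl⟩
  have e := congrArg Subtype.val e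
  exact (mem_zpowers_of_sq h.zz).2 (h.two' ((h.ker _ (hP k.2)).1 e) (hk k k.2 e))

end V2a

open V2a MSS in
/-- PROOF. `U = UU x y`, `R = U ⊔ ⟨j⟩ = U ∪ U j` (`j` normalises `U` by `norm_UU`, `j * j ∈ U`). Let `t` normalise
`R` with `U' = t U t⁻¹ ≠ U`. Put `Z̄ = C_Ub(jj)` (8 elements: `one24, w0, w1, w2`, times `a2`) and `Ū' = Z̄ ∪ Z̄ jj`
(a list of 16 codes; all involutions of `Ub jj` lie in it). An elementary abelian `X ≤ R` of order
`|U| = orderOf z * 16` (`card_UU`) other than `U` has `μ X ≤ Ū'`, and the kernel of `μ` on `X` lies in `{1, z}`,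
so `X = {r ∈ R | μ r ∈ Ū'}` by counting; hence `t U' t⁻¹ = U`, and some `m ∈ U'` has `μ m = pm jj`.
`X = N(U) ⊓ N(U') ≤ Nm x` is normalised by `t`. For `g ∈ X`, `μ (g m g⁻¹) ∈ Ū'` is outer with 8 fixed points
(`card_fixS_conj`, `R.card_fixS`), so it is `jj` or `9964508726857631202868980007507511 = jj * a2`: `m` has at
most 4 conjugates under `X` (two elements of `R` with the same image differ by `1` or `z`).
But `m' = t⁻¹ m t ∈ U`, `m' ∉ U'`, so `μ m' ∈ Ub` is outside `Z̄`, and it has 5 distinct conjugates under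
`one24, 10656278349140142167142293329593815, 24916084090356157565958694688162935,
23540560171362883737486463240078519, 21284254874956795055575297204274263`, which normalise `Ub`, `Ū'` and map
`jj` into `Ub jj`. A lift `n` of such an element has `n j n⁻¹ = r k` with `r ∈ R \ U`, `k ∈ ⟨x⟩`; as `r` inverts
`x`, `k⁻¹ n` normalises `R` (`k r k⁻¹ = r k`), so it lies in `X`. -/
theorem Ch.norm_R (h : Ch x y z μ) (hN : normalizer (UU x y : Set G) ≤ Nm x) {j : G} (hj : j ∈ Nm x)
    (e : μ j = pm jj) (j2 : j * j = 1 ∨ j * j = z) :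
    normalizer ((UU x y ⊔ zpowers j : Subgroup G) : Set G) ≤ normalizer (UU x y : Set G) := by
  intro t ht
  by_contra tU
  have Ux : ∀ u ∈ UU x y, u * x = x * u := fun u hu => (h.mem_UU.1 hu).1
  have jx : j * x * j⁻¹ = x⁻¹ := (h.cases hj).resolve_left fun e1 => by
    have := h.memK e1
    rw [e, R_t22 rD mD] at this
    exact absurd this (by decide +kernel)
  have jU : j ∈ normalizer (UU x y : Set G) := h.norm_UU hj fun u hu => e ▸ norm_lg rD (by decide +kernel) hu
  have jj2 : j * j ∈ UU x y := by rcases j2 with e | e <;> rw [e]; exacts [one_mem _, h.z_U]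
  have j1 : j ∉ UU x y := fun m => h.x_ne_inv (by rw [← jx, Ux j m, mul_inv_cancel_right])
  have mR := @mem_sup2 _ _ _ _ jU jj2
  have jR : j ∈ UU x y ⊔ zpowers j := mem_sup_right (mem_zpowers j)
  have UR : UU x y ≤ UU x y ⊔ zpowers j := le_sup_left
  have RN : UU x y ⊔ zpowers j ≤ Nm x := sup_le (fun u hu => KN (Ux u hu)) (zpowers_le.2 hj)
  have nR : ∀ n ∈ normalizer (UU x y : Set G), n * j * n⁻¹ ∈ UU x y ⊔ zpowers j →
      n ∈ normalizer ((UU x y ⊔ zpowers j : Subgroup G) : Set G) := fun n hn m => mem_normalizer_fintype fun r hr =>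
    (sup_le (fun u hu => UR ((mem_normalizer_iff.1 hn u).1 hu)) (zpowers_le.2 m) :
      _ ≤ (UU x y ⊔ zpowers j).comap (MulAut.conj n).toMonoidHom) hr
  generalize UU x y ⊔ zpowers j = S at *
  have out : ∀ r ∈ S, r ∉ UU x y → ∀ p : ℕ → Bool, lall (fun P => p (comp24 P jj)) UL = true →
      ∃ P, R (μ r) P ∧ p P = true := fun r hr m p hp => by
    have m := (mR.1 hr).resolve_left m
    obtain ⟨P, r1, r2⟩ := of_lg (h.mem_UU'.1 m).2.2 hp
    exact ⟨_, by rw [← inv_mul_cancel_right r j, h.mul _ (RN (UR m)) _ hj, e]; exact r1.mul rD, r2⟩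
  have sq : ∀ {r P}, r ∈ S → r * r = 1 → R (μ r) P → Nat.beq (comp24 P P) one24 = true := fun hr r2 r =>
    Nat.beq_eq.mpr ((r.comp24_eq_one_iff r).2 (by rw [← h.mul _ (RN hr) _ (RN hr), r2, h.one]))
  have inv : ∀ r ∈ S, r ∉ UU x y → r * r = 1 → μ r ∈ Vb := fun r hr m r2 => by
    obtain ⟨P, r1, k⟩ := out r hr m (fun P => !Nat.beq (comp24 P P) one24 || lmem P VL) (by decide +kernel)
    rw [sq hr r2 r1] at k
    exact mem_lg r1 k
  let P : Subgroup G :=
    { carrier := {r | r ∈ S ∧ μ r ∈ Vb}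
      one_mem' := ⟨one_mem _, h.one ▸ one_mem _⟩
      mul_mem' := fun a b => ⟨mul_mem a.1 b.1, h.mul _ (RN a.1) _ (RN b.1) ▸ mul_mem a.2 b.2⟩
      inv_mem' := fun a => ⟨inv_mem a.1, h.inv (RN a.1) ▸ inv_mem a.2⟩ }
  have cP : Nat.card P ≤ Nat.card (UU x y) := by
    rw [h.card_UU, show 16 = Nat.card Vb by rw [Vb, card_lgrp _ (by decide +kernel)]; rfl]
    refine card_le (P := P) h.toTr (fun r hr => RN hr.1) (fun r hr => hr.2) fun r hr e => h.UU_sq (by_contra fun m => ?_)
    obtain ⟨P, r1, k⟩ := out r hr.1 m (fun P => !Nat.beq (comp24 P one24) one24) (by decide +kernel)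
    rw [Nat.beq_eq.mpr ((r1.comp24_eq_one_iff Golay.R.one).2 (by rw [e, mul_one]))] at k
    exact absurd k (by decide)
  have key : ∀ s ∈ normalizer (S : Set G), s ∉ normalizer (UU x y : Set G) → s •ᶜ UU x y = P := fun s hs m => by
    have Y := cj_le_of_mem_normalizer UR hs
    have Y2 : ∀ r ∈ s •ᶜ UU x y, r * r = 1 := by rintro _ ⟨u, hu, rfl⟩; exact sq_cj (h.UU_sq hu)
    obtain ⟨a, a1, a2⟩ : ∃ a ∈ s •ᶜ UU x y, a ∉ UU x y := by
      by_contra! c
      exact m (mem_normalizer_fintype fun u hu => c _ (conj_mem_cj hu))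
    have k : ∀ r ∈ s •ᶜ UU x y, r ∉ UU x y → r ∈ P := fun r hr m => ⟨Y hr, inv r (Y hr) m (Y2 r hr)⟩
    refine eq_of_le_of_card_ge (fun r hr => ?_) (cP.trans (card_cj _ _).ge)
    by_cases c : r ∈ UU x y
    · exact (mul_mem_cancel_right (k a a1 a2)).1 (k _ (mul_mem hr a1) fun m => a2 ((mul_mem_cancel_left c).1 m))
    · exact k r hr c
  have jP : j ∈ P := ⟨jR, e ▸ mem_lg rD⟩
  have m1 : t⁻¹ * j * t ∈ UU x y := mem_cj.1 (key t ht tU ▸ jP)
  have t1 := key _ (inv_mem ht) fun m => tU (inv_mem_iff.1 m)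
  have m2 : μ (t⁻¹ * j * t) ∉ Vb := fun m => j1 (by
    simpa [mul_assoc] using mem_cj.1 (t1.ge (⟨UR m1, m⟩ : t⁻¹ * j * t ∈ P)))
  have jq : j * j = 1 := by simpa [mul_assoc] using sq_cj (g := t) (h.UU_sq m1)
  obtain ⟨a, a1, aa, a3⟩ := h.lift2 (mI (P := a2)) (Ub_sq (mem_lg rI))
  have aU := h.mem_UU'.2 ⟨a1, aa, a3 ▸ mem_lg rI⟩
  have four : ∀ g ∈ normalizer (UU x y : Set G), g ∈ normalizer (S : Set G) →
      g * j * g⁻¹ ∈ [j, z * j, a * j, a * z * j] := fun g g1 g2 => by
    have r1 := (mem_normalizer_iff.1 g2 j).1 jR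
    have r2 : g * j * g⁻¹ ∉ UU x y := fun m => j1 ((mem_normalizer_iff.1 g1 j).2 m)
    obtain ⟨P, r3, k⟩ := out _ r1 r2 (fun P => !(Nat.beq (comp24 P P) one24 && Nat.beq (pc24 (fixM P)) 8) ||
      (Nat.beq P (comp24 one24 jj) || Nat.beq P (comp24 a2 jj))) (by decide +kernel)
    replace k := bimp k (sq r1 (sq_cj jq) r3) (by
      rw [← r3.card_fixS, h.cj (hN g1) hj, card_fixS_conj, e, (rD (P := jj)).card_fixS]; decide +kernel)
    have r4 := (mR.1 r1).resolve_left r2
    have k1 : ∀ b P', b ∈ UU x y → R (μ b) P' → Nat.beq P (comp24 P' jj) = true →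
        g * j * g⁻¹ = b * j ∨ g * j * g⁻¹ = b * z * j := fun b P' hb r k =>
      (h.eq_two (Ux _ r4) (Ux b hb) (h.UU_sq r4) (h.UU_sq hb) (by
        rw [h.mul _ (RN r1) _ (inv_mem hj), h.inv hj, e, req r3 (r.mul rD) k, mul_inv_cancel_right])).imp
        mul_inv_eq_iff_eq_mul.1 mul_inv_eq_iff_eq_mul.1
    rcases Bool.or_eq_true_iff.1 k with k | k
    · rcases k1 1 _ (one_mem _) (h.one ▸ Golay.R.one) k with k | k <;> simp [k]
    · rcases k1 a _ aU (a3 ▸ rI) k with k | k <;> simp [k]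
  obtain ⟨Q, rQ, k⟩ := of_lg (h.mem_UU'.1 m1).2.2 (p := fun Q => lmem Q VL || lall (fun c => lall (fun d =>
    !Nat.beq (comp24 (conj24 c Q) one24) (comp24 (conj24 d Q) one24) || Nat.beq c d) NL) NL) (by decide +kernel)
  replace k := (Bool.or_eq_true_iff.1 k).resolve_left fun k => m2 (mem_lg rQ k)
  have ok : ∀ c ∈ NL, (okI c && cm c jj && lall (fun s => force (conj24 c s) fun t => lmem t UL) UL) = true :=
    lall_iff.1 (by decide +kernel)
  simp only [Bool.and_eq_true] at ok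
  refine absurd (List.Nodup.subperm (l₁ := NL.map fun c => pm c * μ (t⁻¹ * j * t) * (pm c)⁻¹)
    (l₂ := [j, z * j, a * j, a * z * j].map fun r => μ (t⁻¹ * r * t)) (List.Nodup.map_on (fun c hc d hd e => ?_)
      (by decide +kernel)) fun _ m => ?_).length_le (by simp [NL])
  · have k := lall_iff.1 (lall_iff.1 k c hc) d hd
    rw [Nat.beq_eq.mpr ((((rI (ok c hc).1.1).conj rQ).comp24_eq_iff Golay.R.one ((rI (ok d hd).1.1).conj rQ)
      Golay.R.one).2 (by rw [e]))] at k
    exact CG.eq_of_beq k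
  obtain ⟨c, hc, rfl⟩ := List.mem_map.1 m
  obtain ⟨n, n1, n2, n3⟩ : ∃ n, n * x = x * n ∧ μ n = pm c ∧ n * j * n⁻¹ ∈ S := by
    obtain ⟨n, n1, n2⟩ := h.surjK (mI (ok c hc).1.1)
    obtain ⟨k, hk, e1⟩ := h.comm_ker (KN n1) hj (by rw [n2, e]; exact comm_of (rI (ok c hc).1.1) rD (ok c hc).1.2)
    obtain ⟨l, hl, e2⟩ := h.dec hk
    have l1 := zpowers_le.2 h.x_mem hl
    have l2 : l⁻¹ * (j * l) * l = j := by
      have : j * l * j⁻¹ = l⁻¹ := by
        obtain ⟨i, rfl⟩ := hl
        simp only [← conj_zpow, jx, inv_zpow]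
      rw [mul_inv_eq_iff_eq_mul] at this
      calc _ = l⁻¹ * (l⁻¹ * (j * l)) := by rw [this, mul_assoc, mul_assoc, this]
        _ = (l ^ 3)⁻¹ * j := by rw [this]; group
        _ = j := by rw [h.cube hl, inv_one, one_mul]
    refine ⟨l⁻¹ * n, Commute.mul_left (Commute.inv_left (h.cen_x l1)) n1, by
      rw [h.mul _ (inv_mem (KN (h.cen_x l1))) _ (KN n1), h.inv (KN (h.cen_x l1)), h.μ_cen l1, n2, inv_one, one_mul], ?_⟩
    rw [show l⁻¹ * n * j * (l⁻¹ * n)⁻¹ = l⁻¹ * (n * j * n⁻¹) * l by group, e1]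
    rcases e2 with e2 | e2 <;> rw [e2]
    · exact l2.symm ▸ jR
    · rw [← mul_assoc j, ← mul_assoc, mul_assoc _ z, ← h.zc l (h.cen_x l1), ← mul_assoc, l2]
      exact mul_mem jR (UR h.z_U)
  have nU := h.norm_UU (KN n1) fun u hu => norm_lg (n2 ▸ rI (ok c hc).1.1) (ok c hc).2 hu
  have nS := nR n nU n3
  have g1 : t * n * t⁻¹ ∈ normalizer (UU x y : Set G) := mem_normalizer_iff_cj.2 (by
    rw [mul_assoc, cj_mul, key _ (mul_mem nS (inv_mem ht)) fun m => tU (inv_mem_iff.1 ((mul_mem_cancel_left nU).1 m)),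
      ← t1, ← cj_mul, mul_inv_cancel, cj_one])
  refine List.mem_map.2 ⟨_, four _ g1 (mul_mem (mul_mem ht nS) (inv_mem ht)), ?_⟩
  rw [← n2, ← h.cj (KN n1) (RN (UR m1))]
  congr 1; group

end CL.J4T
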