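/- No quaternion group over `⟨x, y⟩` in the centraliser of `V0`. -/
import Cfsg.Agent.SPOR.J4T.Kit
import Cfsg.Agent.TECH.SylIn
import Cfsg.Agent.PERM.OddNine

set_option autoImplicit false
set_option maxRecDepth 100000

namespace CL.J4T.V2b

open CL.K CL.LX Cfsg CL.Golay CL.MAut CL.J4 Subgroup
open CL.Odd (V2 co2 co2_add co2_inj co2_co2)

variable {G : Type*} [Group G] [Finite G] {x y z : G} {μ : G → Pm}

theorem one (h : Ch x y z μ) {g : G} (gY : ∀ v, IV x y v → g * v = v * g) (gx : g ∈ Nm x)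
    (gE : Commute (g * y * g⁻¹) y) :
    (g * x * g⁻¹ = x ∧ g * y * g⁻¹ = y) ∨ (g * x * g⁻¹ = x⁻¹ ∧ g * y * g⁻¹ = y⁻¹) := by
  have k : ∀ g, (∀ v, IV x y v → g * v = v * g) → g * x = x * g → Commute (g * y * g⁻¹) y →
      g * y * g⁻¹ = y := fun g gY e gE => by
    obtain ⟨u, hu, k, hk, i, rfl⟩ := h.cent_V0 e gY
    have c : Commute (y ^ i * k) y := ((Commute.refl y).pow_left i).mul_left
      (h.cen (zpowers_le.2 h.x_mem hk) h.yK).symm
    rw [show u * y ^ i * k * y * (u * y ^ i * k)⁻¹ = u * y * u⁻¹ by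
      rw [mul_assoc u, mul_assoc u, c.eq]; group] at gE ⊢
    have yU : y ∈ normalizer (UU x y : Set G) :=
      h.norm_UU (KN h.yK) fun u hu => h.μy ▸ norm_lg rI (by decide +kernel) hu
    have m := mul_mem hu ((mem_normalizer_iff.1 yU _).1 (inv_mem hu))
    rw [← mul_assoc, ← mul_assoc] at m
    exact mul_inv_eq_one.1 (eq_one_23 (h.UU_sq m) (by
      rw [gE.inv_right.mul_pow, inv_pow, h.y3, pow_cj h.y3]; simp))
  refine (h.cases gx).imp (fun e => ⟨mul_inv_eq_iff_eq_mul.2 e, k g gY e gE⟩) fun e => ⟨e, ?_⟩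
  obtain ⟨j, -, -, jx, jy, -, jV⟩ := h.exists_j
  have a : ∀ y, g * j * y * (g * j)⁻¹ = g * (j * y * j⁻¹) * g⁻¹ := fun y => by group
  have := k (g * j) (fun v hv => Commute.mul_left (gY v hv) (jV v hv))
    (mul_inv_eq_iff_eq_mul.1 (by rw [a, jx, conj_inv.symm, e, inv_inv]))
    (by rw [a, jy, conj_inv.symm]; exact gE.inv_left)
  rwa [a, jy, conj_inv.symm, inv_eq_iff_eq_inv] at this

/-- the action on coordinates -/
def Act (x y g : G) (f : V2 → V2) : Prop := ∀ v, g * co2 x y v * g⁻¹ = co2 x y (f v)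

/-- an eigenvector forces a scalar -/
def P (f : V2 → V2) : Prop := ∀ v, v ≠ 0 → (f v = v ∨ f v = -v) → (∀ u, f u = u) ∨ ∀ u, f u = -u
instance (f : V2 → V2) : Decidable (P f) := by unfold P; infer_instance

/-- matrices -/
def ap (A : V2 × V2) (v : V2) : V2 := v.1 • A.1 + v.2 • A.2

set_option synthInstance.maxSize 1000 in
theorem ap8 : ∀ A, (∀ v, ap A v = 0 → v = 0) → P (ap A) → ∀ v,
    ap A (ap A (ap A (ap A (ap A (ap A (ap A (ap A v))))))) = v := by decide +kernel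

/-- the final configuration -/
def Fin3 (A B : V2 → V2) : Prop := (∀ v, A v = 0 → v = 0) → P A → P (fun v => A (B v)) →
  ¬ ((∀ v, A (A v) = v) ∨ (∀ v, B (B v) = v) ∨ ∀ v, A (B (A (B v))) = v)
set_option synthInstance.maxSize 1000 in
instance (A B : V2 → V2) : Decidable (Fin3 A B) := by unfold Fin3; infer_instance

theorem fin3 : ∀ (p : V2) (k : ZMod 3), Fin3 (ap (p, (k, 0)))
    fun v => ap ((1, 0), (1, 1)) (ap (p, (k, 0)) (ap ((1, 0), (2, 1)) v)) := by decide +kernel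

omit [Finite G] in
theorem Act.mul {g k : G} {f f' : V2 → V2} (a : Act x y g f) (b : Act x y k f') :
    Act x y (g * k) fun v => f (f' v) := fun v => by rw [← a, ← b]; group

omit [Finite G] in
theorem co_cj (g a b : G) (v : V2) : g * co2 a b v * g⁻¹ = co2 (g * a * g⁻¹) (g * b * g⁻¹) v := by
  simp only [co2, conj_pow, conj_mul]

section
variable (h : Ch x y z μ)
include h
omit [Finite G]

theorem xy : Commute x y := h.yK.symm
theorem add (u v : V2) : co2 x y (u + v) = co2 x y u * co2 x y v := co2_add h.x3 h.y3 (xy h) u v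
theorem inj : Function.Injective (co2 x y) := co2_inj h.x3 h.y3 (xy h) h.x1 h.pr.b1
  (fun e => h.pr.n (e ▸ mem_zpowers _)) fun e => h.pr.n (e ▸ inv_mem (mem_zpowers _))
theorem zero : co2 x y 0 = 1 := by simp [co2]
theorem neg (v : V2) : co2 x y (-v) = (co2 x y v)⁻¹ :=
  eq_inv_of_mul_eq_one_left (by rw [← add h, neg_add_cancel, zero h])
theorem cc (u v : V2) : Commute (co2 x y u) (co2 x y v) := by
  rw [Commute, SemiconjBy, ← add h, add_comm, add h]
theorem c3 (v : V2) : co2 x y v ^ 3 = 1 := by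
  rw [pow_three, ← add h, ← add h, (by decide : ∀ v : V2, v + (v + v) = 0), zero h]
theorem cx : co2 x y (1, 0) = x := by simp [co2, ZMod.val_one]
theorem cy : co2 x y (0, 1) = y := by simp [co2, ZMod.val_one]

theorem mem_E {e : G} : e ∈ zpowers x ⊔ zpowers y ↔ ∃ v, co2 x y v = e := by
  let E : Subgroup G :=
    { carrier := Set.range (co2 x y)
      one_mem' := ⟨0, zero h⟩
      mul_mem' := by rintro _ _ ⟨u, rfl⟩ ⟨v, rfl⟩; exact ⟨_, add h u v⟩
      inv_mem' := by rintro _ ⟨u, rfl⟩; exact ⟨_, neg h u⟩ }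
  refine ⟨fun he => (sup_le (zpowers_le.2 ⟨_, cx h⟩) (zpowers_le.2 ⟨_, cy h⟩) : _ ≤ E) he, ?_⟩
  rintro ⟨v, rfl⟩
  exact mul_mem (mem_sup_left (pow_mem (mem_zpowers _) _)) (mem_sup_right (pow_mem (mem_zpowers _) _))

theorem act_of {g : G} {A : V2 × V2} (a : g * x * g⁻¹ = co2 x y A.1) (b : g * y * g⁻¹ = co2 x y A.2) :
    Act x y g (ap A) := fun v => by rw [co_cj, a, b, co2_co2 h.x3 h.y3 (xy h)]; rfl

theorem Act.inj' {g : G} {f : V2 → V2} (a : Act x y g f) (v : V2) (e : f v = 0) : v = 0 := inj h (by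
  have := a v
  rwa [e, zero h, conj_eq_one_iff, ← zero h] at this)

end

theorem keyP (h : Ch x y z μ) {g : G} (gY : ∀ v, IV x y v → g * v = v * g) {f : V2 → V2}
    (a : Act x y g f) : P f := fun v v0 e => by
  obtain ⟨v', n, b⟩ := (by decide +kernel : ∀ v : V2, v ≠ 0 → ∃ v' : V2,
    (v' ≠ 0 ∧ v' ≠ v ∧ v' ≠ v + v) ∧ ∀ u, ∃ i : V2, u = i.1 • v + i.2 • v') v v0
  have sp : ∀ u, ∃ i, co2 x y u = co2 (co2 x y v) (co2 x y v') i := fun u =>
    (b u).imp fun i e => by rw [co2_co2 h.x3 h.y3 (xy h), ← e]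
  obtain ⟨k, ν, -, H⟩ := h.toTr.chart (a := co2 x y v) (b := co2 x y v') (c3 h v)
    (fun e => v0 (inj h (e.trans (zero h).symm))) (cc h _ _) (c3 h v') fun m => by
      rcases F24.mem_zpowers_three (c3 h v) m with e | e | e
      exacts [n.1 (inj h (e.trans (zero h).symm)), n.2.1 (inj h e), n.2.2 (inj h (e.trans (add h _ _).symm))]
  have := one H (g := g) (fun u hu => gY u (iv_congr (fun g g1 g2 => by
      have k : ∀ u, Commute g (co2 x y u) := fun u => by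
        obtain ⟨i, e⟩ := sp u
        rw [e]
        exact (Commute.pow_right g1 _).mul_right (Commute.pow_right g2 _)
      exact ⟨by simpa only [cx h] using (k (1, 0)).eq, by simpa only [cy h] using (k (0, 1)).eq⟩) hu))
    (Nm_of (by
      rw [a]
      rcases e with e | e <;> rw [e]
      exacts [mem_zpowers _, neg h v ▸ inv_mem (mem_zpowers _)])) (by rw [a]; exact cc h _ _)
  refine this.imp (fun e u => inj h ?_) fun e u => inj h ?_
  · obtain ⟨i, e'⟩ := sp u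
    rw [← a, e', co_cj, e.1, e.2]
  · obtain ⟨i, e'⟩ := sp u
    rw [← a, neg h, e', co_cj, e.1, e.2]
    have := ((cc h v' v).pow_pow i.2.val i.1.val).eq
    generalize co2 x y v = r at *
    generalize co2 x y v' = s at *
    rw [co2, co2, inv_pow, inv_pow, ← mul_inv_rev, this]

/-- a Sylow 2-subgroup covers a 2-group of automorphisms -/
theorem cover {E Y : Subgroup G}
    (h8 : ∀ g ∈ Y, g ∈ normalizer (E : Set G) → ∀ e ∈ E, g ^ 8 * e * (g ^ 8)⁻¹ = e) :
    ∃ T ≤ Y, IsPGroup 2 T ∧ ∀ g ∈ Y, g ∈ normalizer (E : Set G) →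
      ∃ t ∈ T, ∀ e ∈ E, t * e * t⁻¹ = g * e * g⁻¹ := by
  have : Fact (Nat.Prime 2) := ⟨Nat.prime_two⟩
  obtain ⟨T, hT⟩ := MSS.exists_sylIn 2 (Y.subgroupOf (normalizer (E : Set G)))
  have := (hT.map E.normalizerMonoidHom).eq_of_isPGroup (by
    rintro ⟨_, g, hg, rfl⟩
    refine ⟨3, Subtype.ext ?_⟩
    rw [coe_pow, coe_one, ← map_pow]
    exact MulEquiv.ext fun e => Subtype.ext (h8 g hg g.2 e e.2))
  refine ⟨T.map (Subgroup.subtype _), by rintro _ ⟨t, ht, rfl⟩; exact hT.le ht, hT.pgroup.map _,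
    fun g hg hg' => ?_⟩
  obtain ⟨t, ht, e⟩ := this.ge ⟨⟨g, hg'⟩, hg, rfl⟩
  exact ⟨t, ⟨t, ht, rfl⟩, fun a ha => congrArg Subtype.val (DFunLike.congr_fun e (⟨a, ha⟩ : E))⟩

end CL.J4T.V2b

namespace CL.J4T

open CL.K CL.LX Cfsg CL.Golay CL.MAut CL.J4 Subgroup

variable {G : Type*} [Group G] [Finite G] {x y z : G} {μ : G → Pm}

/-- PROOF. `E = ⟨x, y⟩`, `Y = C(V0)`, `M = Y ⊓ N(E)`; use coordinates `x ^ a * y ^ b`, `a b : ZMod 3`, and the
matrix of an element normalising `E`.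
(1) `g ∈ M` normalising `⟨x⟩` centralises or inverts `E`: if `g x = x g` then `g = u y ^ i k` (`cent_V0`) and
`u y u⁻¹ y⁻¹ ∈ UU ⊓ E = 1` (`y` normalises `UU`); otherwise use `g j` with `j` from `exists_j`. The same holds for
`⟨y⟩, ⟨y x⟩, ⟨y x⁻¹⟩` (`Tr.chart` for the pairs `(y, x)`, `(y x, x)`, `(y x⁻¹, x)`, which have the same `IV`,
see `iv_congr`, `Pr.mul`, `Pr.symm`).
(2) So the matrix `A` of every `g ∈ M` has: an eigenvector forces `A = ± 1`. Then `A ^ 8 = 1` (`decide`), so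
`M / C_M(E)` is a 2-group and `M = T C_M(E)` for a Sylow 2-subgroup `T` of `M`.
(3) `w` from `exists_w` normalises `M` (it normalises `E` and `V0`). With `c' = w c w⁻¹`, property (2) for
`c, c c, c', c c', (c c') ^ 2` gives that `c c`, `c' c'` and `(c c') ^ 2` invert `E` (`decide` over `A`).
Take `a, b ∈ T` acting as `c, c'`; this contradicts `h2`. -/
theorem Ch.no_move (h : Ch x y z μ)
    (h2 : ∀ T ≤ centralizer (V0 x y : Set G), IsPGroup 2 T → ∀ a ∈ T, ∀ b ∈ T,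
      a * a = 1 ∨ b * b = 1 ∨ a * b * (a * b) = 1)
    {c : G} (hc : c ∈ centralizer (V0 x y : Set G)) (h1 : c * y * c⁻¹ ∈ zpowers x)
    (h3 : c * x * c⁻¹ ∈ zpowers x ⊔ zpowers y) : False := by
  have mY : ∀ {g}, g ∈ centralizer (V0 x y : Set G) → ∀ v, IV x y v → g * v = v * g :=
    fun m v hv => (m v (h.mem_V0.2 hv)).symm
  have nE : ∀ {g f}, V2b.Act x y g f → g ∈ normalizer ((zpowers x ⊔ zpowers y : Subgroup G) : Set G) :=
    fun a => mem_normalizer_fintype fun e he => by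
      obtain ⟨v, rfl⟩ := (V2b.mem_E h).1 he
      exact (V2b.mem_E h).2 ⟨_, (a v).symm⟩
  obtain ⟨T, TY, hT, cov⟩ := V2b.cover (E := zpowers x ⊔ zpowers y) (Y := centralizer (V0 x y : Set G))
    fun g hg n e he => by
      obtain ⟨p, a⟩ := (V2b.mem_E h).1 ((mem_normalizer_iff.1 n x).1 (mem_sup_left (mem_zpowers x)))
      obtain ⟨q, b⟩ := (V2b.mem_E h).1 ((mem_normalizer_iff.1 n y).1 (mem_sup_right (mem_zpowers y)))
      have c := V2b.act_of h (A := (p, q)) a.symm b.symm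
      obtain ⟨v, rfl⟩ := (V2b.mem_E h).1 he
      have d := (c.mul c).mul (c.mul c)
      rw [show g ^ 8 = g * g * (g * g) * (g * g * (g * g)) by simp only [pow_succ, pow_zero]; group, d.mul d v]
      exact congrArg _ (V2b.ap8 _ (c.inj' h) (V2b.keyP h (mY hg) c) v)
  obtain ⟨p, a⟩ := (V2b.mem_E h).1 h3
  obtain ⟨k, b⟩ : ∃ k : ZMod 3, c * y * c⁻¹ = Odd.co2 x y (k, 0) := by
    rcases F24.mem_zpowers_three h.x3 h1 with e | e | e <;> rw [e]
    exacts [⟨0, (V2b.zero h).symm⟩, ⟨1, (V2b.cx h).symm⟩, ⟨1 + 1, by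
      rw [show ((1 + 1, 0) : Odd.V2) = (1, 0) + (1, 0) from rfl, V2b.add h, V2b.cx h]⟩]
  have A := V2b.act_of h (A := (p, (k, 0))) a.symm b
  obtain ⟨w, w1, -, w3, -⟩ := h.exists_w
  have W : V2b.Act x y w (V2b.ap ((1, 0), (1, 1))) := V2b.act_of h
    (by rw [V2b.cx h, w1, mul_inv_cancel_right])
    (by rw [w3, show ((1, 1) : Odd.V2) = (0, 1) + (1, 0) from rfl, V2b.add h, V2b.cx h, V2b.cy h])
  have W' : V2b.Act x y w⁻¹ (V2b.ap ((1, 0), (2, 1))) := fun v => by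
    conv_lhs => rw [(by decide : ∀ v, v = V2b.ap ((1, 0), (1, 1)) (V2b.ap ((1, 0), (2, 1)) v)) v, ← W]
    group
  have wV : w ∈ normalizer (V0 x y : Set G) := mem_normalizer_fintype fun v hv => h.mem_V0.2 (by
    have := (iv_cj (c := w)).2 (h.mem_V0.1 hv)
    rw [w3, w1, mul_inv_cancel_right] at this
    exact iv_congr (fun g g1 g2 => ⟨g1, by
      simpa using (Commute.mul_right (show Commute g _ from g2) (Commute.inv_right g1)).eq⟩) this)
  have hc' := (mem_normalizer_iff.1 (MSS.normalizer_le_normalizer_centralizer _ wV) c).1 hc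
  have A' := (W.mul A).mul W'
  generalize w * c * w⁻¹ = c' at hc' A'
  obtain ⟨s, hs, es⟩ := cov c hc (nE A)
  obtain ⟨t, ht, et⟩ := cov c' hc' (nE A')
  have S : V2b.Act x y s _ := fun v => (es _ ((V2b.mem_E h).2 ⟨v, rfl⟩)).trans (A v)
  have S' : V2b.Act x y t _ := fun v => (et _ ((V2b.mem_E h).2 ⟨v, rfl⟩)).trans (A' v)
  have sq : ∀ {g f}, V2b.Act x y g f → g * g = 1 → ∀ v, f (f v) = v := fun a e v => V2b.inj h (by
    rw [← a.mul a v, e]; simp)
  exact V2b.fin3 p k (A.inj' h)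
    (V2b.keyP h (mY hc) A) (V2b.keyP h (mY (mul_mem hc hc')) (A.mul A'))
    ((h2 T TY hT s hs t ht).imp (sq S) (Or.imp (sq S') (sq (S.mul S'))))

end CL.J4T
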