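/- The centraliser of `UU` has more than one subgroup of order 3. -/
import Cfsg.Agent.SPOR.J4T.V2a
import Cfsg.Agent.SPOR.J4T.V2b
import Cfsg.Agent.TECH.SylIn

set_option autoImplicit false
set_option maxRecDepth 100000

namespace CL.J4T.V2

open Subgroup CL.MSS

variable {G : Type*} [Group G] {U : Subgroup G} {j : G} (jU : j ∈ normalizer (U : Set G)) (j2 : j * j ∈ U)
include jU j2

/-- a subgroup extended by an element with square in it -/
theorem mem_sup2 {r : G} : r ∈ U ⊔ zpowers j ↔ r ∈ U ∨ r * j⁻¹ ∈ U := by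
  have n : ∀ u ∈ U, j * u * j⁻¹ ∈ U := fun u hu => (mem_normalizer_iff.1 jU u).1 hu
  let R : Subgroup G :=
    { carrier := {r | r ∈ U ∨ r * j⁻¹ ∈ U}
      one_mem' := .inl (one_mem _)
      mul_mem' := by
        rintro a b (ha | ha) (hb | hb)
        · exact .inl (mul_mem ha hb)
        · exact .inr (by simpa only [mul_assoc] using mul_mem ha hb)
        · exact .inr (by simpa [mul_assoc] using mul_mem ha (n b hb))
        · exact .inl (by simpa [mul_assoc] using mul_mem (mul_mem ha (n _ hb)) j2)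
      inv_mem' := by
        rintro a (ha | ha)
        · exact .inl (inv_mem ha)
        · refine .inr ?_
          simpa [mul_assoc] using inv_mem (n _ ha |> fun m => mul_mem m j2 |> fun m =>
            (show j * a ∈ U by simpa [mul_assoc] using m)) }
  refine ⟨fun hr => (sup_le (fun u hu => .inl hu) (zpowers_le.2 (.inr (by simp))) : _ ≤ R) hr, ?_⟩
  rintro (e | e)
  · exact mem_sup_left e
  · simpa using mul_mem (mem_sup_left e) (mem_sup_right (mem_zpowers j) : j ∈ U ⊔ zpowers j)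

theorem mul2 {a b : G} (ha : a ∈ U ⊔ zpowers j) (hb : b ∈ U ⊔ zpowers j) : a ∈ U ∨ b ∈ U ∨ a * b ∈ U := by
  refine ((mem_sup2 jU j2).1 ha).imp_right fun ha => ((mem_sup2 jU j2).1 hb).imp_right fun hb => ?_
  simpa [mul_assoc] using mul_mem (mul_mem ha ((mem_normalizer_iff.1 jU _).1 hb)) j2

theorem norm2 [Finite G] (j1 : j ∉ U) {V : Subgroup G} (hV : V ≤ U ⊔ zpowers j)
    (c : Nat.card V = Nat.card U) : U ⊔ zpowers j ≤ normalizer (V : Set G) := by
  have a : U.relIndex (U ⊔ zpowers j) = 2 := index_eq_two_iff.2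
    ⟨⟨j⁻¹, inv_mem (mem_sup_right (mem_zpowers j))⟩, fun b => by
      rcases (mem_sup2 jU j2).1 b.2 with e | e
      · exact .inr ⟨e, fun e' => j1 (inv_mem_iff.1 ((mul_mem_cancel_left e).1 e'))⟩
      · exact .inl ⟨e, fun e' => j1 (inv_mem_iff.1 ((mul_mem_cancel_left (show (b : G) ∈ U from e')).1 e))⟩⟩
  have b := (U.subgroupOf (U ⊔ zpowers j)).card_mul_index
  have d := (V.subgroupOf (U ⊔ zpowers j)).card_mul_index
  rw [Nat.card_congr (subgroupOfEquivOfLe le_sup_left).toEquiv] at b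
  rw [Nat.card_congr (subgroupOfEquivOfLe hV).toEquiv, c, ← b] at d
  have := normal_of_index_eq_two ((Nat.eq_of_mul_eq_mul_left Nat.card_pos d).trans a)
  exact (normal_subgroupOf_iff_le_normalizer hV).1 this

omit jU j2 in
theorem conj_cube (h2 : ∀ u ∈ U, u * u = 1) {a v : G} (ha : a ∈ normalizer (U : Set G)) (hv : v ∈ U)
    (h3 : a ^ 3 = 1) (h4 : (v * a) ^ 3 = 1) : ∃ u ∈ U, u * a * u⁻¹ = v * a := by
  have h5 := (mem_normalizer_iff.1 ha v).1 hv
  refine ⟨a * v * a⁻¹, h5, ?_⟩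
  have h7 : v * ((a * v * a⁻¹) * (a * (a * v * a⁻¹) * a⁻¹)) = 1 := by
    calc _ = (v * a) ^ 3 * (a ^ 3)⁻¹ := by simp only [pow_three, mul_assoc]; group
      _ = 1 := by rw [h3, h4, inv_one, mul_one]
  have h8 := (inv_eq_of_mul_eq_one_left (h2 v hv)).symm.trans (inv_eq_of_mul_eq_one_right h7)
  rw [inv_eq_of_mul_eq_one_left (h2 _ h5)]
  conv_rhs => rw [h8]
  group

end CL.J4T.V2

namespace CL.J4T

open CL.K CL.LX Cfsg CL.Golay CL.MAut CL.J4 Subgroup

variable {G : Type*} [Group G] [Finite G] {x y z : G} {μ : G → Pm}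

/-- PROOF. `U = UU x y`. By `hV`, `N(U) ≤ Nm x` (`Nm_of`). Let `j` be as in `exists_j`, `R = U ⊔ ⟨j⟩ = U ∪ U j`,
a 2-subgroup of `Y = C(V0)`.
(1) `R` is Sylow in `Y`: otherwise some `t ∉ R` of a 2-subgroup of `Y` normalises `R`; by `norm_R` it lies in
`N(U) ≤ Nm x`, and `t` or `t j⁻¹` (still a 2-element) centralises `x`, so lies in `U` by `two_V0`.
(2) `U₂ = UU y x ≤ Y` is a 2-group, so `U' = c U₂ c⁻¹ ≤ R` for some `c ∈ Y`. Take `g` with `g x g⁻¹ = y`,
`g y g⁻¹ = x` (`Ch.pair`, `Pr.symm`); then `g U g⁻¹ = U₂` and `g` normalises `V0` (`iu_cj`, `iv_cj`). So `c g`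
normalises `Y`, and `R`, `(c g) R (c g)⁻¹` are Sylow 2-subgroups of `Y` normalising `U'` (index 2 in both), hence
conjugate by some `d ∈ N_Y(U')`; `t = d c g` normalises `R` and `t U t⁻¹ = U'`. By `norm_R`, `U' = U`.
(3) So `c y c⁻¹` centralises `U` and lies in `⟨x⟩` by `hV`. Then `s = c x c⁻¹` centralises `x` and `V0`, so
`s = u y ^ i k` (`cent_V0`) with `s ^ 3 = 1`; conjugating by an element of `U` (`CL.J4.conj_of_cube`, whose
conjugating element lies in `U`) we may assume `s ∈ ⟨x, y⟩`. Every 2-subgroup of `Y` is conjugate into `R`,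
where `U` has index 2, and `no_move` applies. -/
theorem Ch.not_three (h : Ch x y z μ)
    (hV : ∀ a, (∀ u ∈ UU x y, u * a = a * u) → a ^ 3 = 1 → a ∈ zpowers x) : False := by
  have : Fact (Nat.Prime 2) := ⟨Nat.prime_two⟩
  have Ux : ∀ u ∈ UU x y, u * x = x * u := fun u hu => (h.mem_UU.1 hu).1
  have hN : normalizer (UU x y : Set G) ≤ Nm x := fun g hg => Nm_of (hV _ (fun u hu => by
    rw [← cj_cj' g u, comm_cj]
    exact Ux _ (by simpa using (mem_normalizer_iff.1 (inv_mem hg) u).1 hu)) (pow_cj h.x3))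
  obtain ⟨j, hj, e, jx, jy, j2, jV⟩ := h.exists_j
  have nR := h.norm_R hN hj e j2
  have jU : j ∈ normalizer (UU x y : Set G) := h.norm_UU hj fun u hu => e ▸ norm_lg rD (by decide +kernel) hu
  have jj2 : j * j ∈ UU x y := by rcases j2 with e | e <;> rw [e]; exacts [one_mem _, h.z_U]
  have j1 : j ∉ UU x y := fun m => h.x_ne_inv (by rw [← jx, Ux j m, mul_inv_cancel_right])
  have mY : ∀ {g}, g ∈ centralizer (V0 x y : Set G) ↔ ∀ v, IV x y v → g * v = v * g :=
    ⟨fun m v hv => (m v (h.mem_V0.2 hv)).symm, fun m v hv => (m v (h.mem_V0.1 hv)).symm⟩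
  have UY : UU x y ≤ centralizer (V0 x y : Set G) := fun u hu => mY.2 (h.mem_UU.1 hu).2.2
  have RY : UU x y ⊔ zpowers j ≤ centralizer (V0 x y : Set G) := sup_le UY (zpowers_le.2 (mY.2 jV))
  have Rp : IsPGroup 2 (UU x y ⊔ zpowers j : Subgroup G) := fun r => ⟨2, Subtype.ext (by
    have : (r : G) * r ∈ UU x y := by
      rcases V2.mul2 jU jj2 r.2 r.2 with e | e | e
      exacts [mul_mem e e, mul_mem e e, e]
    rw [coe_pow, show 2 ^ 2 = 2 * 2 from rfl, pow_mul, pow_two, pow_two, h.UU_sq this, coe_one])⟩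
  have syl : MSS.SylIn 2 (UU x y ⊔ zpowers j) (centralizer (V0 x y : Set G)) :=
    MSS.SylIn.of_normalizer ⟨le_inf RY le_normalizer, Rp, fun Q hQ h1 h2 => le_antisymm (fun t ht => by
      have k : ∀ t ∈ Q, t * x = x * t → t ∈ UU x y := fun t ht e => by
        obtain ⟨n, hn⟩ := hQ ⟨t, ht⟩
        exact h.two_V0 e (mY.1 (h2 ht).1) (congrArg Subtype.val hn)
      refine (V2.mem_sup2 jU jj2).2 ((h.cases (hN (nR (h2 ht).2))).imp (k t ht) fun e =>
        k _ (mul_mem ht (inv_mem (h1 (mem_sup_right (mem_zpowers j))))) ?_)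
      rw [← mul_inv_eq_iff_eq_mul]
      calc _ = t * (j⁻¹ * (j * x * j⁻¹)⁻¹ * j) * t⁻¹ := by rw [jx]; group
        _ = (t * x * t⁻¹)⁻¹ := by group
        _ = _ := by rw [e, inv_inv]) h1⟩
  obtain ⟨g, gx, gy⟩ := h.pair h.pr.symm
  have gV : g ∈ normalizer (V0 x y : Set G) := mem_normalizer_fintype fun v hv =>
    h.mem_V0.2 (IV.symm (by rw [← gx]; nth_rewrite 2 [← gy]; exact iv_cj.2 (h.mem_V0.1 hv)))
  have gY := MSS.normalizer_le_normalizer_centralizer _ gV
  obtain ⟨c, hc, cR⟩ := syl.exists_conj_le (MSS.isPGroup_cj g h.UU_pg) (MSS.cj_le_of_mem_normalizer UY gY)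
  rw [← MSS.cj_mul] at cR
  have kY := mul_mem (le_normalizer hc) gY
  obtain ⟨d, hd, dR⟩ := ((syl.cj_of_mem_normalizer kY).inf_of_le (by
      rw [← MSS.cj_normalizer]
      exact MSS.cj_mono _ (sup_le le_normalizer (zpowers_le.2 jU)))).exists_conj
    (syl.inf_of_le (V2.norm2 jU jj2 j1 cR (MSS.card_cj _ _)))
  rw [← MSS.cj_mul] at dR
  have kU := MSS.mem_normalizer_iff_cj.1 (nR (MSS.mem_normalizer_iff_cj.2 dR))
  rw [MSS.cj_mul, MSS.cj_eq_of_mem_normalizer hd.2] at kU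
  have kN := hN (MSS.mem_normalizer_iff_cj.2 kU)
  have c1 : c * y * c⁻¹ ∈ zpowers x := by
    simpa [← gx, mul_assoc] using (mem_normalizer_iff.1 kN x).1 (mem_zpowers x)
  have c2 : c * x * c⁻¹ * x = x * (c * x * c⁻¹) := by
    have := h.conj_K kN h.yK
    rwa [show c * g * y * (c * g)⁻¹ = c * x * c⁻¹ by rw [← gy]; group] at this
  have xY : x ∈ centralizer (V0 x y : Set G) := mY.2 fun v hv => hv.1.symm
  obtain ⟨u, hu, l, hl, i, f⟩ := h.cent_V0 c2 (mY.1 (mul_mem (mul_mem hc xY) (inv_mem hc)))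
  have lx : ∀ u ∈ UU x y, ∀ l ∈ zpowers x, u * l = l * u := by
    rintro u hu _ ⟨n, rfl⟩
    exact ((show Commute u x from Ux u hu).zpow_right n).eq
  have yU : y ∈ normalizer (UU x y : Set G) :=
    h.norm_UU (KN h.yK) fun u hu => h.μy ▸ norm_lg rI (by decide +kernel) hu
  rw [mul_assoc u] at f
  obtain ⟨v, hv, f'⟩ := V2.conj_cube (fun _ => h.UU_sq) (a := y ^ i * l) (mul_mem (pow_mem yU i)
    (centralizer_le_normalizer _ fun u hu => lx u hu l hl)) hu (by
      obtain ⟨n, rfl⟩ := hl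
      rw [(((show Commute y x from h.yK).zpow_right n).pow_left i).mul_pow, ← pow_mul, mul_comm i, pow_mul,
        h.y3, one_pow, one_mul, h.cube ⟨n, rfl⟩]) (f ▸ pow_cj h.x3)
  refine h.no_move (fun T TY hT a ha b hb => ?_) (mul_mem (inv_mem (UY hv)) hc) ?_ ?_
  · obtain ⟨c, -, cT⟩ := syl.exists_conj_le hT TY
    have k : ∀ a, c * a * c⁻¹ ∈ UU x y → a * a = 1 := fun a m => by
      have := h.UU_sq m
      rwa [conj_mul, conj_eq_one_iff] at this
    refine (V2.mul2 jU jj2 (cT (MSS.conj_mem_cj ha)) (cT (MSS.conj_mem_cj hb))).imp (k a) (Or.imp (k b) ?_)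
    rw [conj_mul]
    exact k _
  · rwa [show v⁻¹ * c * y * (v⁻¹ * c)⁻¹ = v⁻¹ * (c * y * c⁻¹ * v) by group, ← lx v hv _ c1,
      inv_mul_cancel_left]
  · rw [show v⁻¹ * c * x * (v⁻¹ * c)⁻¹ = v⁻¹ * (c * x * c⁻¹) * v by group, f, ← f', cj_cj]
    exact mul_mem (mem_sup_right (pow_mem (mem_zpowers y) i)) (mem_sup_left hl)

end CL.J4T
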