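/- The elementary abelian group `VV` and the data for the extraspecial group. -/
import Cfsg.Agent.SPOR.J4T.V1
import Cfsg.Agent.SPOR.J4T.V2
import Cfsg.Agent.SPOR.J4T.Bad
import Cfsg.Agent.SPOR.J4T.QDef

set_option autoImplicit false
set_option maxRecDepth 100000
set_option linter.unusedSectionVars false
set_option linter.unusedVariables false

namespace CL.J4T

open CL.K CL.LX Cfsg CL.Golay CL.MAut CL.J4 Subgroup
open CL.F24 (mem_zpowers_three)

variable {G : Type*} [Group G] {x y z : G} {μ : G → Pm}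

theorem Tr.chart' (h : Tr x z μ) {a b : G} (p : Pr a b) : ∃ t ν, Ch a b t ν :=
  let ⟨_, ν, _, e⟩ := h.chart p.a3 p.a1 p.c p.b3 p.n; ⟨_, ν, e⟩

theorem uu_congr {a b a' b' : G} (h1 : ∀ g, g * a = a * g ↔ g * a' = a' * g)
    (h2 : ∀ g, IV a b g ↔ IV a' b' g) : UU a b = UU a' b' := by
  simp only [UU, IU, h1, h2]

theorem iv_comm {g : G} : IV y x g ↔ IV x y g := ⟨IV.symm, IV.symm⟩

theorem iv_mul {g k : G} (hk : k ∈ zpowers x) : IV (y * k) x g ↔ IV x y g := by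
  obtain ⟨i, rfl⟩ := hk
  exact ⟨fun e => ⟨e.2.1, by
    simpa using ((show Commute g _ from e.1).mul_right ((show Commute g x from e.2.1).zpow_right i).inv_right).eq,
    e.2.2⟩, fun e => ⟨((show Commute g y from e.2.1).mul_right
      ((show Commute g x from e.1).zpow_right i)).eq, e.1, e.2.2⟩⟩

theorem UU_cj (c : G) {u : G} (h : u ∈ UU x y) : c * u * c⁻¹ ∈ UU (c * x * c⁻¹) (c * y * c⁻¹) :=
  ((closure_le ((UU (c * x * c⁻¹) (c * y * c⁻¹)).comap (MulAut.conj c).toMonoidHom)).2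
    fun _ e => subset_closure (iu_cj.2 e)) h

/-- the four pairs -/
theorem Pr.four (p : Pr x y) {a : G} (ha : a ∈ [y, y * x, y * x⁻¹]) : Pr a x ∧ ∀ g, IV a x g ↔ IV x y g := by
  simp only [List.mem_cons, List.not_mem_nil, or_false] at ha
  rcases ha with rfl | rfl | rfl
  exacts [⟨p.symm, fun _ => iv_comm⟩, ⟨(p.mul (mem_zpowers x)).symm, fun _ => iv_mul (mem_zpowers x)⟩,
    ⟨(p.mul (inv_mem (mem_zpowers x))).symm, fun _ => iv_mul (inv_mem (mem_zpowers x))⟩]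

theorem norm_cent {U : Subgroup G} : normalizer (U : Set G) ≤ normalizer (centralizer (U : Set G) : Set G) :=
  fun g hg => mem_normalizer_iff.2 fun d => ⟨fun h u hu => by
    rw [← cj_cj' g u, comm_cj]
    exact h _ (by simpa using (mem_normalizer_iff.1 (inv_mem hg) u).1 hu),
    fun h u hu => comm_cj.1 (h _ ((mem_normalizer_iff.1 hg u).1 hu))⟩

theorem cjm {U : Subgroup G} {g u : G} (hg : g ∈ normalizer (U : Set G)) (hu : u ∈ U) : g * u * g⁻¹ ∈ U :=
  (mem_normalizer_iff.1 hg u).1 hu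

theorem w_cyc {w : G} (x3 : x ^ 3 = 1) (w1 : w * x = x * w) (w3 : w * y * w⁻¹ = y * x) :
    w * x * w⁻¹ = x ∧ w * (y * x) * w⁻¹ = y * x⁻¹ ∧ w * (y * x⁻¹) * w⁻¹ = y := by
  have e : w * x * w⁻¹ = x := mul_inv_eq_iff_eq_mul.2 w1
  exact ⟨e, by rw [← conj_mul, e, w3, mul_assoc, inv_three x3],
    by rw [← conj_mul, ← conj_inv, e, w3, mul_inv_cancel_right]⟩

variable [Finite G]

namespace Ch
variable (h : Ch x y z μ)
include h

theorem xU : x ∈ normalizer (UU x y : Set G) := h.norm_UU (KN rfl) fun u hu => by simpa [h.μx] using hu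

theorem yU : y ∈ normalizer (UU x y : Set G) :=
  h.norm_UU (KN h.yK) fun u hu => h.μy ▸ norm_lg rI (by decide +kernel) hu

/-- an `x`-invariant subgroup containing `V0` and another element of `UU` -/
theorem UU_le {F : Subgroup G} (hy : y ∈ normalizer (F : Set G)) (hV : ∀ v, IV x y v → v ∈ F) {d : G}
    (hd : d ∈ F) (d1 : d ∈ UU x y) (d2 : ¬ IV x y d) : UU x y ≤ F := fun u hu => by
  obtain ⟨a1, a2, P, hP, r⟩ := h.mem_UU'.1 d1
  obtain ⟨b1, b2, T, hT, s⟩ := h.mem_UU'.1 hu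
  have c := lall_iff.1 (lall_iff.1 (show lall (fun P => lall (fun T => lmem P WL || (lmem T WL ||
    (lmem (comp24 T P) WL || (lmem (comp24 T (conj24 p31 P)) WL ||
      lmem (comp24 T (comp24 P (conj24 p31 P))) WL)))) UL) UL = true by decide +kernel) P hP) T hT
  have e1 := cjm h.yU d1
  have r1 : R (μ (y * d * y⁻¹)) (conj24 p31 P) := by
    rw [h.cj (KN h.yK) (KN a1), h.μy]; exact Golay.R.conj rI r
  have key : ∀ e ∈ F, e ∈ UU x y → ∀ S, R (μ e) S → lmem (comp24 T S) WL = true → u ∈ F :=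
    fun e he e1 S e2 e3 => by
      obtain ⟨f1, f2, -⟩ := h.mem_UU'.1 (mul_mem hu e1)
      exact (mul_mem_cancel_right he).1 (hV _ (h.iv_iff.2 ⟨f1, f2, by
        rw [h.mul _ (KN b1) _ (KN (h.mem_UU'.1 e1).1)]; exact mem_lg (s.mul e2) e3⟩))
  simp only [Bool.or_eq_true] at c
  rcases c with c | c | c | c | c
  · exact absurd (h.iv_iff.2 ⟨a1, a2, mem_lg r c⟩) d2
  · exact hV u (h.iv_iff.2 ⟨b1, b2, mem_lg s c⟩)
  · exact key d hd d1 _ r c
  · exact key _ (cjm hy hd) e1 _ r1 c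
  · exact key _ (mul_mem hd (cjm hy hd)) (mul_mem d1 e1) _ (by
      rw [h.mul _ (KN a1) _ (KN (h.mem_UU'.1 e1).1)]; exact r.mul r1) c

theorem VV_eq : (pCore 2 (centralizer (UU x y : Set G))).map (Subgroup.subtype _) = VV x y := by
  have : Fact (Nat.Prime 2) := ⟨Nat.prime_two⟩
  obtain ⟨w, w1, w2, w3, w4⟩ := h.exists_w
  have wU := h.norm_UU (KN w1) fun _ => h.w_norm w4
  obtain ⟨c1, c2, c3⟩ := w_cyc h.x3 w1 w3
  have hF := isPGroup_map_pCore (p := 2) (centralizer (UU x y : Set G)).subtype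
  have nF : normalizer (UU x y : Set G) ≤ _ :=
    norm_cent.trans (normalizer_le_normalizer_map_pCore (p := 2) _)
  have UD : UU x y ≤ centralizer (UU x y : Set G) := fun u hu v hv => h.UU_comm hv hu
  have UF := le_map_pCore UD (centralizer_le_normalizer _) h.UU_pg
  have FD := map_subtype_le (pCore 2 (centralizer (UU x y : Set G)))
  have h2 : ∀ N ≤ centralizer (UU x y : Set G), centralizer (UU x y : Set G) ≤ normalizer (N : Set G) →
    IsPGroup 2 N → N ≤ _ := fun N a b c => le_map_pCore a b c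
  generalize (pCore 2 (centralizer (UU x y : Set G))).map (Subgroup.subtype _) = F at *
  have DV : ∀ d ∈ centralizer (UU x y : Set G), ∀ v, IV x y v → d * v = v * d := fun d hd v hv =>
    (hd v (h.mem_UU.2 (h.iu_of_iv hv))).symm
  obtain ⟨n, hn⟩ := hF.exists_card_eq
  have F3 : ¬ 3 ∣ Nat.card F := fun e =>
    absurd (Nat.prime_three.dvd_of_dvd_pow (hn ▸ e)) (by norm_num)
  have F2 : ∀ d ∈ F, ∃ n, d ^ 2 ^ n = 1 := fun d hd =>
    let ⟨n, e⟩ := hF ⟨d, hd⟩; ⟨n, congrArg Subtype.val e⟩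
  have k1 : ∀ d ∈ F, d * x = x * d → d ∈ UU x y := fun d hd e =>
    let ⟨n, e1⟩ := F2 d hd; h.two_V0 e (DV d (FD hd)) e1
  have k2 : ∀ a ∈ [y, y * x, y * x⁻¹], ∀ d ∈ F, d * a = a * d → d ∈ UU a x := fun a ha d hd e => by
    obtain ⟨p, e1⟩ := h.pr.four ha
    obtain ⟨t, ν, h'⟩ := h.chart' p
    obtain ⟨n, e2⟩ := F2 d hd
    exact h'.two_V0 e (fun v hv => DV d (FD hd) v ((e1 v).1 hv)) e2
  refine le_antisymm (h.pr.genE (nF h.xU) (nF h.yU) F3 fun a ha d hd e => ?_) ?_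
  · simp only [List.mem_cons, List.not_mem_nil, or_false] at ha
    rcases ha with rfl | rfl | rfl | rfl
    exacts [mem_sup_left (mem_sup_left (mem_sup_left (k1 d hd e))),
      mem_sup_left (mem_sup_left (mem_sup_right (k2 _ (by simp) d hd e))),
      mem_sup_left (mem_sup_right (k2 _ (by simp) d hd e)), mem_sup_right (k2 _ (by simp) d hd e)]
  obtain ⟨d, hd, d1, d2⟩ : ∃ d ∈ F, d * y = y * d ∧ d ∉ UU x y := by
    by_contra! hh
    have s1 : ∀ a b, w * a * w⁻¹ = b → (∀ d ∈ F, d * b = b * d → d ∈ UU x y) →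
        ∀ d ∈ F, d * a = a * d → d ∈ UU x y := fun a b e hb d hd e1 =>
      (mem_normalizer_iff.1 wU d).2 (hb _ (cjm (nF wU) hd) (e ▸ comm_cj.2 e1))
    have FU : F ≤ UU x y := h.pr.genE (nF h.xU) (nF h.yU) F3 fun a ha => by
      simp only [List.mem_cons, List.not_mem_nil, or_false] at ha
      rcases ha with rfl | rfl | rfl | rfl
      exacts [k1, hh, s1 _ _ c2 (s1 _ _ c3 hh), s1 _ _ c3 hh]
    refine h.not_three fun a ha => three_mem (D := centralizer (UU x y : Set G))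
      (L := centralizer {x} ⊓ normalizer (UU x y : Set G)) h.x3 h.x1
      (fun u hu => (h.mem_UU.1 hu).1) h.UU_pg UD (fun u hu d hd => hd u hu)
      (fun d hd e => h.cent_UU e hd) (inf_le_right.trans norm_cent) (fun l hl => mz.1 hl.1) ?_
      (fun N a b c => (h2 N a b c).trans FU) (fun N a b c => ?_) a ha
    · have := commutator_mem_commutator (H₁ := centralizer {x} ⊓ normalizer (UU x y : Set G))
        (H₂ := centralizer {x} ⊓ normalizer (UU x y : Set G)) ⟨mz.2 w1, wU⟩ ⟨mz.2 h.yK, h.yU⟩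
      rwa [commutatorElement_def, w3, h.yK, mul_inv_cancel_right] at this
    · refine h.pr.twoE (b ⟨mz.2 rfl, h.xU⟩) (b ⟨mz.2 h.yK, h.yU⟩) c fun e he d hd e1 => ?_
      rw [show 144 = 12 * 12 from rfl, pow_mul]
      rcases List.mem_cons.1 he with rfl | he
      · rw [h.pow12_V0 e1 (DV d (a hd)), one_pow]
      · obtain ⟨p, e2⟩ := h.pr.four he
        obtain ⟨t, ν, h'⟩ := h.chart' p
        rw [h'.pow12_V0 e1 fun v hv => DV d (a hd) v ((e2 v).1 hv), one_pow]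
  obtain ⟨t, ν, h'⟩ := h.chart' h.pr.symm
  have u2 : UU y x ≤ F := h'.UU_le (nF h.xU) (fun v hv => UF (h.mem_UU.2 (h.iu_of_iv hv.symm))) hd
    (k2 y (by simp) d hd d1) fun e => d2 (h.mem_UU.2 (h.iu_of_iv e.symm))
  have s2 : ∀ a b, w * a * w⁻¹ = b → UU b x ≤ F → UU a x ≤ F := fun a b e hb u hu =>
    (mem_normalizer_iff.1 (nF wU) u).2 (hb (by have := UU_cj w hu; rwa [e, c1] at this))
  exact sup_le (sup_le (sup_le UF u2) (s2 _ _ c2 (s2 _ _ c3 u2))) (s2 _ _ c3 u2)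

theorem VV_cent : VV x y ≤ centralizer (UU x y : Set G) := h.VV_eq ▸ map_subtype_le _

theorem VV_norm : normalizer (UU x y : Set G) ≤ normalizer (VV x y : Set G) :=
  h.VV_eq ▸ norm_cent.trans (normalizer_le_normalizer_map_pCore (p := 2) _)

theorem VV_sq : ∀ v ∈ VV x y, v * v = 1 := by
  obtain ⟨w, w1, w2, w3, w4⟩ := h.exists_w
  have wV := h.VV_norm (h.norm_UU (KN w1) fun _ => h.w_norm w4)
  obtain ⟨c1, c2, c3⟩ := w_cyc h.x3 w1 w3
  obtain ⟨t, ν, h'⟩ := h.chart' h.pr.symm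
  have e : VV x y ≤ VV y x := by
    refine sup_le (sup_le (sup_le (le_sup_of_le_left (le_sup_of_le_left le_sup_right))
      (le_sup_of_le_left (le_sup_of_le_left le_sup_left))) (le_sup_of_le_left (le_sup_of_le_right ?_)))
      (le_sup_of_le_right ?_)
    · exact (uu_congr (fun g => by rw [h.yK]) fun g =>
        (iv_mul (mem_zpowers x)).trans (iv_comm.trans (iv_mul (mem_zpowers y)).symm)).le
    · refine (uu_congr (fun g => ?_) fun g => (iv_mul (inv_mem (mem_zpowers x))).trans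
        (iv_comm.trans (iv_mul (inv_mem (mem_zpowers y))).symm)).le
      rw [← mz, ← mz, ← cent_inv, mul_inv_rev, inv_inv]
  have u2 : ∀ u ∈ UU y x, ∀ v ∈ VV x y, u * v = v * u := fun u hu v hv => h'.VV_cent (e hv) u hu
  have s2 : ∀ a b, w * a * w⁻¹ = b → (∀ u ∈ UU b x, ∀ v ∈ VV x y, u * v = v * u) →
      ∀ u ∈ UU a x, ∀ v ∈ VV x y, u * v = v * u := fun a b e hb u hu v hv =>
    comm_cj.1 (hb _ (by have := UU_cj w hu; rwa [e, c1] at this) _ (cjm wV hv))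
  have cc : VV x y ≤ centralizer (VV x y : Set G) := sup_le (sup_le (sup_le
    (fun u hu v hv => (h.VV_cent hv u hu).symm) fun u hu v hv => (u2 u hu v hv).symm)
    fun u hu v hv => (s2 _ _ c2 (s2 _ _ c3 u2) u hu v hv).symm) fun u hu v hv => (s2 _ _ c3 u2 u hu v hv).symm
  let S : Subgroup G := ⟨⟨⟨{u | u ∈ VV x y ∧ u * u = 1}, fun {a b} ha hb => ⟨mul_mem ha.1 hb.1, by
    rw [mul_assoc, ← mul_assoc b, cc ha.1 b hb.1, mul_assoc, hb.2, mul_one, ha.2]⟩⟩, by simp⟩,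
    fun {a} ha => ⟨inv_mem ha.1, by rw [← mul_inv_rev, ha.2, inv_one]⟩⟩
  have k : ∀ a ∈ [y, y * x, y * x⁻¹], ∀ u ∈ UU a x, u * u = 1 := fun a ha u hu =>
    let ⟨_, _, h'⟩ := h.chart' (h.pr.four ha).1; h'.UU_sq hu
  exact fun v hv => ((sup_le (sup_le (sup_le
    (fun u hu => ⟨mem_sup_left (mem_sup_left (mem_sup_left hu)), h.UU_sq hu⟩)
    fun u hu => ⟨mem_sup_left (mem_sup_left (mem_sup_right hu)), k _ (by simp) u hu⟩)
    fun u hu => ⟨mem_sup_left (mem_sup_right hu), k _ (by simp) u hu⟩)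
    fun u hu => ⟨mem_sup_right hu, k _ (by simp) u hu⟩ : VV x y ≤ S) hv).2

/-- the involutions of the charts at `x` and at `y` differ -/
theorem good : ¬ ∀ k, k * y = y * k → k * z = z * k := h.bad h.VV_sq h.VV_norm

theorem z_ne : z ≠ 1 := fun e => h.good fun k _ => by rw [e, mul_one, one_mul]

theorem exists_H : ∃ H : Subgroup G, H ≠ ⊥ ∧ (∀ b ∈ H, b * b = 1) ∧
    (∀ b ∈ H, b * (x * b * x⁻¹) * (x⁻¹ * b * x) = 1) ∧ (∀ u ∈ UU x y, ∀ b ∈ H, u * b = b * u) ∧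
    ∀ k, k * x = x * k → k ∈ normalizer (UU x y : Set G) → k ∈ normalizer (H : Set G) := by
  have xV := h.VV_norm h.xU
  have c : ∀ {a b}, a ∈ VV x y → b ∈ VV x y → a * b = b * a := comm_of_sq h.VV_sq
  refine ⟨⟨⟨⟨{b | b ∈ VV x y ∧ b * (x * b * x⁻¹) * (x⁻¹ * b * x) = 1}, fun {a b} ha hb =>
    ⟨mul_mem ha.1 hb.1, ?_⟩⟩, by simp⟩, fun {a} ha => by
      rwa [inv_eq_of_mul_eq_one_right (h.VV_sq a ha.1)]⟩, ?_, fun b hb => h.VV_sq b hb.1, fun b hb => hb.2,
    fun u hu b hb => h.VV_cent hb.1 u hu, fun k k1 k2 => mem_normalizer_fintype fun b hb =>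
      ⟨cjm (h.VV_norm k2) hb.1, ?_⟩⟩
  · have a1 := cjm xV ha.1
    have a2 := cjm (inv_mem xV) ha.1
    have b1 := cjm xV hb.1
    rw [inv_inv] at a2
    calc _ = a * (b * (x * a * x⁻¹)) * ((x * b * x⁻¹) * (x⁻¹ * a * x)) * (x⁻¹ * b * x) := by group
      _ = a * (x * a * x⁻¹) * (b * (x⁻¹ * a * x)) * (x * b * x⁻¹) * (x⁻¹ * b * x) := by
        rw [c hb.1 a1, c b1 a2]; simp only [mul_assoc]
      _ = a * (x * a * x⁻¹) * (x⁻¹ * a * x) * (b * (x * b * x⁻¹) * (x⁻¹ * b * x)) := by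
        rw [c hb.1 a2]; simp only [mul_assoc]
      _ = 1 := by rw [ha.2, hb.2, mul_one]
  · obtain ⟨t, ν, h'⟩ := h.chart' h.pr.symm
    obtain ⟨u, u1, u2, u3⟩ := h'.lift2 (mI (P := a0)) (Ub_sq (mem_lg rI))
    have m : u ∈ VV x y := mem_sup_left (mem_sup_left (mem_sup_right (h'.mem_UU'.2 ⟨u1, u2, u3 ▸ mem_lg rI⟩)))
    have m1 := cjm xV m
    have m2 := cjm (inv_mem xV) m
    rw [inv_inv] at m2
    refine fun e => absurd (mem_bot.1 (e.le (show u * (x * u * x⁻¹) ∈ _ from ⟨mul_mem m m1, ?_⟩))) fun e1 => ?_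
    · have e2 : x * (x * u * x⁻¹) * x⁻¹ = x⁻¹ * u * x := by
        rw [← mul_assoc, ← mul_assoc, h.xx, mul_assoc _ x⁻¹, ← mul_inv_rev, h.xx, inv_inv]
      rw [← conj_mul, e2, show x⁻¹ * (u * (x * u * x⁻¹)) * x = x⁻¹ * u * x * u by group, mul_assoc u,
        ← mul_assoc (x * u * x⁻¹), h.VV_sq _ m1, one_mul, mul_assoc, ← mul_assoc (x⁻¹ * u * x),
        h.VV_sq _ m2, one_mul, u2]
    · have e2 := congrArg ν e1
      rw [h'.mul _ (KN u1) _ (KN (h'.conj_K (KN h'.yK) u1)), h'.cj (KN h'.yK) (KN u1), u3, h'.μy, h'.one,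
        ← Golay.R.comp24_eq_one_iff rI (Golay.R.conj rI rI)] at e2
      exact absurd e2 (by decide +kernel)
  · have c : Commute k x := k1
    calc _ = k * (b * ((k⁻¹ * x * k) * b * (k⁻¹ * x * k)⁻¹) * ((k⁻¹ * x * k)⁻¹ * b * (k⁻¹ * x * k))) * k⁻¹ := by
          group
      _ = 1 := by rw [c.inv_left.eq, inv_mul_cancel_right, hb.2]; simp

end Ch

/-- generators of the centraliser -/
theorem Tr.gen (h : Tr x z μ) {S : Subgroup G} (hx : x * z ∈ S) (Y : List ℕ) (ws : List (List ℕ))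
    (hY : ∀ i < 3, ∃ a ∈ S, a * x = x * a ∧ μ a = pm (lget Y i))
    (e : (lall okI Y && Nat.beq Y.length 3 && lall (fun P => lany (fun v => Wd.wOK 3 v && Nat.beq (ev24 Y v) P) ws)
      ga22) = true) {k : G} (hk : k * x = x * k) : k ∈ S := by
  let T : Subgroup Pm := ⟨⟨⟨{d | ∃ a ∈ S, a * x = x * a ∧ μ a = d}, by
    rintro _ _ ⟨a, a1, a2, rfl⟩ ⟨b, b1, b2, rfl⟩
    exact ⟨_, mul_mem a1 b1, Commute.mul_left a2 b2, h.mul _ (KN a2) _ (KN b2)⟩⟩, 1, one_mem _, by simp, h.one⟩, by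
    rintro _ ⟨a, a1, a2, rfl⟩
    exact ⟨_, inv_mem a1, Commute.inv_left a2, h.inv (KN a2)⟩⟩
  simp only [Bool.and_eq_true, lall_iff, lany_iff, Nat.beq_eq] at e
  have : Spor.M22 ≤ T := ga22_eq ▸ (closure_le _).2 (by
    rintro _ ⟨j, hj, rfl⟩
    obtain ⟨v, -, e1, e2⟩ := e.2 _ (lget_mem hj)
    change pm (lget ga22 j) ∈ T
    rw [← e2, show pm (ev24 Y v) = _ from (MAut.R.ev (f := fun i => pm (lget Y i))
      (fun i hi => rI (e.1.1 _ (lget_mem (e.1.2 ▸ hi)))) e1).permOf_eq]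
    exact Wd.evG_mem (H := T) hY e1)
  obtain ⟨a, a1, a2, a3⟩ := this (h.memK hk)
  obtain ⟨c, hc, rfl⟩ := h.eq_of (KN hk) (KN a2) a3.symm
  exact mul_mem a1 (zpowers_le.2 hx hc)

theorem fpf_H {H : Subgroup G} (h1 : ∀ b ∈ H, b * b = 1)
    (h2 : ∀ b ∈ H, b * (x * b * x⁻¹) * (x⁻¹ * b * x) = 1) {b : G} (hb : b ∈ H) (e : b * x = x * b) : b = 1 := by
  have := h2 b hb
  rwa [← e, mul_inv_cancel_right, h1 b hb, one_mul, mul_assoc, e, inv_mul_cancel_left] at this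

theorem Ch.exists_gd (h : Ch x y z μ) : ∃ y' w ν H, Gd x y' z w ν H := by
  obtain ⟨H, h0, h1, h2, h3, h4⟩ := h.exists_H
  obtain ⟨w, w1, -, w3, w4⟩ := h.exists_w
  have r : R (pm p31 * pm p32) (comp24 p31 p32) := Golay.R.mul rI rI
  obtain ⟨u, u1, u2, u3⟩ := h.lift3 (mul_mem (mI (P := p31)) (mI (P := p32))) (req (r.pow 3) Golay.R.one)
  obtain ⟨t, ν, h'⟩ := h.chart' (⟨h.x3, u2, h.x1, u1, fun e => absurd
    ((Golay.R.comp24_eq_one_iff rI rI).2 (u3.symm.trans (h.μ_cen (zpowers_le.2 h.x_mem e))))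
    (by decide +kernel)⟩ : Pr x u)
  obtain rfl := h.uniq h'.toTr
  have n : ∀ k P, k * x = x * k → R (μ k) P → lall (fun s => force (conj24 P s) fun t => lmem t UL) UL = true →
      k ∈ normalizer (H : Set G) := fun k P a b c => h4 k a (h.norm_UU (KN a) fun _ => norm_lg b c)
  refine ⟨u, w, ν, H, h', h'.z_ne, h'.good, w1, ?_, h1, h2, fun b hb => (h3 t h.z_U b hb).symm, h4 x rfl h.xU,
    n u _ u1 (u3 ▸ r) (by decide +kernel), h4 w w1 (h.norm_UU (KN w1) fun _ => h.w_norm w4), fun e => ?_⟩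
  · obtain ⟨c, c1, c2, c3⟩ : ∃ c, Commute c x ∧ Commute w c ∧ μ c = pm p32 := w4.elim
      (fun e => ⟨w, w1, rfl, e⟩) fun e => ⟨w⁻¹, Commute.inv_left w1, (Commute.refl w).inv_right, by
        rw [h.inv (KN w1), e, inv_inv]⟩
    obtain ⟨k, hk, rfl⟩ := h.eq_of (KN u1) (KN (Commute.mul_left h.yK c1))
      (by rw [u3, h.mul _ (KN h.yK) _ (KN c1), h.μy, c3])
    rw [← conj_mul, ← conj_mul, w3, c2.eq, h.cen hk w1, mul_inv_cancel_right, mul_inv_cancel_right,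
      mul_assoc y x, ← c1.eq, mul_assoc _ k, h.cen_x hk, ← mul_assoc, ← mul_assoc]
  have hK : ∀ k, k * x = x * k → k ∈ normalizer (H : Set G) := fun k => h.gen
    (h4 _ (h.cen_x (mem_zpowers _)) (mul_mem h.xU (le_normalizer h.z_U)))
    [976414972272889346176013788271477824, 960960620193748010476857983602038304,
      966444548473239392473580684548019232]
    [[2,4,0,5,5,0,3,0,5,5],[5,0,2,0,3,4,0,5,3],[3,0,3,5,3,4,3,4,0,3]] (fun i hi => by
      interval_cases i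
      · obtain ⟨v, v1, v2, v3⟩ := h.lift2 (mI (P := 976414972272889346176013788271477824))
          (req (Golay.R.mul rI rI) Golay.R.one)
        exact ⟨v, centralizer_le_normalizer _ fun b hb => (e v ⟨v1, h.comm23 v1 u1 (u3 ▸ comm_of (v3 ▸ rI) r)
          (n := 1) (by rw [pow_one, pow_two, v2]) u2, v2⟩ b hb).symm, v1, v3⟩
      · obtain ⟨a, a1, a2⟩ := h.surjK (mI (P := 960960620193748010476857983602038304))
        exact ⟨a, n a _ a1 (a2 ▸ rI) (by decide +kernel), a1, a2⟩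
      · obtain ⟨a, a1, a2⟩ := h.surjK (mI (P := 966444548473239392473580684548019232))
        exact ⟨a, n a _ a1 (a2 ▸ rI) (by decide +kernel), a1, a2⟩) (by decide +kernel)
  rcases h.sim (centralizer (H : Set G) ⊓ centralizer {x}) (fun d hd => mz.1 hd.2) (fun k hk d hd =>
    ⟨cjm (norm_cent (hK k hk)) hd.1, mz.2 (h.conj_K (KN hk) (mz.1 hd.2))⟩) with e1 | e1
  · obtain ⟨v, v1, v2⟩ := h.exists_v (P := w0)
    exact absurd ((Golay.R.comp24_eq_one_iff (rI (P := w0)) Golay.R.one).2 (by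
      rw [mul_one, ← v2, h.μ_cen (e1 ⟨fun b hb => (h3 v (h.mem_UU.2 (h.iu_of_iv v1)) b hb).symm, mz.2 v1.1⟩)]))
      (by decide +kernel)
  · exact h0 (eq_bot_iff.2 fun b hb => fpf_H h1 h2 hb ((e1 x rfl).1 b hb))

end CL.J4T
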