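/- Charts at the three other subgroups of order 3. -/
import Cfsg.Agent.SPOR.J4T.QF
import Cfsg.Agent.SPOR.J4T.VL

set_option autoImplicit false
set_option maxRecDepth 100000
set_option linter.unusedSectionVars false
set_option linter.unusedVariables false

namespace CL.J4T

open CL.K CL.LX Cfsg CL.Golay CL.MAut CL.J4 Subgroup
open CL.F24 (mem_zpowers_three)

variable {G : Type*} [Group G] {x y z w a : G} {μ : G → Pm} {H : Subgroup G}

theorem nxt (x3 : x ^ 3 = 1) (w1 : w * x = x * w) (w3 : w * y * w⁻¹ = y * x) (ha : a ∈ [y, y * x, y * x⁻¹]) :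
    w * a * w⁻¹ = a * x ∧ a * x ∈ [y, y * x, y * x⁻¹] := by
  obtain ⟨c1, c2, c3⟩ := w_cyc x3 w1 w3
  simp only [List.mem_cons, List.not_mem_nil, or_false] at ha
  rcases ha with rfl | rfl | rfl
  exacts [⟨w3, by simp⟩, ⟨by rw [c2, inv_three x3, mul_assoc], by simp [mul_assoc, ← inv_three x3]⟩,
    ⟨by rw [c3, inv_mul_cancel_right], by simp⟩]

theorem tri_L (x3 : x ^ 3 = 1) {b : G} (ha : a ∈ [y, y * x, y * x⁻¹]) (hb : b ∈ [y, y * x, y * x⁻¹]) :
    b = a ∨ b = a * x ∨ a = b * x := by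
  simp only [List.mem_cons, List.not_mem_nil, or_false] at ha hb
  rcases ha with rfl | rfl | rfl <;> rcases hb with rfl | rfl | rfl <;> simp [mul_assoc, ← inv_three x3]

theorem cyc_L (x3 : x ^ 3 = 1) {P : G → Prop} (h : ∀ a ∈ [y, y * x, y * x⁻¹], P (a * x) → P a) {b : G}
    (ha : a ∈ [y, y * x, y * x⁻¹]) (hb : b ∈ [y, y * x, y * x⁻¹]) (e : P a) : P b := by
  have h1 := h y (by simp)
  have h2 := h (y * x) (by simp)
  have h3 := h (y * x⁻¹) (by simp)
  rw [mul_assoc, ← inv_three x3] at h2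
  rw [inv_mul_cancel_right] at h3
  simp only [List.mem_cons, List.not_mem_nil, or_false] at ha hb
  rcases ha with rfl | rfl | rfl <;> rcases hb with rfl | rfl | rfl <;> tauto

variable [Finite G]

namespace Gd
variable (h : Gd x y z w μ H) (ha : a ∈ [y, y * x, y * x⁻¹])
include h ha

theorem hz' : ¬ ∀ k, k * a = a * k → k * z = z * k := fun e => h.hz (cyc_L h.x3
  (P := fun a => ∀ k, k * a = a * k → k * z = z * k) (fun a ha e k hk => comm_cj.1 (by
    rw [h.zc w h.wx, mul_inv_cancel_right]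
    exact e _ ((nxt h.x3 h.wx h.wy ha).1 ▸ comm_cj.2 hk))) ha (by simp) e)

theorem chart : ∃ t ν, Ch a x t ν ∧ ν z = pm w0 := by
  obtain ⟨p, e⟩ := h.pr.four ha
  obtain ⟨t, ν, c⟩ := h.chart' p
  obtain ⟨z1, z2, z3⟩ := c.iv_iff.1 ((e z).2 h.iv_z)
  obtain ⟨d, hd, d1, d2⟩ := Wb_w0 z3 fun e1 => (c.two' ((c.ker z (KN z1)).1 e1) z2).elim h.z1
    fun e2 => h.hz' ha (e2 ▸ c.zc)
  exact ⟨t, _, ⟨c.rechart hd, c.yK, c.y3, by rw [c.μy, d1]⟩, d2⟩

theorem aH : a ∈ normalizer (H : Set G) := by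
  simp only [List.mem_cons, List.not_mem_nil, or_false] at ha
  rcases ha with rfl | rfl | rfl
  exacts [h.yH, mul_mem h.yH h.xH, mul_mem h.yH (inv_mem h.xH)]

/-- `V0` is generated by `z` and the involutions of two other charts -/
theorem dec_V {t : G} {ν : G → Pm} (c : Tr a t ν) {v : G} (hv : IV x y v) :
    ∃ u u', v = u * u' ∧ (u = 1 ∨ u = t) ∧ ∀ k, k * (a * x) = a * x * k → k * z = z * k → k * u' = u' * k := by
  obtain ⟨s, s1, -, s3, s4⟩ := h.exists_w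
  obtain ⟨p, e⟩ := h.pr.four ha
  have tV : IV x y t := (e t).1 ⟨c.xz.symm, (c.zc x p.c).symm, c.zz⟩
  obtain ⟨t1, t2, t3⟩ := h.iv_iff.1 tV
  obtain ⟨v1, v2, v3⟩ := h.iv_iff.1 hv
  have c' := c.conj s
  rw [(nxt h.x3 s1 s3 ha).1] at c'
  have r1 := h.conj_K (KN s1) t1
  have key : ∀ u r, (u = 1 ∨ u = t) → (r = 1 ∨ r = s * t * s⁻¹) → u * r ∈ UU x y → μ v = μ (u * r) →
      ∃ u u', v = u * u' ∧ (u = 1 ∨ u = t) ∧
        ∀ k, k * (a * x) = a * x * k → k * z = z * k → k * u' = u' * k := fun u r hu hr m e1 => by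
    have cr : ∀ k, k * (a * x) = a * x * k → Commute k r := fun k hk => by
      rcases hr with rfl | rfl
      exacts [Commute.one_right k, c'.zc k hk]
    rcases h.eq_two v1 (h.mem_UU'.1 m).1 v2 (h.UU_sq m) e1 with e2 | e2
    exacts [⟨u, r, e2, hu, fun k k1 _ => cr k k1⟩,
      ⟨u, r * z, by rw [e2, mul_assoc], hu, fun k k1 k2 => (cr k k1).mul_right k2⟩]
  have tU := h.mem_UU.2 (h.iu_of_iv tV)
  have rU := cjm (h.norm_UU (KN s1) fun _ => h.w_norm s4) tU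
  have t0 : μ t ≠ 1 := fun e1 => by
    rcases h.two' ((h.ker t (KN t1)).1 e1) t2 with e2 | e2
    · obtain ⟨g, rfl⟩ := isConj_iff.1 (h.fus a c.x3 c.x1)
      exact h.z1 (conj_eq_one_iff.1 ((c.uniq (h.toTr.conj g)).trans e2))
    · exact h.hz' ha (e2 ▸ c.zc)
  rcases Wb_gen s4 t3 t0 v3 with e1 | e1 | e1 | e1
  · exact key 1 1 (.inl rfl) (.inl rfl) (by simp) (by rw [e1, mul_one, h.one])
  · exact key t 1 (.inr rfl) (.inl rfl) (by simpa) (by rw [e1, mul_one])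
  · exact key 1 _ (.inl rfl) (.inr rfl) (by rwa [one_mul]) (by rw [e1, one_mul, h.cj (KN s1) (KN t1)])
  · exact key t _ (.inr rfl) (.inr rfl) (mul_mem tU rU)
      (by rw [e1, h.mul _ (KN t1) _ (KN r1), h.cj (KN s1) (KN t1)])

/-- an element of `H` centralising `a` but not `V0` -/
theorem exists_b : ∃ b ∈ H, b * a = a * b ∧ ¬ ∀ v, IV x y v → v * b = b * v := by
  by_contra! e
  have hp : IsPGroup 2 H := fun b => ⟨1, Subtype.ext (by simpa [pow_two] using h.sq b b.2)⟩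
  have : Fact (Nat.Prime 2) := ⟨Nat.prime_two⟩
  obtain ⟨n, hn⟩ := hp.exists_card_eq
  refine h.nc fun v hv b hb => h.pr.genE (S := centralizer {v | IV x y v}) h.xH h.yH
    (fun e => absurd (Nat.prime_three.dvd_of_dvd_pow (hn ▸ e)) (by norm_num)) (fun c hc d hd e1 => ?_) hb v hv
  rcases List.mem_cons.1 hc with rfl | hc
  · exact fpf_H h.sq h.nm hd e1 ▸ one_mem _
  · refine cyc_L h.x3 (P := fun a => ∀ b ∈ H, b * a = a * b → ∀ v, IV x y v → v * b = b * v)
      (fun a ha e b hb e1 v hv => comm_cj.1 (e _ (cjm h.wH hb) ((nxt h.x3 h.wx h.wy ha).1 ▸ comm_cj.2 e1) _ ?_))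
      ha hc e d hd e1
    have := (iv_cj (c := w)).2 hv
    rwa [h.wx, mul_inv_cancel_right, h.wy, iv_comm, iv_mul (mem_zpowers x)] at this

end Gd

end CL.J4T
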