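/- Construction of the largest invariant subgroup. -/
import Cfsg.Agent.SPOR.J4T.QA1
import Cfsg.Agent.SPOR.J4T.QA2

set_option autoImplicit false
set_option maxRecDepth 100000
set_option linter.unusedSectionVars false
set_option linter.unusedVariables false

namespace CL.J4T

open CL.K CL.LX Cfsg CL.Golay CL.MAut CL.J4 Subgroup
open CL.F24 (mem_zpowers_three)

variable {G : Type*} [Group G] {x y z w a t s g : G} {μ ν : G → Pm} {H X : Subgroup G}

/-- the conjugates under `V0` of the fixed points of `a` on `H` -/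
def Sa (x y a : G) (H : Subgroup G) (s : G) : Prop :=
  ∃ v b, IV x y v ∧ b ∈ H ∧ b * a = a * b ∧ s = v * b * v⁻¹

def Sg (x y z : G) (H : Subgroup G) : Set G := {s | s = z ∨ ∃ a ∈ [y, y * x, y * x⁻¹], Sa x y a H s}

theorem cube_eq (x3 : x ^ 3 = 1) (b : G) : (b * x) ^ 3 = b * (x * b * x⁻¹) * (x⁻¹ * b * x) := by
  rw [mul_assoc b, mul_assoc (x * b), ← mul_assoc x⁻¹, ← mul_assoc x⁻¹, ← mul_inv_rev, ← inv_three x3, inv_inv,
    pow_three]; simp only [mul_assoc]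

variable [Finite G]

theorem norm_clos {S : Set G} (h : ∀ s ∈ S, g * s * g⁻¹ ∈ S) : g ∈ normalizer (closure S : Set G) :=
  mem_normalizer_fintype fun _ hu => ((closure_le ((closure S).comap (MulAut.conj g).toMonoidHom)).2
    fun _ e => subset_closure (h _ e)) hu

theorem eq_one_of_three {K : Type*} [Group K] {k : K} {n : ℕ} (hn : ¬ 3 ∣ n) (h1 : k ^ n = 1) (h3 : k ^ 3 = 1) :
    k = 1 := by
  have := (pow_gcd_eq_one (a := k) (m := 3) (n := n)).2 ⟨h3, h1⟩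
  rwa [Nat.Coprime.gcd_eq_one (Nat.prime_three.coprime_iff_not_dvd.2 hn), pow_one] at this

namespace Gd
variable (h : Gd x y z w μ H)
include h

theorem Sa_z (e : Sa x y a H s) : s * z = z * s := by
  obtain ⟨v, b, hv, hb, -, rfl⟩ := e
  exact ((show Commute v z from h.zc v hv.1).mul_left (h.Hz b hb)).mul_left (Commute.inv_left (h.zc v hv.1))

theorem Sa_cj (e : Sa x y a H s) (g1 : g * x = x * g) (g2 : g * y = y * g) (g3 : g * a = a * g)
    (g4 : g ∈ normalizer (H : Set G)) : Sa x y a H (g * s * g⁻¹) := by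
  obtain ⟨v, b, hv, hb, e, rfl⟩ := e
  refine ⟨g * v * g⁻¹, g * b * g⁻¹, ?_, cjm g4 hb, ?_, by group⟩
  · have := (iv_cj (c := g)).2 hv
    rwa [g1, g2, mul_inv_cancel_right, mul_inv_cancel_right] at this
  · have := (comm_cj (g := g)).2 e
    rwa [g3, mul_inv_cancel_right] at this

theorem Sa_comm (ha : a ∈ [y, y * x, y * x⁻¹]) {r : G} (e : Sa x y a H s) (e' : Sa x y (a * x) H r) :
    s * r = r * s := by
  obtain ⟨v, b, hv, hb, e, rfl⟩ := e
  obtain ⟨v', b', hv', hb', e', rfl⟩ := e'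
  obtain ⟨t, ν, c, -⟩ := h.chart ha
  obtain ⟨u, u', e1, hu, e2⟩ := h.dec_V ha c.toTr
    (h.mem_V0.1 (mul_mem (inv_mem (h.mem_V0.2 hv)) (h.mem_V0.2 hv')))
  have c1 : u * b * u⁻¹ = b := mul_inv_eq_iff_eq_mul.2 (by
    rcases hu with rfl | rfl
    exacts [by simp, (c.zc b e).symm])
  rw [inv_mul_eq_iff_eq_mul.1 e1, show v * (u * u') * b' * (v * (u * u'))⁻¹ = v * (u * (u' * b' * u'⁻¹) * u⁻¹) * v⁻¹
    by group, comm_cj, ← e2 b' e' (h.Hz b' hb'), mul_inv_cancel_right, ← c1, comm_cj]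
  exact comm_of_sq h.sq hb hb'

section
variable (ha : a ∈ [y, y * x, y * x⁻¹]) (c : Ch a x t ν) (cz : ν z = pm w0)
include ha c cz

theorem img (g1 : g * a = a * g) (g2 : g * z = z * g) :
    ν g ∈ Spor.M22 ∧ ν g * pm w0 = pm w0 * ν g ∧ (ν g * pm p31) ^ 3 = ν ((g * x) ^ 3) := by
  have az := (h.zc a (h.pr.four ha).1.symm.c).symm
  exact ⟨c.memK g1, by rw [← cz, ← c.mul _ (KN g1) _ (KN az), g2, c.mul _ (KN az) _ (KN g1)],
    by rw [c.pow (mul_mem (KN g1) (KN c.yK)), c.mul _ (KN g1) _ (KN c.yK), c.μy]⟩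

theorem img_H {b : G} (hb : b ∈ H) (e : b * a = a * b) : ν b ∈ Rb ∧ (ν b ∈ Ub ∨ ∃ P ∈ TL, R (ν b) P) :=
  let ⟨i1, i2, i3⟩ := h.img ha c cz e (h.Hz b hb)
  factT i1 i2 (by rw [← c.mul _ (KN e) _ (KN e), h.sq b hb, c.one]) (by rw [i3, cube_eq h.x3, h.nm b hb, c.one])

theorem img_S (e : Sa x y a H s) : s * a = a * s ∧ ν s ∈ Rb := by
  obtain ⟨v, b, hv, hb, e, rfl⟩ := e
  obtain ⟨v1, -, v3⟩ := c.iv_iff.1 (((h.pr.four ha).2 v).2 hv)
  exact ⟨c.conj_K (KN v1) e, by rw [c.cj (KN v1) (KN e)]; exact Rb_W v3 (h.img_H ha c cz hb e).1⟩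

theorem cover_S {d : Pm} (hd : d ∈ Rb) : ∃ q ∈ closure (Sg x y z H), q * a = a * q ∧ ν q = d := by
  obtain ⟨p, iv⟩ := h.pr.four ha
  obtain ⟨b, hb, e, e1⟩ := h.exists_b ha
  obtain ⟨P, hP, r⟩ := (h.img_H ha c cz hb e).2.resolve_left fun m => e1 fun v hv =>
    ((c.iu_iff.2 ⟨e, h.sq b hb, m⟩).2.2 v ((iv v).2 hv)).symm
  obtain ⟨v, hv, v1⟩ := c.exists_v (P := w1)
  let B : Subgroup Pm := ⟨⟨⟨{d | ∃ q ∈ closure (Sg x y z H), q * a = a * q ∧ ν q = d}, by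
    rintro _ _ ⟨a, a1, a2, rfl⟩ ⟨b, b1, b2, rfl⟩
    exact ⟨_, mul_mem a1 b1, Commute.mul_left a2 b2, c.mul _ (KN a2) _ (KN b2)⟩⟩, 1, one_mem _, by simp, c.one⟩, by
    rintro _ ⟨a, a1, a2, rfl⟩
    exact ⟨_, inv_mem a1, Commute.inv_left a2, c.inv (KN a2)⟩⟩
  have key : ∀ b ∈ H, b * a = a * b → ν b ∈ B ∧ pm w1 * ν b * (pm w1)⁻¹ ∈ B := fun b hb e =>
    ⟨⟨b, subset_closure (.inr ⟨a, ha, 1, b, ⟨by simp, by simp, by simp⟩, hb, e, by simp⟩), e, rfl⟩,
      _, subset_closure (.inr ⟨a, ha, v, b, (iv v).1 hv, hb, e, rfl⟩), c.conj_K (KN hv.1) e,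
        by rw [c.cj (KN hv.1) (KN e), v1]⟩
  refine cover (B := B) hP r ⟨z, subset_closure (.inl rfl), (h.zc a p.symm.c).symm, cz⟩ ?_ hd
  rintro _ (rfl | rfl)
  · exact key b hb e
  · rw [← c.μy, ← c.cj (KN c.yK) (KN e)]
    exact key _ (cjm h.xH hb) (c.conj_K (KN c.yK) e)

end

theorem Sa_same (ha : a ∈ [y, y * x, y * x⁻¹]) {r : G} (e : Sa x y a H s) (e' : Sa x y a H r) :
    s * r = r * s ∨ s * r = r * s * z := by
  obtain ⟨t, ν, c, cz⟩ := h.chart ha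
  obtain ⟨s1, s2⟩ := h.img_S ha c cz e
  obtain ⟨r1, r2⟩ := h.img_S ha c cz e'
  obtain ⟨b, hb, b1, b2⟩ := h.exists_b (nxt h.x3 h.wx h.wy ha).2
  have bS : Sa x y (a * x) H b := ⟨1, b, ⟨by simp, by simp, by simp⟩, hb, b1, by simp⟩
  have cs : Commute s b := h.Sa_comm ha e bS
  have cr : Commute r b := h.Sa_comm ha e' bS
  have az := (h.zc a (h.pr.four ha).1.symm.c).symm
  have key : ∀ l, l * a = a * l → Commute l b → ν (s * r) = ν (r * s * l) → s * r = r * s * l := fun l l1 l2 e1 => by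
    obtain ⟨k, hk, e2⟩ := c.eq_of (KN (Commute.mul_left s1 r1))
      (KN ((Commute.mul_left r1 s1).mul_left l1)) e1
    have ck : Commute k b := by
      rw [← inv_mul_eq_iff_eq_mul] at e2
      exact e2 ▸ ((cr.mul_left cs).mul_left l2).inv_left.mul_left (cs.mul_left cr)
    have k3 : k ^ 3 = 1 := (c.two' (pow_mem hk 3) (by rw [← pow_add, c.six hk])).resolve_right fun e3 =>
      b2 fun v hv => by
        obtain ⟨u, u', rfl, hu, e4⟩ := h.dec_V ha c.toTr hv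
        refine Commute.mul_left ?_ (e4 b b1 (h.Hz b hb)).symm
        rcases hu with rfl | rfl
        exacts [Commute.one_left b, e3 ▸ ck.pow_left 3]
    have na : ¬ Commute a b := fun e3 => b2 fun v _ => by
      rw [fpf_H h.sq h.nm hb (by simpa using (e3.inv_left.mul_left b1.symm).symm.eq), mul_one, one_mul]
    rcases mem_zpowers_three c.x3 (c.three hk k3) with rfl | rfl | rfl
    · rwa [mul_one] at e2
    · exact absurd ck na
    · exact absurd (inv_inv_three c.x3 ▸ ck.mul_left ck) na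
  rcases Rb_comm s2 r2 with e1 | e1
  · exact .inl ((key 1 (by simp) (Commute.one_left b) (by
      rw [mul_one, c.mul _ (KN s1) _ (KN r1), c.mul _ (KN r1) _ (KN s1), e1])).trans (mul_one _))
  · exact .inr (key z az (h.Hz b hb).symm (by
      rw [c.mul _ (mul_mem (KN r1) (KN s1)) _ (KN az), c.mul _ (KN s1) _ (KN r1), c.mul _ (KN r1) _ (KN s1), e1, cz]))

theorem Sg_cj (g1 : g * x = x * g) (g2 : g * y = y * g) (g4 : g ∈ normalizer (H : Set G)) :
    ∀ s ∈ Sg x y z H, g * s * g⁻¹ ∈ Sg x y z H := by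
  rintro s (rfl | ⟨a, ha, e⟩)
  · exact .inl (mul_inv_eq_iff_eq_mul.2 (h.zc g g1))
  · refine .inr ⟨a, ha, h.Sa_cj e g1 g2 ?_ g4⟩
    simp only [List.mem_cons, List.not_mem_nil, or_false] at ha
    rcases ha with rfl | rfl | rfl
    exacts [g2, Commute.mul_right g2 g1, Commute.mul_right g2 (Commute.inv_right g1)]

theorem clos_S {q : G} (hq : q ∈ closure (Sg x y z H)) :
    q * z = z * q ∧ (q * q = 1 ∨ q * q = z) ∧ ((q * x) ^ 3 = 1 ∨ (q * x) ^ 3 = z) := by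
  have hz : ∀ s ∈ Sg x y z H, s * z = z * s := by
    rintro s (rfl | ⟨a, ha, e⟩)
    exacts [rfl, h.Sa_z e]
  refine clos h.x3 h.zz h.xz hz (h.Sg_cj rfl h.yK.symm h.xH) ?_ ?_ ?_ hq
  · rintro s (rfl | ⟨a, ha, v, b, hv, hb, -, rfl⟩)
    exacts [h.zz, sq_cj (h.sq b hb)]
  · rintro s (rfl | ⟨a, ha, v, b, hv, hb, -, rfl⟩)
    · exact .inr (by rw [(show Commute s x from h.xz.symm).mul_pow, h.x3, mul_one, pow_three, h.zz, mul_one])
    · exact .inl (by
        rw [mul_assoc _ v⁻¹, (Commute.inv_left hv.1).eq, ← mul_assoc, mul_assoc v]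
        exact pow_cj (by rw [cube_eq h.x3, h.nm b hb]))
  · rintro s (rfl | ⟨a, ha, e⟩) r hr
    · exact .inl (hz r hr).symm
    rcases hr with rfl | ⟨b, hb, e'⟩
    · exact .inl (h.Sa_z e)
    rcases tri_L h.x3 ha hb with rfl | rfl | rfl
    exacts [h.Sa_same ha e e', .inl (h.Sa_comm ha e e'), .inl (h.Sa_comm hb e' e).symm]

theorem pow4_S {q : G} (hq : q ∈ closure (Sg x y z H)) : q ^ 2 ^ 2 = 1 := by
  rw [show 2 ^ 2 = 2 * 2 from rfl, pow_mul, pow_two, pow_two]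
  rcases (h.clos_S hq).2.1 with e | e <;> rw [e]
  exacts [mul_one _, h.zz]

theorem mx_S : Mx x y z (closure (Sg x y z H)) := by
  have : Fact (Nat.Prime 2) := ⟨Nat.prime_two⟩
  obtain ⟨n, hn⟩ := IsPGroup.exists_card_eq (p := 2) (G := closure (Sg x y z H)) fun q =>
    ⟨2, Subtype.ext (h.pow4_S q.2)⟩
  refine ⟨subset_closure (.inl rfl), fun g hg => (h.clos_S hg).1, norm_clos (h.Sg_cj rfl h.yK.symm h.xH),
    norm_clos (h.Sg_cj h.yK rfl h.yH), fun e => absurd (Nat.prime_three.dvd_of_dvd_pow (hn ▸ e)) (by norm_num),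
    fun q hq e => ?_⟩
  obtain ⟨-, e1, e2⟩ := h.clos_S hq
  rw [(show Commute q x from e).mul_pow, h.x3, mul_one, pow_three] at e2
  rcases e1 with e1 | e1 <;> rw [e1] at e2
  · rwa [mul_one] at e2
  · rwa [mul_eq_one_iff_eq_inv, inv_eq_of_mul_eq_one_right h.zz, mul_eq_right, or_comm] at e2

theorem loc (ha : a ∈ [y, y * x, y * x⁻¹]) (c : Ch a x t ν) (cz : ν z = pm w0) (hX : Mx x y z X) (hg : g ∈ X)
    (e : g * a = a * g) : g ∈ closure (Sg x y z H) ∧ ν g ∈ Rb := by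
  obtain ⟨i1, i2, i3⟩ := h.img ha c cz e (hX.Xz g hg)
  have n1 := hX.norm h.x3 h.x1 h.xz hg
  have pX : ∀ g ∈ X, g ^ Nat.card X = 1 := fun g hg => congrArg Subtype.val (pow_card_eq_one' (x := (⟨g, hg⟩ : X)))
  have m : ν g ∈ Rb := (factC i1 i2 (n1.imp (fun e => by rw [i3, e, c.one]) fun e => by rw [i3, e, cz])).resolve_right
    fun e1 => e1.2 (eq_one_of_three hX.n3 (by
      rw [← c.mul _ (KN e) _ (KN e), ← c.pow (mul_mem (KN e) (KN e)), pX _ (mul_mem hg hg), c.one]) e1.1)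
  obtain ⟨r, r1, r2, r3⟩ := h.cover_S ha c cz m
  obtain ⟨q1, -, q2⟩ := h.clos_S r1
  have e1 := (h.img ha c cz r2 q1).2.2
  rw [r3, i3] at e1
  have z0 : ν z ≠ ν 1 := by
    rw [cz, c.one, ← mul_one (pm w0), Ne, ← (rI (P := w0)).comp24_eq_one_iff Golay.R.one]; decide +kernel
  have e2 : (g * x) ^ 3 = (r * x) ^ 3 := by
    rcases n1 with e2 | e2 <;> rcases q2 with e3 | e3 <;> rw [e2, e3] at e1 ⊢
    exacts [absurd e1.symm z0, absurd e1 z0]
  obtain ⟨k, hk, rfl⟩ := c.eq_of (KN e) (KN r2) r3.symm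
  rw [mul_assoc, ← c.cen hk c.yK, ← mul_assoc, (show Commute _ k from c.cen hk (Commute.mul_left r2 c.yK)).mul_pow,
    mul_eq_left] at e2
  have e3 := pow_mem hg (2 ^ 2)
  rw [(show Commute _ k from c.cen hk r2).mul_pow, h.pow4_S r1, one_mul, show 2 ^ 2 = 3 + 1 from rfl, pow_succ, e2,
    one_mul] at e3
  exact ⟨by rwa [eq_one_of_three hX.n3 (pX k e3) e2, mul_one], m⟩

theorem exists_Q : ∃ Q, QQ x y z Q := by
  have hQ := h.mx_S
  refine ⟨_, hQ, fun X hX => h.pr.genE hX.xN hX.yN hX.n3 fun a ha d hd e => ?_, fun q hq => (h.clos_S hq).2.1,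
    fun a ha => ?_, fun g hg e => ?_, ?_⟩
  · rcases List.mem_cons.1 ha with rfl | ha
    · rcases hX.fpf d hd e with rfl | rfl
      exacts [one_mem _, hQ.zX]
    · obtain ⟨t, ν, c, cz⟩ := h.chart ha
      exact (h.loc ha c cz hX hd e).1
  · obtain ⟨t, ν, c, cz⟩ := h.chart ha
    refine card_Rb ▸ Nat.card_le_card_of_injective
      (fun g => (⟨ν g, (h.loc ha c cz hQ g.2.1 (mz.1 g.2.2)).2⟩ : Rb)) fun g l e => Subtype.ext ?_
    obtain ⟨k, hk, e1⟩ := c.eq_of (KN (mz.1 g.2.2)) (KN (mz.1 l.2.2)) (congrArg Subtype.val e)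
    rcases hQ.fpf k ((mul_mem_cancel_left (mem_inf.1 l.2).1).1 (e1 ▸ (mem_inf.1 g.2).1)) (c.cen hk c.yK).symm
      with rfl | rfl
    · rwa [mul_one] at e1
    · exact absurd (((rI (P := w0)).comp24_eq_one_iff Golay.R.one).2 (by rw [mul_one, ← cz, c.μ_cen hk]))
        (by decide +kernel)
  · have hy : y ∈ [y, y * x, y * x⁻¹] := by simp
    obtain ⟨t, ν, c, cz⟩ := h.chart hy
    have yz := (h.zc y h.yK).symm
    obtain ⟨d, hd, e1⟩ := factN (c.mem g hg) (by rw [← cz, ← c.mul _ hg _ (KN yz), e, c.mul _ (KN yz) _ hg])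
    obtain ⟨r, r1, r2, rfl⟩ := h.cover_S hy c cz hd
    have m := mul_mem (KN r2) hg
    have uz : r * g * z * (r * g)⁻¹ = z :=
      mul_inv_eq_iff_eq_mul.2 (Commute.mul_left (hQ.Xz r r1) e)
    have nz : ∀ a ∈ [y, y * x, y * x⁻¹], ∀ l, l = a ∨ l = a⁻¹ → r * g * x * (r * g)⁻¹ ≠ l := fun a ha l hl e2 =>
      h.hz' ha fun k hk => by
        have := (h.toTr.conj (r * g)).zc k
        rw [uz, e2] at this
        refine this ?_
        rcases hl with rfl | rfl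
        exacts [hk, Commute.inv_right hk]
    rw [← c.mul _ (KN r2) _ hg, ← c.μy, ← c.cj m (KN c.yK), ← c.inv (KN c.yK)] at e1
    have cm : Commute y x := h.yK
    refine ⟨r, r1, Nm_of ?_⟩
    rcases e1 with e1 | e1
    · obtain ⟨k, hk, e2⟩ := c.eq_three (c.conj_K m c.yK) c.yK (pow_cj h.x3) h.x3 e1
      rcases mem_zpowers_three h.y3 hk with rfl | rfl | rfl
      · rw [e2, mul_one]; exact mem_zpowers x
      · exact absurd e2 (nz (k * x) (by simp) _ (.inl cm.eq.symm))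
      · exact absurd e2 (nz (y * x⁻¹) (by simp) _ (.inr (by rw [mul_inv_rev, inv_inv, inv_three h.y3])))
    · obtain ⟨k, hk, e2⟩ := c.eq_three (c.conj_K m c.yK) c.pr.inv.c (pow_cj h.x3) c.pr.inv.b3 e1
      rcases mem_zpowers_three h.y3 hk with rfl | rfl | rfl
      · rw [e2, mul_one]; exact inv_mem (mem_zpowers x)
      · exact absurd e2 (nz (k * x⁻¹) (by simp) _ (.inl cm.inv_right.eq.symm))
      · exact absurd e2 (nz (y * x) (by simp) _ (.inr (by rw [mul_inv_rev, inv_three h.y3])))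
  · obtain ⟨b, hb, b1, b2⟩ := h.exists_b (a := y) (by simp)
    exact ⟨b, subset_closure (.inr ⟨y, by simp, 1, b, ⟨by simp, by simp, by simp⟩, hb, b1, by simp⟩),
      fun e => b2 fun v _ => by rw [e, mul_one, one_mul], fun e => b2 fun v hv => e ▸ h.zc v hv.1⟩

end Gd

end CL.J4T
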