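/- An elementary abelian subgroup of order `2 ^ 12` with a strongly 3-embedded normaliser is strongly closed. -/
import Mathlib
import Cfsg.Agent.TECH.SylIn

set_option autoImplicit false

namespace CL.J4T
open Subgroup CL.MSS

section
variable {X : Type*} [Group X]

/-- the hypotheses -/
structure Hs (A : Subgroup X) (x : X) : Prop where
  hA : ∀ a ∈ A, a * a = 1
  cA : Nat.card A = 2 ^ 12
  x3 : x ^ 3 = 1
  xA : x ∈ normalizer (A : Set X)
  fpf : ∀ a ∈ A, a * x = x * a → a = 1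
  out : ∀ a ∈ normalizer (A : Set X), a * x * a⁻¹ * x⁻¹ ∈ A ∨ a * x * a⁻¹ * x ∈ A
  se : ∀ g s : X, s ∈ normalizer (A : Set X) → s ^ 3 = 1 → s ≠ 1 →
    g * s * g⁻¹ ∈ normalizer (A : Set X) → g ∈ normalizer (A : Set X)
  inn : ∀ a ∈ normalizer (A : Set X), a * a = 1 → a * x * a⁻¹ * x⁻¹ ∈ A →
    ∃ s ∈ normalizer (A : Set X), s ^ 3 = 1 ∧ s ≠ 1 ∧ s * a = a * s
  fix : ∀ s ∈ normalizer (A : Set X), s ^ 3 = 1 → s ≠ 1 → Nat.card (A ⊓ centralizer {s} : Subgroup X) ≤ 16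

theorem exists_cen [Finite X] {p : ℕ} [Fact p.Prime] {S : Subgroup X} (hS : IsPGroup p S) {s : X} (hs : s ∈ S)
    (s1 : s ≠ 1) : ∃ t ∈ S, t ^ p = 1 ∧ t ≠ 1 ∧ ∀ u ∈ S, u * t = t * u := by
  have : Nontrivial S := ⟨⟨s, hs⟩, 1, fun e => s1 (congrArg Subtype.val e)⟩
  have := hS.center_nontrivial
  obtain ⟨n, hn, e⟩ := (hS.to_subgroup (center S)).nontrivial_iff_card.1 this
  obtain ⟨t, ht⟩ := exists_prime_orderOf_dvd_card' (G := center S) p (e ▸ dvd_pow_self p hn.ne')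
  rw [← orderOf_coe, ← orderOf_coe] at ht
  refine ⟨t, t.1.2, ht ▸ pow_orderOf_eq_one _, fun e => ?_, fun u hu =>
    congrArg Subtype.val (mem_center_iff.1 t.2 ⟨u, hu⟩)⟩
  rw [e, orderOf_one] at ht
  exact (Fact.out : p.Prime).one_lt.ne ht

theorem pg_zpowers {p : ℕ} {s : X} (h : s ^ p = 1) : IsPGroup p (zpowers s) := by
  rintro ⟨_, k, rfl⟩
  exact ⟨1, Subtype.ext (show (s ^ k) ^ p ^ 1 = 1 by
    rw [pow_one, ← zpow_natCast, ← zpow_mul, mul_comm, zpow_mul, zpow_natCast, h, one_zpow])⟩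

namespace Hs

variable {A : Subgroup X} {x : X} (h : Hs A x)
include h

theorem cj (g : X) : Hs (g •ᶜ A) (g * x * g⁻¹) := by
  have N : ∀ {a}, a ∈ normalizer ((g •ᶜ A : Subgroup X) : Set X) ↔ g⁻¹ * a * g ∈ normalizer (A : Set X) := by
    intro a; rw [← cj_normalizer, mem_cj]
  have P : ∀ {s : X}, s ^ 3 = 1 → (g⁻¹ * s * g) ^ 3 = 1 := fun {s} e => by
    simpa [e] using conj_pow (i := 3) (a := g⁻¹) (b := s)
  have O : ∀ {s : X}, s ≠ 1 → g⁻¹ * s * g ≠ 1 := fun s1 e => s1 (conj_eq_one_iff.1 (by rwa [inv_inv]))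
  refine ⟨?_, (card_cj g A).trans h.cA, by rw [conj_pow, h.x3]; simp, N.2 (by simpa [mul_assoc] using h.xA), ?_,
    fun a ha => ?_, fun u s hs s3 s1 k => N.2 (h.se _ _ (N.1 hs) (P s3) (O s1) ?_), fun a ha a2 k => ?_,
    fun s hs s3 s1 => ?_⟩
  · rintro _ ⟨a, ha, rfl⟩
    exact (map_mul _ a a).symm.trans (by rw [h.hA a ha, map_one])
  · rintro _ ⟨a, ha, rfl⟩ e
    rw [h.fpf a ha ((MulAut.conj g).injective (by rw [map_mul, map_mul]; exact e)), map_one]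
  · refine (h.out _ (N.1 ha)).imp (fun k => mem_cj.2 ?_) fun k => mem_cj.2 ?_ <;> convert k using 1 <;> group
  · convert N.1 k using 1; group
  · obtain ⟨s, hs, s3, s1, e⟩ := h.inn _ (N.1 ha) (by simp [mul_assoc, ← mul_assoc a, a2])
      (by convert mem_cj.1 k using 1; group)
    refine ⟨g * s * g⁻¹, N.2 (by simpa [mul_assoc] using hs), by rw [conj_pow, s3]; simp, by simpa using s1, ?_⟩
    calc _ = g * (s * (g⁻¹ * a * g)) * g⁻¹ := by group
      _ = _ := by rw [e]; group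
  · have := h.fix _ (N.1 hs) (P s3) (O s1)
    rwa [← card_cj g, cj_inf, cj_centralizer_singleton, show g * (g⁻¹ * s * g) * g⁻¹ = s by group] at this

theorem inv {a : X} (ha : a ∈ A) : a⁻¹ = a := inv_eq_of_mul_eq_one_right (h.hA a ha)

theorem comm {a b : X} (ha : a ∈ A) (hb : b ∈ A) : a * b = b * a := by
  rw [← h.inv (mul_mem ha hb), mul_inv_rev, h.inv ha, h.inv hb]

theorem pg : IsPGroup 2 A := IsPGroup.of_card h.cA

theorem x1 : x ≠ 1 := by
  rintro rfl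
  have := h.cA
  rw [(eq_bot_iff_forall A).2 fun a ha => h.fpf a ha (by simp), card_bot] at this
  omega

theorem cw {a q : X} (aL : a ∈ normalizer (A : Set X)) (a2 : a * a = 1) (hq : q ∈ A) :
    q * (a * q * a⁻¹) * a = a * (q * (a * q * a⁻¹)) := by
  nth_rw 2 [h.comm hq ((mem_normalizer_iff.1 aL q).1 hq)]
  rw [inv_eq_of_mul_eq_one_right a2]
  simp only [← mul_assoc, a2, one_mul, mul_assoc _ a a, mul_one]

variable [Finite X]

theorem three {S : Subgroup X} (hS : IsPGroup 3 S) {s : X} (hs : s ∈ S) (sL : s ∈ normalizer (A : Set X))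
    (s3 : s ^ 3 = 1) (s1 : s ≠ 1) : S ≤ normalizer (A : Set X) := by
  have : Fact (Nat.Prime 3) := ⟨Nat.prime_three⟩
  obtain ⟨t, ht, t3, t1, tc⟩ := exists_cen hS hs s1
  have tL := h.se t s sL s3 s1 (by rwa [← tc s hs, mul_inv_cancel_right])
  exact fun u hu => h.se u t tL t3 t1 (by rwa [tc u hu, mul_inv_cancel_right])

theorem one {g b s : X} (hb : b ∈ g •ᶜ A) (sL : s ∈ normalizer (A : Set X)) (s3 : s ^ 3 = 1) (s1 : s ≠ 1)
    (e : s * b = b * s) : b ∈ A := by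
  have : Fact (Nat.Prime 3) := ⟨Nat.prime_three⟩
  replace hb := mem_cj'.1 hb
  obtain ⟨b, hb, rfl⟩ := hb
  obtain ⟨s', sL', s3', s1', e'⟩ := h.inn b (le_normalizer hb) (h.hA b hb) (by
    rw [mul_assoc, mul_assoc, ← mul_assoc x]; exact mul_mem hb ((mem_normalizer_iff.1 h.xA _).1 (inv_mem hb)))
  obtain ⟨S, hS, le⟩ := exists_sylIn_ge (pg_zpowers s3) (zpowers_le.2 (mem_centralizer_singleton_iff.2 e))
  obtain ⟨c, hc, k⟩ := hS.exists_conj_le (pg_zpowers (s := g * s' * g⁻¹) (by rw [conj_pow, s3']; simp))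
    (zpowers_le.2 (mem_centralizer_singleton_iff.2 (by rw [conj_mul, conj_mul, e'])))
  have := h.se (c * g) s' sL' s3' s1' (by
    convert h.three hS.pgroup (le (mem_zpowers s)) sL s3 s1 (k (conj_mem_cj (mem_zpowers _))) using 1; group)
  rw [← mul_inv_eq_iff_eq_mul.2 (mem_centralizer_singleton_iff.1 hc)]
  convert (mem_normalizer_iff.1 this b).1 hb using 1; group

theorem inner {g b : X} (hb : b ∈ g •ᶜ A) (bL : b ∈ normalizer (A : Set X)) (k : b * x * b⁻¹ * x⁻¹ ∈ A) : b ∈ A :=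
  let ⟨_, sL, s3, s1, e⟩ := h.inn b bL ((h.cj g).hA b hb) k
  h.one hb sL s3 s1 e

theorem two {g b : X} (hb : b ∈ g •ᶜ A) (bL : b ∈ normalizer (A : Set X)) (k : b ∉ A) : b * x * b⁻¹ * x ∈ A :=
  (h.out b bL).resolve_left fun l => k (h.inner hb bL l)

theorem half {g : X} {D : Subgroup X} (le : D ≤ g •ᶜ A) (DL : D ≤ normalizer (A : Set X)) :
    Nat.card D ≤ 2 * Nat.card (D ⊓ A : Subgroup X) := by
  by_cases hD : D ≤ A
  · rw [inf_eq_left.2 hD]; omega
  obtain ⟨a, ha, a0⟩ := SetLike.not_le_iff_exists.1 hD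
  have : (D : Set X) ⊆ (D ⊓ A : Subgroup X) ∪ (a⁻¹ * ·) '' (D ⊓ A : Subgroup X) := fun d hd => by
    by_cases k : d ∈ A
    · exact .inl ⟨hd, k⟩
    refine .inr ⟨a * d, ⟨mul_mem ha hd, h.inner (le (mul_mem ha hd)) (DL (mul_mem ha hd)) ?_⟩, inv_mul_cancel_left a d⟩
    convert mul_mem ((mem_normalizer_iff.1 (DL ha) _).1 (h.two (le hd) (DL hd) k))
      ((mem_normalizer_iff.1 h.xA _).1 (inv_mem (h.two (le ha) (DL ha) a0))) using 1
    group
  exact (Set.ncard_le_ncard this).trans ((Set.ncard_union_le _ _).trans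
    ((Nat.add_le_add_left Set.ncard_image_le _).trans_eq (two_mul _).symm))

theorem outer {a : X} (aL : a ∈ normalizer (A : Set X)) (a2 : a * a = 1) (k : a * x * a⁻¹ * x ∈ A) :
    Nat.card (A ⊓ centralizer {a} : Subgroup X) = 64 ∧ ∀ w ∈ A, w * a = a * w → ∃ q ∈ A, w = q * a * q * a := by
  have ai : a⁻¹ = a := inv_eq_of_mul_eq_one_right a2
  have nA := fun v (hv : v ∈ A) => (mem_normalizer_iff.1 aL v).1 hv
  have nx := fun v (hv : v ∈ A) => (mem_normalizer_iff.1 h.xA v).1 hv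
  have nx' := fun v (hv : v ∈ A) => (mem_normalizer_iff''.1 h.xA v).1 hv
  have ti : ∀ v ∈ A, v * a = a * v → x * v * x⁻¹ * a = a * (x * v * x⁻¹) → v = 1 := fun v hv e1 e2 => by
    have e3 : x * v * x⁻¹ = x⁻¹ * v * x := by
      have := h.comm k (nx' v hv)
      calc _ = a * (x * v * x⁻¹) * a⁻¹ := by rw [← e2, mul_inv_cancel_right]
        _ = a * x * a⁻¹ * (a * v * a⁻¹) * (a * x * a⁻¹)⁻¹ := by group
        _ = a * x * a⁻¹ * x * (x⁻¹ * v * x) * (a * x * a⁻¹ * x)⁻¹ := by rw [← e1]; group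
        _ = _ := by rw [this, mul_inv_cancel_right]
    have e4 : Commute v (x ^ 2) := by
      rw [commute_iff_eq, sq]
      calc _ = x * (x⁻¹ * v * x) * x := by group
        _ = _ := by rw [← e3]; group
    refine h.fpf v hv ?_
    have := e4.pow_right 2
    rwa [← pow_mul, pow_succ' x 3, h.x3, mul_one] at this
  let C := A ⊓ centralizer {a}
  have mC : ∀ {v}, v ∈ C ↔ v ∈ A ∧ v * a = a * v := and_congr_right' mem_centralizer_singleton_iff
  have c1 : Nat.card C * Nat.card C ≤ 2 ^ 12 := by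
    rw [← Nat.card_prod, ← h.cA]
    refine Nat.card_le_card_of_injective (fun p : C × C => (⟨p.1 * (x * p.2 * x⁻¹), mul_mem p.1.2.1 (nx _ p.2.2.1)⟩ : A))
      fun p p' e => ?_
    have e : p.1 * (x * p.2 * x⁻¹) = p'.1 * (x * p'.2 * x⁻¹) := congrArg Subtype.val e
    have e1 : x * (p'.2 * p.2⁻¹ : C) * x⁻¹ = (p'.1⁻¹ * p.1 : C) := by
      push_cast
      rw [eq_mul_inv_of_mul_eq e]; group
    have e2 := ti _ (mC.1 (p'.2 * p.2⁻¹).2).1 (mC.1 (p'.2 * p.2⁻¹).2).2 (by rw [e1]; exact (mC.1 (p'.1⁻¹ * p.1).2).2)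
    have e3 : p'.2 = p.2 := mul_inv_eq_one.1 (Subtype.ext e2)
    rw [e3] at e
    exact Prod.ext (Subtype.ext (mul_right_cancel e)) e3.symm
  let φ : A →* X := MonoidHom.mk' (fun q => q * (a * q * a⁻¹)) fun q r => by
    rw [coe_mul, ← conj_mul, mul_assoc, ← mul_assoc (r : X), h.comm r.2 (nA _ q.2)]; group
  have hφ : ∀ q, φ q = q * (a * q * a⁻¹) := fun _ => rfl
  have k1 : φ.ker ≤ C.subgroupOf A := fun q hq => mC.2 ⟨q.2, by
    have := eq_inv_of_mul_eq_one_right hq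
    rw [h.inv q.2] at this
    exact (mul_inv_eq_iff_eq_mul.1 this).symm⟩
  have k2 : φ.range ≤ C := by
    rintro _ ⟨q, rfl⟩
    exact mC.2 ⟨mul_mem q.2 (nA _ q.2), h.cw aL a2 q.2⟩
  have c2 := φ.ker.card_mul_index
  rw [index_ker, h.cA] at c2
  have c3 := card_le_of_le k1
  rw [Nat.card_congr (subgroupOfEquivOfLe (inf_le_left : C ≤ A)).toEquiv] at c3
  have c4 := card_le_of_le k2
  have c5 : Nat.card C = 64 := by nlinarith [Nat.mul_le_mul c3 c4]
  have c6 : φ.range = C := eq_of_le_of_card_ge k2 (by nlinarith)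
  refine ⟨c5, fun w hw e => ?_⟩
  obtain ⟨q, rfl⟩ : w ∈ φ.range := c6 ▸ mC.2 ⟨hw, e⟩
  exact ⟨q, q.2, by rw [hφ, ai]; group⟩

theorem four {g : X} (le : g •ᶜ A ≤ normalizer (A : Set X)) : g •ᶜ A = A := by
  refine cj_eq_of_le ?_
  by_contra hD
  obtain ⟨a, ha, a0⟩ := SetLike.not_le_iff_exists.1 hD
  have c1 := h.half le_rfl le
  have c2 := (h.outer (le ha) ((h.cj g).hA a ha) (h.two ha (le ha) a0)).1
  have c3 := card_le_of_le (show g •ᶜ A ⊓ A ≤ A ⊓ centralizer {a} from fun b hb =>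
    ⟨hb.2, mem_centralizer_singleton_iff.2 ((h.cj g).comm hb.1 ha)⟩)
  rw [(h.cj g).cA] at c1
  omega

theorem four' {T : Subgroup X} (hT : IsPGroup 2 T) (le : A ≤ T) : T ≤ normalizer (A : Set X) := by
  by_contra hn
  obtain ⟨u, hu, u0⟩ := SetLike.exists_of_lt (lt_inf_normalizer_of_lt hT (inf_lt_left.2 hn))
  exact u0 ⟨hu.1, mem_normalizer_iff_cj.2 (h.four ((cj_le_of_mem_normalizer (le_inf le le_normalizer) hu.2).trans
    inf_le_right))⟩

theorem five {I : Subgroup X} (le : I ≤ A) (c : 32 ≤ Nat.card I) {s : X} (s3 : s ^ 3 = 1)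
    (k : ∀ i ∈ I, s * i = i * s) : s = 1 := by
  have : Fact (Nat.Prime 3) := ⟨Nat.prime_three⟩
  by_contra s1
  obtain ⟨S, hS, l⟩ := exists_sylIn_ge (pg_zpowers h.x3) (le_top (a := zpowers x))
  obtain ⟨c, -, l'⟩ := hS.exists_le_conj (pg_zpowers s3) le_top
  have sL : s ∈ normalizer ((c •ᶜ A : Subgroup X) : Set X) := cj_normalizer c A ▸
    cj_mono c (h.three hS.pgroup (l (mem_zpowers x)) h.xA h.x3 h.x1) (l' (mem_zpowers s))
  have c1 := (h.cj c).fix s sL s3 s1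
  have c2 := card_le_of_le (show I ≤ c •ᶜ A ⊓ centralizer {s} from fun i hi =>
    ⟨(h.cj c).one (g := c⁻¹) (by rw [inv_cj_cj]; exact le hi) sL s3 s1 (k i hi),
      mem_centralizer_singleton_iff.2 (k i hi).symm⟩)
  omega

theorem six {g a : X} (ha : a ∈ g •ᶜ A) (aL : a ∈ normalizer (A : Set X)) : a ∈ A := by
  by_contra a0
  have a2 := (h.cj g).hA a ha
  have ai : a⁻¹ = a := inv_eq_of_mul_eq_one_right a2
  obtain ⟨cC, sC⟩ := h.outer aL a2 (h.two ha aL a0)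
  obtain ⟨T, hT, le⟩ := exists_sylIn_ge (h.pg.to_inf_left (K := centralizer {a})) inf_le_right
  obtain ⟨c, hc, k⟩ := hT.exists_conj_le (h.cj g).pg fun b hb => mem_centralizer_singleton_iff.2 ((h.cj g).comm hb ha)
  have aB := conj_mem_cj (g := c) ha
  rw [mul_inv_eq_iff_eq_mul.2 (mem_centralizer_singleton_iff.1 hc)] at aB
  rw [← cj_mul] at k aB
  have hB := h.cj (c * g)
  have eA : A = (c * g)⁻¹ •ᶜ ((c * g) •ᶜ A) := (inv_cj_cj _ _).symm
  have nB := le.trans (hB.four' hT.pgroup k)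
  have mC : ∀ {v}, v ∈ A ⊓ centralizer {a} ↔ v ∈ A ∧ v * a = a * v := and_congr_right' mem_centralizer_singleton_iff
  by_cases hC : A ⊓ centralizer {a} ≤ (c * g) •ᶜ A
  · let Y := centralizer ((A ⊓ centralizer {a} : Subgroup X) : Set X) ⊓ centralizer {a}
    have BY : (c * g) •ᶜ A ≤ Y := fun b hb =>
      ⟨fun w hw => hB.comm (hC hw) hb, mem_centralizer_singleton_iff.2 (hB.comm hb aB)⟩
    have nY : A ≤ normalizer (Y : Set X) := fun q hq => mem_normalizer_fintype fun y hy => by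
      have e : ∀ v, q⁻¹ * v * q * y = y * (q⁻¹ * v * q) → v * (q * y * q⁻¹) = q * y * q⁻¹ * v := fun v e => by
        calc _ = q * (q⁻¹ * v * q * y) * q⁻¹ := by group
          _ = _ := by rw [e]; group
      refine ⟨fun w hw => e w ?_, mem_centralizer_singleton_iff.2 (e a ?_).symm⟩
      · rw [h.comm (inv_mem hq) hw.1, inv_mul_cancel_right]; exact hy.1 w hw
      · have m := (mem_normalizer_iff.1 aL q).1 hq
        have := hy.1 _ (mC.2 ⟨mul_mem hq m, h.cw aL a2 hq⟩)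
        rw [h.comm hq m] at this
        rw [h.inv hq, show q * a * q = a * (a * q * a⁻¹ * q) by rw [ai]; simp only [← mul_assoc, a2, one_mul],
          mul_assoc, this, ← mul_assoc a y, ← mem_centralizer_singleton_iff.1 hy.2, mul_assoc]
    obtain ⟨T', hT', le'⟩ := exists_sylIn_ge h.pg (le_sup_right : A ≤ Y ⊔ A)
    obtain ⟨u, hu, k'⟩ := hT'.exists_conj_le hB.pg (BY.trans le_sup_left)
    have l := cj_le_of_mem_normalizer BY (sup_le le_normalizer nY hu)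
    rw [← cj_mul] at k' l
    rw [h.four (k'.trans (h.four' hT'.pgroup le'))] at l
    rw [inf_eq_left.2 (l.trans inf_le_right), h.cA] at cC
    omega
  obtain ⟨w, hw, w0⟩ := SetLike.not_le_iff_exists.1 hC
  have c1 := hB.half (inf_le_left.trans eA.le) nB
  obtain ⟨wA, wa⟩ := mC.1 hw
  obtain ⟨q, hq, e1⟩ := sC w wA wa
  obtain ⟨b, hb, e2⟩ := (hB.outer (nB hw) (h.hA w wA) (hB.two (eA.le wA) (nB hw) w0)).2 a aB wa.symm
  have r1 : q * b * a * (q * b)⁻¹ = w * a := by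
    rw [mul_assoc q, hB.comm hb aB, mul_inv_rev, h.inv hq, e1, mul_assoc _ a a, a2]; group
  have r2 : q * b * w * (q * b)⁻¹ = a := by
    have : b * w * b⁻¹ = a * w := by rw [hB.inv hb, e2, mul_assoc _ w w, h.hA w wA, mul_one]
    rw [show q * b * w * (q * b)⁻¹ = q * (b * w * b⁻¹) * q⁻¹ by group, this, ← mul_assoc, mul_assoc _ w,
      h.comm wA (inv_mem hq), h.inv hq, ← mul_assoc, ← mul_left_inj a, mul_assoc _ w, wa, ← mul_assoc, ← e1, a2,
      h.hA w wA]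
  have rI : ∀ i ∈ A ⊓ centralizer {a} ⊓ (c * g) •ᶜ A, Commute (q * b) i := fun i hi =>
    (show Commute q i from h.comm hq hi.1.1).mul_left (hB.comm hb hi.2)
  generalize q * b = r at r1 r2 rI
  have r3 : Commute (r ^ 3) a := by
    rw [commute_iff_eq, ← mul_inv_eq_iff_eq_mul, show r ^ 3 * a * (r ^ 3)⁻¹ = r * (r * (r * a * r⁻¹) * r⁻¹) * r⁻¹ by
      simp only [pow_three, mul_inv_rev, mul_assoc], r1, ← conj_mul (b := r) (a := w), r1, r2, wa, ← mul_assoc a a, a2, one_mul, r2]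
  have d : 3 ∣ orderOf r := by
    by_contra d
    obtain ⟨m, hm⟩ := exists_pow_eq_self_of_coprime ((Nat.Prime.coprime_iff_not_dvd Nat.prime_three).2 d)
    rw [(hm ▸ r3.pow_left m : Commute r a).eq, mul_inv_cancel_right, right_eq_mul] at r1
    exact w0 (r1 ▸ one_mem _)
  have o := orderOf_pow_orderOf_div (orderOf_pos r).ne' d
  have o3 := pow_orderOf_eq_one (r ^ (orderOf r / 3))
  rw [o] at o3
  rw [h.five (inf_le_left.trans inf_le_left) (by omega) o3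
    fun i hi => ((rI i hi).pow_left _).eq, orderOf_one] at o
  omega

end Hs

end

theorem sclosed {X : Type*} [Group X] [Finite X] {A : Subgroup X} {x : X}
    (hA : ∀ a ∈ A, a * a = 1) (cA : Nat.card A = 2 ^ 12) (x3 : x ^ 3 = 1)
    (xA : x ∈ normalizer (A : Set X)) (fpf : ∀ a ∈ A, a * x = x * a → a = 1)
    (out : ∀ a ∈ normalizer (A : Set X), a * x * a⁻¹ * x⁻¹ ∈ A ∨ a * x * a⁻¹ * x ∈ A)
    (se : ∀ g s : X, s ∈ normalizer (A : Set X) → s ^ 3 = 1 → s ≠ 1 →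
      g * s * g⁻¹ ∈ normalizer (A : Set X) → g ∈ normalizer (A : Set X))
    (inn : ∀ a ∈ normalizer (A : Set X), a * a = 1 → a * x * a⁻¹ * x⁻¹ ∈ A →
      ∃ s ∈ normalizer (A : Set X), s ^ 3 = 1 ∧ s ≠ 1 ∧ s * a = a * s)
    (fix : ∀ s ∈ normalizer (A : Set X), s ^ 3 = 1 → s ≠ 1 →
      Nat.card (A ⊓ centralizer {s} : Subgroup X) ≤ 16) :
    ∀ a ∈ A, ∀ g : X, g * a * g⁻¹ ∈ normalizer (A : Set X) → g * a * g⁻¹ ∈ A :=
  fun _ ha _ => Hs.six ⟨hA, cA, x3, xA, fpf, out, se, inn, fix⟩ (conj_mem_cj ha)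

end CL.J4T
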