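/- Elements of order 3 in the centraliser of the involution of a group of Janko-four type. -/
import Cfsg.Agent.SPOR.J4.OddB
import Cfsg.Agent.SPOR.J4.ThreeA

set_option autoImplicit false

namespace CL.J4T

namespace Lc

open CL.J4 CL.K CL.CG CL.F2M CL.LX CL.MSS Cfsg CL.Golay CL.MAut MulAction
open CL.F24 hiding qf bf qf_add bf_add_left bf_comm bf_add_right bf_self qf_zero bf_zero_left bf_zero_right bf_eq qC bC qC_code bC_code Z0 code_Z0 code_Z0_inv Z0_sq Z0_cube Z0_sum add_Z0 eq_zero_of_Z0 qf_Z0 qf_Z0_inv bf_smul bf_Z0_self eq_zero_of_bf Frame cw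

/-- a matrix of order 3 commuting with `om 1` -/
def mS : ℕ := 0xefa99f405c0a0d00a000800403402c009007
/-- the permutation under it -/
def pS : ℕ := 963800599597761111419754753172224064
/-- the vectors fixed by `m31` -/
def F31 : List ℕ := [0, 28, 36, 56, 1920, 1948, 1956, 1976, 2496, 2524, 2532, 2552, 3648, 3676, 3684, 3704]

theorem chkS : allLt2 (fun u => !Nat.beq (ac (om 1) u) u || anyLt (fun k =>
    force (Nat.xor u (Nat.xor (64 * k) (ac (om 1) (64 * k)))) fun v => Nat.beq (ac mS v) v) 16) 64 64 = true := by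
  decide +kernel

theorem chk31 : allLt2 (fun u => !Nat.beq (ac m31 u) u || lmem u F31) 64 64 = true := by decide +kernel

variable {G : Type*} [Group G] {z : G} {Q : Subgroup G} {κ : G → W}
  {ρ : Subgroup.centralizer ({z} : Set G) →* GL12}
  {μ : Subgroup.centralizer ({z} : Set G) →* Pm} {x : G} (S : HS z Q κ ρ μ x)
include S

theorem q_conj {g q : G} (hg : g * z = z * g) (hq : q ∈ Q) : g * q * g⁻¹ ∈ Q :=
  let ⟨_, _, h⟩ := S.exists_jg hg
  (h.conj_Q hq).1

theorem one {a : G} (ha : a * z = z * a) : ∃ A P, S.Jg a A P ∧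
    ((ob P = 0 ∧ a * x * a⁻¹ * x⁻¹ ∈ Q) ∨ (ob P = 1 ∧ a * x * a⁻¹ * x ∈ Q)) := by
  obtain ⟨u, A, P, h⟩ := S.exists_el ha
  refine ⟨A, P, h.jg, ?_⟩
  obtain ⟨hu, c, hc, rfl⟩ := h
  have hq := S.sc_mem u
  have hx := S.x_z.eq
  rcases hc.conj_x with ⟨e, k⟩ | ⟨e, k⟩
  · refine Or.inl ⟨e, ?_⟩
    rw [show S.sc u * c * x * (S.sc u * c)⁻¹ * x⁻¹ = S.sc u * (c * x * c⁻¹ * (S.sc u)⁻¹ * x⁻¹) by group, k,
      mul_inv_cancel_right]
    exact mul_mem hq (q_conj S hx (inv_mem hq))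
  · refine Or.inr ⟨e, ?_⟩
    rw [show S.sc u * c * x * (S.sc u * c)⁻¹ * x = S.sc u * (c * x * c⁻¹ * (S.sc u)⁻¹ * x⁻¹⁻¹) by group, k]
    exact mul_mem hq (q_conj S S.x_z.inv_left.eq (inv_mem hq))

theorem x_not : x * x ∉ Q := fun h => by
  have k := (S.jt_x.mul S.jt_x).1.unique (S.jg_Q h)
  exact absurd k (by decide +kernel)

omit S in
/-- the property to be proved is invariant under conjugation -/
theorem tr {a g : G} (hg : g * z = z * g)
    (h : ∃ s, s * z = z * s ∧ s ^ 3 = 1 ∧ s ≠ 1 ∧ s * (g * a * g⁻¹) = g * a * g⁻¹ * s) :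
    ∃ s, s * z = z * s ∧ s ^ 3 = 1 ∧ s ≠ 1 ∧ s * a = a * s := by
  obtain ⟨s, h1, h2, h3, h4⟩ := h
  have hg' : Commute g z := hg
  have h1' : Commute s z := h1
  refine ⟨g⁻¹ * s * g, ((hg'.inv_left.mul_left h1').mul_left hg').eq, iconj_pow h2, fun e => h3 ?_, ?_⟩
  · calc s = g * (g⁻¹ * s * g) * g⁻¹ := by group
      _ = 1 := by rw [e]; group
  · calc g⁻¹ * s * g * a = g⁻¹ * (s * (g * a * g⁻¹)) * g := by group
      _ = _ := by rw [h4]; group

theorem two {a : G} (ha : a * z = z * a) (h2 : a * a = 1 ∨ a * a = z) (hx : a * x * a⁻¹ * x⁻¹ ∈ Q) :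
    ∃ s, s * z = z * s ∧ s ^ 3 = 1 ∧ s ≠ 1 ∧ s * a = a * s := by
  obtain ⟨s, hs, s3⟩ := S.exists_jt_odd (S.jp_of_jchk (A := mS) (P := pS) (by decide +kernel)
    (by decide +kernel)) (by decide : Odd 3) (by decide +kernel)
  have s1 : s ≠ 1 := fun e => absurd ((e ▸ hs).1.unique S.jt_one.1) (by decide +kernel)
  have sz : Commute s z := hs.1.comm
  have su : ∀ u < 4096, ac mS u = u → Commute s (S.sc u) := fun u hu e => by
    have k := hs.mul_sc hu
    rwa [e, show ob pS = 0 by decide +kernel, zero_mul, pow_zero, mul_one] at k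
  obtain ⟨A, P, h, k⟩ := one S ha
  have ho : ob P = 0 := by
    rcases k with k | k
    · exact k.1
    · refine absurd ?_ (x_not S)
      have := mul_mem (inv_mem hx) k.2
      rwa [show (a * x * a⁻¹ * x⁻¹)⁻¹ * (a * x * a⁻¹ * x) = x * x by group] at this
  have e : mm A A = c1 := h.sq_eq (by rcases h2 with e | e <;> rw [e]; exacts [one_mem _, S.lx.z_mem])
  by_cases hA : A = c1
  · have hq : a ∈ Q := (hA ▸ h).mem_Q
    have key : ∀ b u : ℕ, u < 4096 → ac mS u = u → κ a ≠ 0 → u ≠ 0 →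
        κ a ∈ orbit (gen gcode LG : Subgroup GL12) (vdec 12 b) →
        vdec 12 u ∈ orbit (gen gcode LG : Subgroup GL12) (vdec 12 b) →
        ∃ s, s * z = z * s ∧ s ^ 3 = 1 ∧ s ≠ 1 ∧ s * a = a * s := fun b u hu e h0 _ h1 h2 => by
      obtain ⟨c, hc, e1⟩ := S.conj_of_orbit hq h0 (orbit_eq_iff.2 h2 ▸ h1)
      refine tr (g := c⁻¹) (Commute.inv_left hc).eq ⟨s, sz.eq, s3, s1, ?_⟩
      rw [← e1, show c⁻¹ * (c * S.sc u * c⁻¹) * c⁻¹⁻¹ = S.sc u by group]
      exact (su u hu e).eq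
    by_cases h0 : κ a = 0
    · refine ⟨s, sz.eq, s3, s1, ?_⟩
      rcases (S.κ_zero a hq).1 h0 with rfl | rfl
      exacts [by rw [mul_one, one_mul], sz.eq]
    rcases vec_cases (vcode_lt (κ a)) with ⟨-, e | e | e⟩ | ⟨-, e⟩
    · exact absurd (vcode_injective (e.trans vcode_zero.symm)) h0
    · exact key 1 1507 (by norm_num) (by decide +kernel) h0 (by norm_num) ((orb693 _).2 e)
        ((orb693 _).2 (by rw [vv (by norm_num)]; decide +kernel))
    · exact key 20 28 (by norm_num) (by decide +kernel) h0 (by norm_num) ((orb1386 _).2 e)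
        ((orb1386 _).2 (by rw [vv (by norm_num)]; decide +kernel))
    · exact key 65 1479 (by norm_num) (by decide +kernel) h0 (by norm_num) ((orb2016 _).2 e)
        ((orb2016 _).2 (by rw [vv (by norm_num)]; decide +kernel))
  obtain ⟨d, d1, -, d3⟩ := h.inv_rep e hA
  refine tr d1 ?_
  obtain ⟨u, hu⟩ := (d3.resolve_right fun k => k.1 ho).2.exists_el
  have y2 : d * a * d⁻¹ * (d * a * d⁻¹) = 1 ∨ d * a * d⁻¹ * (d * a * d⁻¹) = z := by
    rw [conj_mul]
    refine h2.imp (fun e => by rw [e]; group) fun e => by rw [e, d1, mul_inv_cancel_right]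
  generalize d * a * d⁻¹ = y at hu y2
  have o1 : ob (ol 1) = 0 := by decide +kernel
  have fx : ac (om 1) u = u := by
    obtain ⟨hu, c, h1, rfl⟩ := hu
    rw [h1.sq hu, h1.eps_inner o1 (by decide +kernel), mul_one] at y2
    have h2 := xor_lt4096 hu (ac_lt (om 1) u)
    refine (Nat.xor_eq_zero_iff.1 ?_).symm
    rcases y2 with h1 | h1
    · exact (S.sc_inj (w := 0) (b := 0) h2 (by norm_num) (by rw [h1, S.sc_zero, pow_zero, mul_one])).1
    · exact (S.sc_inj (w := 0) (b := 1) h2 (by norm_num) (by rw [h1, S.sc_zero, pow_one, one_mul])).1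
  have k1 := allLt2_iff.1 chkS u hu.1
  rw [fx, Nat.beq_refl, Bool.not_true, Bool.false_or, anyLt_iff] at k1
  obtain ⟨j, hj, k1⟩ := k1
  rw [force_eq] at k1
  obtain ⟨hv, c, hc, e1⟩ := hu.conj_sc (w := 64 * j) (by omega)
  refine tr (S.sc_z (64 * j)) ⟨s, sz.eq, s3, s1, ?_⟩
  rw [e1]
  refine ((su _ hv (Nat.eq_of_beq_eq_true k1)).mul_right ?_).eq
  rcases (hs.conj_eq hc hc.1.jp (by decide +kernel)).eq_or hc with e | e
  · exact mul_inv_eq_iff_eq_mul.1 e
  · exfalso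
    have e3 : s ^ 3 * c * (s ^ 3)⁻¹ = c * z := by
      have e2 : s * (c * z) * s⁻¹ = c := by
        rw [← conj_mul, e, sz.eq, mul_inv_cancel_right, mul_assoc, S.zz, mul_one]
      calc s ^ 3 * c * (s ^ 3)⁻¹ = s * (s * (s * c * s⁻¹) * s⁻¹) * s⁻¹ := by
            simp only [pow_succ, pow_zero, one_mul, mul_inv_rev, mul_assoc]
        _ = _ := by rw [e, e2, e]
    rw [s3, one_mul, inv_one, mul_one, left_eq_mul] at e3
    exact S.lx.z_ne e3

theorem card_conj [Finite G] {g s : G} (hg : g * z = z * g) :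
    Nat.card (Q ⊓ Subgroup.centralizer {s} : Subgroup G) ≤
      Nat.card (Q ⊓ Subgroup.centralizer {g * s * g⁻¹} : Subgroup G) :=
  Nat.card_le_card_of_injective (fun q => ⟨g * q * g⁻¹, q_conj S hg q.2.1,
    Subgroup.mem_centralizer_singleton_iff.2 (by
      rw [conj_mul, conj_mul, Subgroup.mem_centralizer_singleton_iff.1 q.2.2])⟩)
    fun p q e => Subtype.ext (mul_left_cancel (mul_right_cancel (congrArg Subtype.val e)))

theorem card_le {X : Subgroup G} (hX : X ≤ Q) (h : ∀ q ∈ X, vcode (κ q) ∈ F31) : Nat.card X ≤ 32 := by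
  classical
  have k : (X : Set G) ⊆ ↑((F31.toFinset ×ˢ Finset.range 2).image fun p => S.sc p.1 * z ^ p.2) := fun q hq => by
    obtain ⟨u, hu, e⟩ := S.exists_sc (hX hq)
    have e1 : vcode (κ q) = u := by
      rcases e with e | e <;> rw [e]
      · rw [S.κ_sc, vv hu]
      · rw [S.κ_mul_z (S.sc_mem u), S.κ_sc, vv hu]
    have h1 := List.mem_toFinset.2 (e1 ▸ h q hq)
    rw [Finset.mem_coe, Finset.mem_image]
    rcases e with e | e
    · exact ⟨(u, 0), Finset.mem_product.2 ⟨h1, by simp⟩, by rw [e, pow_zero, mul_one]⟩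
    · exact ⟨(u, 1), Finset.mem_product.2 ⟨h1, by simp⟩, by rw [e, pow_one]⟩
  rw [← SetLike.coe_sort_coe, Nat.card_coe_set_eq]
  refine (Set.ncard_le_ncard k (Finset.finite_toSet _)).trans ?_
  rw [Set.ncard_coe_finset]
  refine Finset.card_image_le.trans ?_
  rw [Finset.card_product, Finset.card_range]
  exact Nat.mul_le_mul_right 2 (List.toFinset_card_le F31)

theorem three [Finite G] {s : G} (hs : s * z = z * s) (h3 : s ^ 3 = 1) (h1 : s ≠ 1) :
    Nat.card (Q ⊓ Subgroup.centralizer {s} : Subgroup G) ≤ 32 := by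
  have : Fact (Nat.Prime 3) := ⟨Nat.prime_three⟩
  obtain ⟨T, hT⟩ := S.exists_syl3
  obtain ⟨g, hg, k⟩ := (sylIn_of_not_dvd_relIndex hT.pgroup
    (fun c hc => Subgroup.mem_centralizer_singleton_iff.2 (hT.comm hc).1) hT.not_dvd).exists_conj_le
    (R := Subgroup.zpowers s) (IsPGroup.of_card (n := 1) (by
      rw [Nat.card_zpowers, orderOf_eq_prime h3 h1, pow_one]))
    ((Subgroup.zpowers_le_of_mem (Subgroup.mem_centralizer_singleton_iff.2 hs)))
  have hc : g * s * g⁻¹ ∈ T := k (conj_mem_cj (Subgroup.mem_zpowers s))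
  refine (card_conj S (Subgroup.mem_centralizer_singleton_iff.1 hg)).trans ?_
  have c1 : g * s * g⁻¹ ≠ 1 := fun e => h1 (conj_eq_one_iff.1 e)
  generalize g * s * g⁻¹ = c at hc c1
  have c3 := ((hT.2 c).1 hc).2
  obtain ⟨A, P, k, h2⟩ := HS.mem_preN.1 ((hT.2 c).1 hc).1
  obtain ⟨U, h3, h4⟩ := k.chk3 h2
  rewrite [chk3, Bool.and_eq_true, Bool.or_eq_true, Bool.and_eq_true, lany_iff] at h4
  rcases h4.2 with e | ⟨-, D, -, e⟩
  · have hx := HS.mem_zpowers_x (h3.mem_preN ⟨1, one_mem _, eq_of_beq e ▸ Golay.R.one⟩) c3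
    have hx' : x ∈ Subgroup.zpowers c := by
      rw [Subgroup.eq_of_le_of_card_ge ((Subgroup.zpowers_le_of_mem hx)) (by
        rw [Nat.card_zpowers, Nat.card_zpowers, S.orderOf_x, orderOf_eq_prime c3 c1])]
      exact Subgroup.mem_zpowers x
    refine card_le S inf_le_left fun q hq => ?_
    obtain ⟨n, hn⟩ := hx'
    have : Commute q c := Subgroup.mem_centralizer_singleton_iff.1 hq.2
    rw [(S.κ_zero q hq.1).2 (S.cent_Q S.hx hq.1 (by rw [← hn]; exact (this.zpow_right n).eq)), vcode_zero]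
    exact List.mem_cons_self
  · rewrite [force_eq, Bool.and_eq_true] at e
    obtain ⟨d, hd⟩ := S.exists_jt' e.1
    obtain ⟨r, r1, r2⟩ := S.exists_r.1
    have e1 : d * r * d⁻¹ = c := (hd.conj_eq r1 h3.1.jp (eq_of_beq e.2)).eq_of_pow h3 (by decide : Odd 3)
      (by rw [conj_pow, r2]; group) c3
    refine (card_conj S (Commute.inv_left hd.1.comm).eq).trans ?_
    rw [← e1, show d⁻¹ * (d * r * d⁻¹) * d⁻¹⁻¹ = r by group]
    refine card_le S inf_le_left fun q hq => ?_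
    have k1 := (r1.1.conj_Q hq.1).2
    rw [← Subgroup.mem_centralizer_singleton_iff.1 hq.2, mul_inv_cancel_right] at k1
    have k2 := allLt2_iff.1 chk31 _ (vcode_lt (κ q))
    rw [← k1, Nat.beq_refl, Bool.not_true, Bool.false_or] at k2
    exact lmem_iff.1 k2

end Lc

open Subgroup Cfsg CL.LX

theorem loc_of_type {G : Type*} [Group G] [Finite G] {z x : G}
    (h : IsOfJankoFourTypeWith z (zpowers x)) :
    (∀ a, a * z = z * a → a * x * a⁻¹ * x⁻¹ ∈ O2C z ∨ a * x * a⁻¹ * x ∈ O2C z) ∧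
    (∀ a, a * z = z * a → (a * a = 1 ∨ a * a = z) → a * x * a⁻¹ * x⁻¹ ∈ O2C z →
      ∃ s, s * z = z * s ∧ s ^ 3 = 1 ∧ s ≠ 1 ∧ s * a = a * s) ∧
    ∀ s, s * z = z * s → s ^ 3 = 1 → s ≠ 1 →
      Nat.card (O2C z ⊓ centralizer {s} : Subgroup G) ≤ 32 := by
  classical
  obtain ⟨κ, ρ, μ, y, S, e⟩ := CL.J4.exists_hs h
  have hy : x = y ∨ x = y⁻¹ := by
    have h1 : x ≠ 1 := fun k => S.x_ne (by
      have := e.ge (mem_zpowers y)
      rwa [k, zpowers_one_eq_bot, mem_bot] at this)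
    obtain ⟨n, hn⟩ := (mem_zpowers_iff_mem_range_orderOf.1 (e.le (mem_zpowers x)) :)
      |> Finset.mem_image.1
    rw [S.orderOf_x, Finset.mem_range] at hn
    obtain ⟨hn, rfl⟩ := hn
    interval_cases n
    · exact absurd (pow_zero y) h1
    · exact Or.inl (pow_one y)
    · exact Or.inr (by rw [pow_two, S.xx])
  have yz := S.x_z
  refine ⟨fun a ha => ?_, fun a ha h2 hx => Lc.two S ha h2 ?_, fun s => Lc.three S⟩
  · obtain ⟨A, P, -, k⟩ := Lc.one S ha
    rcases hy with rfl | rfl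
    · exact k.imp And.right And.right
    · refine k.imp (fun k => ?_) fun k => ?_
      · have := inv_mem (Lc.q_conj S yz.inv_left.eq k.2)
        rwa [show (y⁻¹ * (a * y * a⁻¹ * y⁻¹) * y⁻¹⁻¹)⁻¹ = a * y⁻¹ * a⁻¹ * y⁻¹⁻¹ by group] at this
      · have := inv_mem (Lc.q_conj S yz.eq k.2)
        rwa [show (y * (a * y * a⁻¹ * y) * y⁻¹)⁻¹ = a * y⁻¹ * a⁻¹ * y⁻¹ by group] at this
  · rcases hy with rfl | rfl
    · exact hx
    · have := inv_mem (Lc.q_conj S yz.eq hx)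
      rwa [show (y * (a * y⁻¹ * a⁻¹ * y⁻¹⁻¹) * y⁻¹)⁻¹ = a * y * a⁻¹ * y⁻¹ by group] at this

end CL.J4T
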