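/- Simplicity. -/
import Cfsg.Agent.SPOR.J4T.QDef

set_option autoImplicit false

namespace CL.J4T

open CL.K CL.LX Cfsg CL.Golay CL.MAut CL.J4 Subgroup

variable {G : Type*} [Group G] [Finite G] {x y z : G} {μ : G → Pm}

/-- PROOF. Let `N ≠ ⊥` be normal, `K = C(x)`. If `3 ∣ |N|` then `N` contains all elements of order 3 (`fus`), so
`K ≤ N` (`Tr.sim` for `N ⊓ K ∋ y`, `Tr.three`, `Ch.pr`). `y` is inverted by some `s ∈ K` (`p31` is inverted in `M22`,
e.g. `Tr.μ_three` for `y⁻¹`, then `eq_three`, `yx`, `pow_cj_cen` as in `Ch.pair`), and `y` is conjugate to `x`, so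
`Nm x ≤ N` (`Tr.cases`). The Sylow 3-subgroup `T` of `Tri.syl` (`Tr.exists_six`, `tri_of_six`) lies in `K`, its
normaliser in `Nm x`, and Frattini (`Sylow.normalizer_sup_eq_top'`) gives `N = ⊤`.
If `3 ∤ |N|` then for each `a ∈ [x, y, y x, y x⁻¹]`, with a chart `Ch a b t ν` (`Tr.chart`; `Pr.symm`, `Pr.mul`),
`N ⊓ C(a) ≤ ⟨a t⟩` (`sim`, `a ∉ N`) centralises `x`, so `N ≤ C(x)` by `Pr.genE`, hence `N ≤ ⟨z⟩` (`Tr.dec`), `z` is
central in `G`, against `hz`. -/
theorem Ch.simple (h : Ch x y z μ) (hz : ¬ ∀ k, k * y = y * k → k * z = z * k) : IsSimpleGroup G := by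
  have : Fact (Nat.Prime 3) := ⟨Nat.prime_three⟩
  have z1 : z ≠ 1 := fun e => hz fun k _ => by rw [e, mul_one, one_mul]
  have : Nontrivial G := ⟨x, 1, h.x1⟩
  refine ⟨fun N hN => ?_⟩
  by_cases h3 : 3 ∣ Nat.card N
  · right
    obtain ⟨a, ha⟩ := exists_prime_orderOf_dvd_card' 3 h3
    have a3 : (a : G) ^ 3 = 1 := by rw [← coe_pow, ← ha, pow_orderOf_eq_one, coe_one]
    have a1 : (a : G) ≠ 1 := fun e => by
      rw [show a = 1 from Subtype.ext e, orderOf_one] at ha; exact absurd ha (by decide)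
    obtain ⟨u, hu⟩ := isConj_iff.1 (h.fus y h.y3 h.pr.b1)
    have yN : y ∈ N := by
      obtain ⟨c, hc⟩ := isConj_iff.1 ((h.fus a a3 a1).symm.trans (h.fus y h.y3 h.pr.b1))
      exact hc ▸ hN.conj_mem _ a.2 c
    have KN' : ∀ k, k * x = x * k → k ∈ N := fun k hk =>
      (((h.sim (N ⊓ centralizer {x}) (fun d hd => mz.1 hd.2) fun k hk d hd =>
        ⟨hN.conj_mem _ hd.1 k, mz.2 (h.conj_K (KN hk) (mz.1 hd.2))⟩).resolve_left fun e =>
          h.pr.n (h.three (e ⟨yN, mz.2 h.yK⟩) h.y3)) k hk).1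
    obtain ⟨s, s1, s2⟩ := h.pair h.pr.inv
    have sN : u⁻¹ * s * u ∈ N := by
      simpa using hN.conj_mem _ (KN' s (mul_inv_eq_iff_eq_mul.1 s1)) u⁻¹
    have s3 : u⁻¹ * s * u * x * (u⁻¹ * s * u)⁻¹ = x⁻¹ := by
      calc _ = u⁻¹ * (s * (u * x * u⁻¹) * s⁻¹) * u := by group
        _ = _ := by rw [hu, s2, ← hu]; group
    have NN : Nm x ≤ N := fun g hg => (h.cases hg).elim (KN' g) fun e => by
      refine (mul_mem_cancel_left sN).1 (KN' _ (mul_inv_eq_iff_eq_mul.1 ?_))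
      generalize u⁻¹ * s * u = t at s3
      calc _ = t * (g * x * g⁻¹) * t⁻¹ := by group
        _ = _ := by rw [e, ← conj_inv, s3, inv_inv]
    obtain ⟨φ, hφ⟩ := h.exists_six z1
    obtain ⟨T, -, t2, t3, -⟩ := (tri_of_six hφ).syl
    rw [← T.normalizer_sup_eq_top' (N := N) fun a ha => KN' a (t2 a ha), eq_comm, sup_eq_right]
    refine fun g hg => NN (Nm_of ?_)
    obtain ⟨⟨x', xT⟩, -, e⟩ : x ∈ (center (T : Subgroup G)).map (T : Subgroup G).subtype :=
      t3 ▸ mem_zpowers x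
    obtain rfl : x' = x := e
    rw [← t3]
    refine ⟨⟨_, (mem_normalizer_iff.1 hg _).1 xT⟩, mem_center_iff.2 fun b => Subtype.ext ?_, rfl⟩
    change (b : G) * (g * x' * g⁻¹) = g * x' * g⁻¹ * b
    rw [← cj_cj' g b, comm_cj]
    exact t2 _ ((mem_normalizer_iff.1 hg _).2 (by rw [cj_cj']; exact b.2))
  · left
    have n3 : ∀ a ∈ N, a ^ 3 = 1 → a = 1 := fun a ha a3 => by
      by_contra a1
      exact h3 (orderOf_eq_prime a3 a1 ▸ (N.orderOf_mk a ha).symm ▸ orderOf_dvd_natCard (⟨a, ha⟩ : N))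
    have key : ∀ a b : G, Pr a b → ∀ d ∈ N, d * a = a * d → ∀ k, k * a = a * k → d * k = k * d :=
      fun a b p d hd e k hk => by
        obtain ⟨g, ν, -, c⟩ := h.chart p.a3 p.a1 p.c p.b3 p.n
        refine (c.cen (((c.sim (N ⊓ centralizer {a}) (fun d hd => mz.1 hd.2) fun k hk d hd =>
          ⟨hN.conj_mem _ hd.1 k, mz.2 (c.conj_K (KN hk) (mz.1 hd.2))⟩).resolve_right fun e =>
            p.a1 (n3 a (e a rfl).1 p.a3)) ⟨hd, mz.2 e⟩) hk).symm
    have nn : ∀ g : G, g ∈ normalizer (N : Set G) := fun g => N.normalizer_eq_top ▸ mem_top g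
    have NK : N ≤ centralizer {x} := h.pr.genE (nn x) (nn y) h3 fun a ha d hd e => mz.2 (by
      simp only [List.mem_cons, List.not_mem_nil, or_false] at ha
      rcases ha with rfl | rfl | rfl | rfl
      · exact e
      · exact key _ _ h.pr.symm d hd e x h.yK.symm
      · have p := h.pr.mul (mem_zpowers x)
        exact key _ _ p.symm d hd e x p.c.symm
      · have p := h.pr.mul (inv_mem (mem_zpowers x))
        exact key _ _ p.symm d hd e x p.c.symm)
    have N2 : ∀ d ∈ N, d = 1 ∨ d = z := fun d hd => by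
      have m := h.mem_of_cent (mz.1 (NK hd)) fun l hl => by
        rw [← h.mul _ (KN hl) _ (KN (mz.1 (NK hd))), ← key _ _ h.pr d hd (mz.1 (NK hd)) l hl,
          h.mul _ (KN (mz.1 (NK hd))) _ (KN hl)]
      refine h.two' m (n3 _ (mul_mem hd hd) ?_)
      rw [← pow_two, ← pow_mul, h.six m]
    refine eq_bot_iff.2 fun d hd => mem_bot.2 ((N2 d hd).resolve_right fun e => hz fun k _ => ?_)
    exact mul_inv_eq_iff_eq_mul.1 ((N2 _ (hN.conj_mem z (e ▸ hd) k)).resolve_left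
      fun e => z1 (conj_eq_one_iff.1 e))

end CL.J4T
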